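import Cfsg.Agent.Lib.BrauerTuan.Count
import Cfsg.Agent.Lib.BrauerTuan.Orders
import Cfsg.Agent.Lib.BrauerTuan.SeventyNineTwentyInvolution
import Cfsg.Agent.Lib.Char.Virtual

/-!
# Simple groups of order 6048: the principal 7-block at involutions
-/

set_option autoImplicit false
set_option linter.unusedSectionVars false
set_option linter.style.haveILetI false

namespace CfsgLib.UThreeUnique

open CfsgLib CfsgLib.BrauerTuan

universe u

theorem key_degX : ∀ d < 81, degOK 6048 7 1 864 [7] d = true →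
    (d % 7 = 1 → d = 8 ∨ d = 36) ∧ (d % 7 = 6 → d = 6 ∨ d = 27 ∨ d = 48) := by decide +kernel

theorem key_degY : ∀ d < 81, degOK 6048 7 1 864 [7] d = true →
    (d % 7 = 3 → d = 24) ∧ (d % 7 = 4 → d = 4 ∨ d = 18 ∨ d = 32) := by decide +kernel

theorem key_sum : ∀ a ∈ ([-6, 8, -27, 36, -48] : List ℤ), ∀ b ∈ ([-6, 8, -27, 36, -48] : List ℤ),
    ∀ y ∈ ([-4, -18, 24, -32] : List ℤ), 1 + a + b = y →
      (a = -6 ∧ b = -27 ∧ y = -32) ∨ (a = -27 ∧ b = -6 ∧ y = -32) ∨
      (a = 8 ∧ b = -27 ∧ y = -18) ∨ (a = -27 ∧ b = 8 ∧ y = -18) := by decide +kernel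

theorem key_six : ∀ A ∈ ([-6, -2, 2, 6] : List ℤ),
    ∀ B ∈ ([-25, -21, -17, -13, -9, -5, -1, 3, 7, 11, 15, 19, 23, 27] : List ℤ),
      864 - 144 * (A * A) - 32 * (B * B) + 27 * ((A + B - 1) * (A + B - 1)) = 0 →
      (A = -2 ∧ B = 3) ∨ (A = 2 ∧ B = 15) ∨ A = 6 ∨ A = -6 := by decide +kernel

theorem key_eight : ∀ A ∈ ([-8, -4, 0, 4, 8] : List ℤ),
    ∀ B ∈ ([-25, -21, -17, -13, -9, -5, -1, 3, 7, 11, 15, 19, 23, 27] : List ℤ),
      216 + 27 * (A * A) - 8 * (B * B) + 12 * ((B - A - 1) * (B - A - 1)) = 0 → A = 8 ∨ A = -8 := by decide +kernel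

theorem key_index : ∀ i < 9, 2 ≤ i → SmallOrder.badIndex 6048 i = true ∨ 6048 % i ≠ 0 := by
  decide +kernel

open Cfsg
open scoped ComplexConjugate CfsgLib.Char
open scoped _root_.Classical

/-- A subgroup of a simple group of order 6048 of order at least 742 is everything. -/
theorem card_lt_of_ne_top {G : Type u} [Group G] [Finite G] [IsSimpleGroup G]
    (hcomm : ¬ IsMulCommutative G) (hn : Nat.card G = 6048) {H : Subgroup G} (hH : H ≠ ⊤) :
    Nat.card H ≤ 672 := by
  have h1 := SmallOrder.badIndex_eq_false hcomm hH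
  rw [hn] at h1
  have h2 : H.index ≠ 1 := fun h => hH (Subgroup.index_eq_one.mp h)
  have h3 : H.index ≠ 0 := Subgroup.index_ne_zero_of_finite
  have h4 := H.card_mul_index
  rw [hn] at h4
  by_contra h
  have h5 : H.index < 9 := by
    by_contra h'
    have := Nat.mul_le_mul (Nat.lt_of_not_le h) (Nat.le_of_not_lt h')
    omega
  rcases key_index H.index h5 (by omega) with h6 | h6
  · rw [h6] at h1
    exact Bool.noConfusion h1
  · exact h6 (Nat.mod_eq_zero_of_dvd ⟨Nat.card H, by rw [← h4, mul_comm]⟩)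

variable {G : Type u} [Group G] [Fintype G]

theorem norm_bound {χ : IrrCharacter G} {g : G} {a : ℤ} (h : (χ : G → ℂ) g = (a : ℂ)) :
    -(charDegree (χ : G → ℂ) : ℤ) ≤ a ∧ a ≤ (charDegree (χ : G → ℂ) : ℤ) := by
  obtain ⟨n, ρ, hρ⟩ := Char.isCharacter_of_isIrr χ.2
  have h1 : (Module.finrank ℂ (Fin n → ℂ) : ℂ) = (charDegree (χ : G → ℂ) : ℂ) := by
    rw [← Representation.char_one ρ, ← BrauerReynolds.value_one χ]
    exact congrFun hρ 1
  have h1' : (Module.finrank ℂ (Fin n → ℂ)) = charDegree (χ : G → ℂ) := by exact_mod_cast h1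
  have h2 := Char.norm_character_le ρ g
  rw [show ρ.character g = (a : ℂ) from (congrFun hρ g).trans h, h1', Complex.norm_intCast] at h2
  have h3 : |a| ≤ (charDegree (χ : G → ℂ) : ℤ) := by exact_mod_cast h2
  exact abs_le.mp h3

/-- An integer value at a non-trivial element is not plus or minus the degree. -/
theorem value_ne [IsSimpleGroup G] (hcomm : ¬ IsMulCommutative G) {χ : IrrCharacter G}
    (hne : χ ≠ Blocks.trivIrr G) {g : G} (hg : g ≠ 1) {a : ℤ} (h : (χ : G → ℂ) g = (a : ℂ)) :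
    a ≠ (charDegree (χ : G → ℂ) : ℤ) ∧ a ≠ -(charDegree (χ : G → ℂ) : ℤ) := by
  refine ⟨fun e => hg (BrauerReynolds.faithful_of_simple hne ?_), fun e => ?_⟩
  · rw [h, e, BrauerReynolds.value_one]
    simp
  obtain ⟨n, ρ, hρ⟩ := Char.isCharacter_of_isIrr χ.2
  have h1 : (Module.finrank ℂ (Fin n → ℂ) : ℂ) = (charDegree (χ : G → ℂ) : ℂ) := by
    rw [← Representation.char_one ρ, ← BrauerReynolds.value_one χ]
    exact congrFun hρ 1
  have h1' : (Module.finrank ℂ (Fin n → ℂ)) = charDegree (χ : G → ℂ) := by exact_mod_cast h1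
  obtain ⟨ω, hω⟩ := (Char.norm_character_eq_iff ρ g).mp (by
    rw [show ρ.character g = (a : ℂ) from (congrFun hρ g).trans h, h1', e]
    simp)
  have hcen : g ∈ Subgroup.center G := Subgroup.mem_center_iff.mpr fun c => by
    have hk : ρ (c * g * c⁻¹ * g⁻¹) = 1 := by
      have hgi : ρ g * ρ g⁻¹ = 1 := by rw [← map_mul, mul_inv_cancel, map_one]
      have hci : ρ c * ρ c⁻¹ = 1 := by rw [← map_mul, mul_inv_cancel, map_one]
      rw [map_mul, map_mul, map_mul, hω]
      rw [hω] at hgi
      calc ρ c * (ω • LinearMap.id) * ρ c⁻¹ * ρ g⁻¹ = (ρ c * ρ c⁻¹) * ((ω • LinearMap.id) * ρ g⁻¹) := by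
            rw [show (LinearMap.id : (Fin n → ℂ) →ₗ[ℂ] (Fin n → ℂ)) = 1 from rfl, mul_smul_comm,
              smul_mul_assoc, smul_mul_assoc, mul_one, smul_mul_assoc, one_mul, mul_smul_comm]
        _ = 1 := by rw [hgi, hci, mul_one]
    have hval : (χ : G → ℂ) (c * g * c⁻¹ * g⁻¹) = (χ : G → ℂ) 1 := by
      rw [← congrFun hρ, ← congrFun hρ]
      show LinearMap.trace ℂ _ (ρ _) = LinearMap.trace ℂ _ (ρ 1)
      rw [hk, map_one ρ]
    have := BrauerReynolds.faithful_of_simple hne hval
    calc c * g = (c * g * c⁻¹ * g⁻¹) * g * c := by group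
      _ = g * c := by rw [this, one_mul]
  rcases (inferInstance : (Subgroup.center G).Normal).eq_bot_or_eq_top with h' | h'
  · exact hg (Subgroup.mem_bot.mp (h' ▸ hcen))
  · exact hcomm ⟨⟨fun x z => (Subgroup.mem_center_iff.mp (h' ▸ Subgroup.mem_top z)) x⟩⟩

theorem cent_eq [IsSimpleGroup G] {n p B : ℕ} [Fact p.Prime] {qs : List ℕ}
    (T : OrderCtx G n p qs B 1) :
    Subgroup.centralizer ((T.P : Subgroup G) : Set G) = (T.P : Subgroup G) := by
  refine (Subgroup.eq_of_le_of_card_ge ?_ ?_).symm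
  · haveI : IsCyclic (T.P : Subgroup G) := isCyclic_of_prime_card T.card_P
    exact fun a ha => Subgroup.mem_centralizer_iff.mpr fun c hc =>
      congrArg Subtype.val ((IsCyclic.commGroup (α := (T.P : Subgroup G))).mul_comm ⟨c, hc⟩ ⟨a, ha⟩)
  · rw [T.card_C, T.card_P, mul_one]

/-- The data on a simple group of order 6048 used by the local analysis. -/
structure Six (G : Type u) [Group G] [Fintype G] where
  χ : G → ℂ
  isChar : IsCharacter G χ
  one : χ 1 = 6
  real : ∀ g, conj (χ g) = χ g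
  faithful : ∀ g, χ g = 6 → g = 1
  invol : ∀ g, orderOf g = 2 → χ g = -2
  not_nine : ∀ g, orderOf g = 2 → ¬ 9 ∣ Nat.card (Subgroup.centralizer ({g} : Set G))
  not_seven : ∀ g, g ≠ 1 → ¬ 7 ∣ orderOf g → ¬ 7 ∣ Nat.card (Subgroup.centralizer ({g} : Set G))
  big : ∀ g, orderOf g = 3 → χ g = -3 → 27 < Nat.card (Subgroup.centralizer ({g} : Set G))

variable [IsSimpleGroup G]

theorem exists_six (hn : Nat.card G = 6048) : Nonempty (Six G) := by
  haveI : Fact (Nat.Prime 7) := ⟨by norm_num⟩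
  haveI : Fact (Nat.Prime 3) := ⟨by norm_num⟩
  obtain ⟨k, T, h7⟩ := exists_ctx_of_orderBad hn 7 [7] 80 [(288, 3, 1)] (by norm_num) (by norm_num)
    (by norm_num) (by norm_num) (by norm_num) (by simp <;> norm_num) (by decide +kernel)
  simp only [List.mem_singleton, Prod.mk.injEq] at h7
  obtain ⟨hc, he, rfl⟩ := h7
  have hcomm := T.noncomm
  have hC := cent_eq T
  have ht : T.D.t = 2 := by have := T.D.het; rw [he] at this; omega
  have hone : ¬ 7 ∣ orderOf (1 : G) := by rw [orderOf_one]; norm_num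
  obtain ⟨v, hv, hv1⟩ : ∃ v, v ∈ (T.P : Subgroup G) ∧ v ≠ 1 := by
    rcases (T.P : Subgroup G).bot_or_exists_ne_one with h | h
    · have := T.card_P
      rw [h, Subgroup.card_bot] at this
      norm_num at this
    · exact h
  have hT : Blocks.trivIrr G ∈ T.D.X := by
    rcases Finset.mem_union.mp T.D.triv with h | h
    · exact h
    exfalso
    obtain ⟨ψ', hψ', hne⟩ := Finset.exists_mem_ne (show 1 < T.D.Y.card by rw [T.D.card_Y]; omega)
      (Blocks.trivIrr G)
    have h1 := T.D.degY_eq ψ' hψ' _ h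
    rw [BrauerReynolds.degree_triv] at h1
    exact (BrauerReynolds.one_lt_degree_of_simple hcomm hne).ne' h1
  have hvX : ∀ w ∈ (T.P : Subgroup G), w ≠ 1 → ∀ ξ ∈ T.D.X, (ξ : G → ℂ) w = T.D.δ ξ :=
    fun w hw hw1 ξ hξ => by
      have h := T.D.valX ξ hξ w hw hw1 1 (one_mem _) hone
      rwa [mul_one] at h
  have hδT : T.D.δ (Blocks.trivIrr G) = 1 := by
    have h := hvX v hv hv1 _ hT
    have h' : ((1 : ℤ) : ℂ) = (T.D.δ (Blocks.trivIrr G) : ℂ) := by rw [← h]; simp [Blocks.trivIrr]
    exact (Int.cast_injective h').symm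
  have hecard : (T.D.X.erase (Blocks.trivIrr G)).card = 2 := by
    rw [Finset.card_erase_of_mem hT, T.D.card_X, he]
  obtain ⟨a, b, hab, hX⟩ := Finset.card_eq_two.mp hecard
  obtain ⟨y, y', hyy, hY⟩ := Finset.card_eq_two.mp (T.D.card_Y.trans ht)
  have ha : a ∈ T.D.X.erase (Blocks.trivIrr G) := by rw [hX]; simp
  have hb : b ∈ T.D.X.erase (Blocks.trivIrr G) := by rw [hX]; simp
  obtain ⟨hane, haX⟩ := Finset.mem_erase.mp ha
  obtain ⟨hbne, hbX⟩ := Finset.mem_erase.mp hb
  have hyY : y ∈ T.D.Y := by rw [hY]; simp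
  have hy'Y : y' ∈ T.D.Y := by rw [hY]; simp
  have hyne : y ≠ Blocks.trivIrr G := fun h => Finset.disjoint_left.mp T.D.disj hT (h ▸ hyY)
  have hec : T.D.e * (1 + T.D.n * 7) = 864 := by rw [hc, he]
  -- the signed degrees
  have hx : ∀ ξ ∈ T.D.X, ξ ≠ Blocks.trivIrr G →
      T.D.δ ξ * (charDegree (ξ : G → ℂ) : ℤ) ∈ ([-6, 8, -27, 36, -48] : List ℤ) := by
    intro ξ hξ hne
    obtain ⟨hok, hle⟩ := T.degOK_of hne (T.D.dvdX ξ hξ) fun w hw hw1 c hc' hcr => by
      rw [T.D.valX ξ hξ w hw hw1 c hc' hcr, hvX w hw hw1 ξ hξ]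
    rw [hec] at hok
    obtain ⟨k1, k6⟩ := key_degX _ (Nat.lt_succ_of_le hle) hok
    have hd := Int.modEq_iff_dvd.mp (T.D.degX ξ hξ)
    simp only [List.mem_cons, List.not_mem_nil, or_false]
    rcases T.D.hδ ξ hξ with e | e <;> rw [e] at hd ⊢
    · rcases k1 (by omega) with e' | e' <;> rw [e'] <;> norm_num
    · rcases k6 (by omega) with e' | e' | e' <;> rw [e'] <;> norm_num
  have hy : T.D.ε * (charDegree (y : G → ℂ) : ℤ) ∈ ([-4, -18, 24, -32] : List ℤ) := by
    obtain ⟨hok, hle⟩ := T.degOK_of hyne (T.D.dvdY y hyY) (T.D.valY y hyY)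
    rw [hec] at hok
    obtain ⟨k3, k4⟩ := key_degY _ (Nat.lt_succ_of_le hle) hok
    have hd := Int.modEq_iff_dvd.mp (T.D.degY y hyY)
    rw [he] at hd
    simp only [List.mem_cons, List.not_mem_nil, or_false]
    rcases T.D.hε with e | e <;> rw [e] at hd ⊢
    · rw [k3 (by omega)]; norm_num
    · rcases k4 (by omega) with e' | e' | e' <;> rw [e'] <;> norm_num
  have hrel : ∀ g, ¬ 7 ∣ orderOf g →
      (T.D.ε : ℂ) * (y : G → ℂ) g = 1 + ((T.D.δ a : ℂ) * (a : G → ℂ) g + (T.D.δ b : ℂ) * (b : G → ℂ) g) := by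
    intro g hg
    rw [T.D.rel y hyY g hg, ← Finset.add_sum_erase _ _ hT, hX, Finset.sum_pair hab, hδT]
    simp [Blocks.trivIrr]
  have hdeg : 1 + T.D.δ a * (charDegree (a : G → ℂ) : ℤ) + T.D.δ b * (charDegree (b : G → ℂ) : ℤ) =
      T.D.ε * (charDegree (y : G → ℂ) : ℤ) := by
    have h := hrel 1 hone
    simp only [BrauerReynolds.value_one] at h
    have h' : ((1 + T.D.δ a * (charDegree (a : G → ℂ) : ℤ) + T.D.δ b * (charDegree (b : G → ℂ) : ℤ) : ℤ) : ℂ) =
        ((T.D.ε * (charDegree (y : G → ℂ) : ℤ) : ℤ) : ℂ) := by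
      push_cast
      linear_combination -h
    exact Int.cast_injective h'
  have hcases := key_sum _ (hx a haX hane) _ (hx b hbX hbne) _ hy hdeg
  -- put the character of degree 27 second
  obtain ⟨a, b, hab, hX, haX, hbX, hrel, hcases⟩ : ∃ a b : IrrCharacter G, a ≠ b ∧
      T.D.X.erase (Blocks.trivIrr G) = {a, b} ∧ a ∈ T.D.X ∧ b ∈ T.D.X ∧
      (∀ g, ¬ 7 ∣ orderOf g →
        (T.D.ε : ℂ) * (y : G → ℂ) g =
          1 + ((T.D.δ a : ℂ) * (a : G → ℂ) g + (T.D.δ b : ℂ) * (b : G → ℂ) g)) ∧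
      ((T.D.δ a * (charDegree (a : G → ℂ) : ℤ) = -6 ∧ T.D.δ b * (charDegree (b : G → ℂ) : ℤ) = -27 ∧
          T.D.ε * (charDegree (y : G → ℂ) : ℤ) = -32) ∨
        (T.D.δ a * (charDegree (a : G → ℂ) : ℤ) = 8 ∧ T.D.δ b * (charDegree (b : G → ℂ) : ℤ) = -27 ∧
          T.D.ε * (charDegree (y : G → ℂ) : ℤ) = -18)) := by
    rcases hcases with h | ⟨h1, h2, h3⟩ | h | ⟨h1, h2, h3⟩
    · exact ⟨a, b, hab, hX, haX, hbX, hrel, Or.inl h⟩
    · exact ⟨b, a, hab.symm, by rw [hX, Finset.pair_comm], hbX, haX,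
        fun g hg => by rw [hrel g hg]; ring, Or.inl ⟨h2, h1, h3⟩⟩
    · exact ⟨a, b, hab, hX, haX, hbX, hrel, Or.inr h⟩
    · exact ⟨b, a, hab.symm, by rw [hX, Finset.pair_comm], hbX, haX,
        fun g hg => by rw [hrel g hg]; ring, Or.inr ⟨h2, h1, h3⟩⟩
  have hεy : T.D.ε = -1 := by
    rcases hcases with ⟨-, -, h⟩ | ⟨-, -, h⟩ <;> rcases T.D.hε with e | e <;> first
      | exact e
      | (rw [e] at h; omega)
  have hδb : T.D.δ b = -1 := by
    rcases hcases with ⟨-, h, -⟩ | ⟨-, h, -⟩ <;> rcases T.D.hδ b hbX with e | e <;> first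
      | exact e
      | (rw [e] at h; omega)
  have db : charDegree (b : G → ℂ) = 27 := by
    rcases hcases with ⟨-, h, -⟩ | ⟨-, h, -⟩ <;> rw [hδb] at h <;> omega
  -- the values at an involution
  have hmain : ∀ g : G, orderOf g = 2 → ∃ A B : ℤ, (a : G → ℂ) g = A ∧ (b : G → ℂ) g = B ∧
      charDegree (a : G → ℂ) = 6 ∧ charDegree (y : G → ℂ) = 32 ∧ T.D.δ a = -1 ∧ A = -2 ∧ B = 3 := by
    intro g hg
    have hg2 : g * g = 1 := by rw [← pow_two, ← hg, pow_orderOf_eq_one]
    have hg1 : g ≠ 1 := fun h => by rw [h, orderOf_one] at hg; omega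
    have hreg : ¬ 7 ∣ orderOf g := by rw [hg]; norm_num
    obtain ⟨A, hA⟩ := exists_int_of_involution (Char.isCharacter_of_isIrr a.2) hg2
    obtain ⟨B, hB⟩ := exists_int_of_involution (Char.isCharacter_of_isIrr b.2) hg2
    obtain ⟨A1, A2⟩ := norm_bound hA
    obtain ⟨B1, B2⟩ := norm_bound hB
    obtain ⟨i, hi⟩ := involution_value_mod_four hcomm (Char.isCharacter_of_isIrr a.2) hg2
      (BrauerReynolds.value_one a)
    obtain ⟨j, hj⟩ := involution_value_mod_four hcomm (Char.isCharacter_of_isIrr b.2) hg2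
      (BrauerReynolds.value_one b)
    rw [hA] at hi
    rw [hB] at hj
    have hi' : A = (charDegree (a : G → ℂ) : ℤ) - 4 * i := Int.cast_injective hi
    have hj' : B = (charDegree (b : G → ℂ) : ℤ) - 4 * j := Int.cast_injective hj
    rw [db] at B1 B2 hj'
    have hBmem : B ∈ ([-25, -21, -17, -13, -9, -5, -1, 3, 7, 11, 15, 19, 23, 27] : List ℤ) := by
      simp only [List.mem_cons, List.not_mem_nil, or_false]; omega
    -- the values on the exceptional characters
    have hψ : ∀ ψ ∈ T.D.Y, (ψ : G → ℂ) g = -(1 + ((T.D.δ a : ℂ) * A - B)) := fun ψ hψ => by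
      have h1 := (T.D.rel ψ hψ g hreg).trans (T.D.rel y hyY g hreg).symm
      rw [hrel g hreg, hεy, hδb, hA, hB] at h1
      push_cast at h1
      linear_combination -h1
    set z := charDegree (y : G → ℂ) with hz
    -- no involution inverts an element of order 7
    have hpairs : ((1 : ℂ) + (T.D.δ a : ℂ) * (A : ℂ) ^ 2 / (charDegree (a : G → ℂ) : ℂ) - (B : ℂ) ^ 2 / 27 +
        (1 + ((T.D.δ a : ℂ) * A - B)) ^ 2 / (z : ℂ)) = 0 := by
      have hnum := Char.class_mult g g v
      have hempty : IsEmpty {pr : G × G // IsConj g pr.1 ∧ IsConj g pr.2 ∧ pr.1 * pr.2 = v} := by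
        rw [← not_nonempty_iff]
        intro hne
        obtain ⟨-, u₀, hu2, huN, hcl⟩ := pairs_of_nonempty T.card_P hC (by norm_num) hg2 hv hv1 hne
        have hN : Nat.card (Subgroup.normalizer ((T.P : Subgroup G) : Set G)) = 21 := by
          have h := Subgroup.card_mul_index (Subgroup.normalizer ((T.P : Subgroup G) : Set G))
          have hi0 : (Subgroup.normalizer ((T.P : Subgroup G) : Set G)).index = 288 := by
            exact (Sylow.card_eq_index_normalizer T.P).symm.trans (T.D.card_sylow.trans hc)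
          rw [hi0, hn] at h
          omega
        have hu1 : u₀ = 1 := by
          have hd1 : orderOf u₀ ∣ 2 := orderOf_dvd_of_pow_eq_one (by rw [pow_two, hu2])
          have hd2 : orderOf u₀ ∣ 21 := hN ▸ Subgroup.orderOf_dvd_natCard _ huN
          exact orderOf_eq_one_iff.mp (Nat.eq_one_of_dvd_coprimes (by norm_num) hd1 hd2)
        have h := (hcl _ (Char.isCharacter_of_isIrr a.2)).1
        rw [hu1] at h
        exact hg1 (BrauerReynolds.faithful_of_simple
          (Finset.ne_of_mem_erase (show a ∈ T.D.X.erase (Blocks.trivIrr G) by rw [hX]; simp)) h)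
      rw [Nat.card_of_isEmpty, Nat.cast_zero, eq_comm] at hnum
      have hidx : ((Subgroup.centralizer ({g} : Set G)).index : ℂ) ≠ 0 :=
        Nat.cast_ne_zero.mpr Subgroup.index_ne_zero_of_finite
      have h0 := (mul_eq_zero.mp hnum).resolve_left (div_ne_zero (mul_ne_zero hidx hidx)
        (Nat.cast_ne_zero.mpr Nat.card_pos.ne'))
      rw [← Finset.sum_subset (Finset.subset_univ (T.D.X ∪ T.D.Y)) fun ξ _ hξ => by
          rw [T.D.out hC ξ (fun h => hξ (Finset.mem_union_left _ h))
            (fun h => hξ (Finset.mem_union_right _ h)) v hv hv1, map_zero, mul_zero, zero_div],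
        Finset.sum_union T.D.disj, ← Finset.add_sum_erase _ _ hT, hX, Finset.sum_pair hab,
        Finset.sum_congr (s₁ := T.D.Y) rfl (g := fun ψ : IrrCharacter G =>
          ((1 + ((T.D.δ a : ℂ) * A - B)) ^ 2 / (z : ℂ)) * conj ((ψ : G → ℂ) v)) (fun ψ hψ' => by
          rw [hψ ψ hψ', BrauerReynolds.value_one, T.D.degY_eq ψ hψ' y hyY, ← hz]
          ring),
        ← Finset.mul_sum, ← map_sum, T.D.sumY v hv hv1, hA, hB, hvX v hv hv1 a haX,
        hvX v hv hv1 b hbX, hvX v hv hv1 _ hT, hδT, hδb, hεy] at h0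
      simp only [BrauerReynolds.value_one, BrauerReynolds.degree_triv, db] at h0
      have htriv : (Blocks.trivIrr G : G → ℂ) g = 1 := rfl
      rw [htriv] at h0
      push_cast at h0
      simp only [map_one, map_neg, map_intCast] at h0
      linear_combination h0
    rcases hcases with ⟨h1, -, h3⟩ | ⟨h1, -, h3⟩
    · have hδa : T.D.δ a = -1 := by
        rcases T.D.hδ a haX with e | e
        · rw [e] at h1; omega
        · exact e
      have da : charDegree (a : G → ℂ) = 6 := by rw [hδa] at h1; omega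
      have dz : z = 32 := by rw [hεy] at h3; omega
      rw [da] at A1 A2 hi'
      have hAmem : A ∈ ([-6, -2, 2, 6] : List ℤ) := by
        simp only [List.mem_cons, List.not_mem_nil, or_false]; omega
      rw [hδa, da, dz] at hpairs
      have hZ : 864 - 144 * (A * A) - 32 * (B * B) + 27 * ((A + B - 1) * (A + B - 1)) = (0 : ℤ) := by
        have : ((864 - 144 * (A * A) - 32 * (B * B) + 27 * ((A + B - 1) * (A + B - 1)) : ℤ) : ℂ) =
            ((0 : ℤ) : ℂ) := by
          push_cast at hpairs ⊢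
          linear_combination 864 * hpairs
        exact Int.cast_injective this
      obtain ⟨nA, nA'⟩ := value_ne hcomm
        (Finset.ne_of_mem_erase (show a ∈ T.D.X.erase (Blocks.trivIrr G) by rw [hX]; simp)) hg1 hA
      rw [da] at nA nA'
      rcases key_six A hAmem B hBmem hZ with ⟨rfl, rfl⟩ | ⟨rfl, rfl⟩ | e | e
      rotate_right 2
      · exact absurd e nA
      · exact absurd e nA'
      · exact ⟨-2, 3, hA, hB, da, dz, hδa, rfl, rfl⟩
      · exfalso
        have hcol := Char.column_orthogonality g g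
        rw [if_pos (IsConj.refl g)] at hcol
        have hre := congrArg Complex.re hcol
        rw [Complex.re_sum, Complex.natCast_re] at hre
        have hle := Finset.sum_le_sum_of_subset_of_nonneg
          (Finset.subset_univ (({b} : Finset (IrrCharacter G)) ∪ T.D.Y))
          (f := fun ξ : IrrCharacter G => ((ξ : G → ℂ) g * conj ((ξ : G → ℂ) g)).re)
          (fun ξ _ _ => by rw [Complex.mul_conj, Complex.ofReal_re]; exact Complex.normSq_nonneg _)
        have hbY : b ∉ T.D.Y := Finset.disjoint_left.mp T.D.disj hbX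
        rw [Finset.sum_union (Finset.disjoint_singleton_left.mpr hbY), Finset.sum_singleton, hY,
          Finset.sum_pair hyy, hψ y hyY, hψ y' hy'Y, hB, hδa] at hle
        norm_num at hle hre
        rw [← Nat.card_eq_fintype_card] at hre
        have hlt := card_lt_of_ne_top hcomm hn (H := Subgroup.centralizer ({g} : Set G)) (fun htop => by
          have hgc : g ∈ Subgroup.center G := Subgroup.mem_center_iff.mpr fun c => by
            have hc' : c ∈ Subgroup.centralizer ({g} : Set G) := htop ▸ Subgroup.mem_top c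
            exact (Subgroup.mem_centralizer_singleton_iff.mp hc')
          rcases (inferInstance : (Subgroup.center G).Normal).eq_bot_or_eq_top with h | h
          · exact hg1 (Subgroup.mem_bot.mp (h ▸ hgc))
          · exact hcomm ⟨⟨fun x z => (Subgroup.mem_center_iff.mp (h ▸ Subgroup.mem_top z)) x⟩⟩)
        have hlt' : (Nat.card (Subgroup.centralizer ({g} : Set G)) : ℝ) ≤ 672 := by exact_mod_cast hlt
        linarith
    · exfalso
      have hδa : T.D.δ a = 1 := by
        rcases T.D.hδ a haX with e | e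
        · exact e
        · rw [e] at h1; omega
      have da : charDegree (a : G → ℂ) = 8 := by rw [hδa] at h1; omega
      have dz : z = 18 := by rw [hεy] at h3; omega
      rw [da] at A1 A2 hi'
      have hAmem : A ∈ ([-8, -4, 0, 4, 8] : List ℤ) := by
        simp only [List.mem_cons, List.not_mem_nil, or_false]; omega
      rw [hδa, da, dz] at hpairs
      obtain ⟨nA, nA'⟩ := value_ne hcomm
        (Finset.ne_of_mem_erase (show a ∈ T.D.X.erase (Blocks.trivIrr G) by rw [hX]; simp)) hg1 hA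
      rw [da] at nA nA'
      refine (key_eight A hAmem B hBmem ?_).elim nA nA'
      have : ((216 + 27 * (A * A) - 8 * (B * B) + 12 * ((B - A - 1) * (B - A - 1)) : ℤ) : ℂ) =
          ((0 : ℤ) : ℂ) := by
        push_cast at hpairs ⊢
        linear_combination 216 * hpairs
      exact Int.cast_injective this
  obtain ⟨t, ht2⟩ := exists_prime_orderOf_dvd_card' (G := G) 2 (hn ▸ by norm_num)
  obtain ⟨-, -, -, -, da, dz, hδa, -, -⟩ := hmain t ht2
  have hane : a ≠ Blocks.trivIrr G := fun h => by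
    rw [h, BrauerReynolds.degree_triv] at da; omega
  have hsix : ∀ g : G, orderOf g = 2 → (a : G → ℂ) g = -2 ∧ (b : G → ℂ) g = 3 := fun g hg => by
    obtain ⟨A, B, hA, hB, -, -, -, rfl, rfl⟩ := hmain g hg
    exact ⟨by rw [hA]; norm_num, by rw [hB]; norm_num⟩
  refine ⟨⟨(a : G → ℂ), Char.isCharacter_of_isIrr a.2, by rw [BrauerReynolds.value_one, da]; norm_num,
    ?_, fun g hg => BrauerReynolds.faithful_of_simple hane (by
      rw [hg, BrauerReynolds.value_one, da]; norm_num), fun g hg => (hsix g hg).1, ?_, ?_, ?_⟩⟩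
  · -- the character of degree 6 is real
    intro g
    obtain ⟨a', ha'⟩ : ∃ a' : IrrCharacter G, (a' : G → ℂ) = fun g => conj ((a : G → ℂ) g) :=
      ⟨⟨_, Char.isIrrCharacter_conj a.2⟩, rfl⟩
    have hd' : charDegree (a' : G → ℂ) = 6 := by
      have h1 := BrauerReynolds.value_one a'
      rw [show (a' : G → ℂ) 1 = conj ((a : G → ℂ) 1) from congrFun ha' 1, BrauerReynolds.value_one, da, Complex.conj_natCast] at h1
      exact_mod_cast h1.symm
    have hmem : a' ∈ T.D.X ∪ T.D.Y := by
      by_contra h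
      have := T.dvd_of_not_mem h
      rw [hd'] at this
      norm_num at this
    have heq : a' = a := by
      rcases Finset.mem_union.mp hmem with h | h
      · rcases eq_or_ne a' (Blocks.trivIrr G) with e | e
        · rw [e, BrauerReynolds.degree_triv] at hd'; omega
        · have h' : a' ∈ T.D.X.erase (Blocks.trivIrr G) := Finset.mem_erase.mpr ⟨e, h⟩
          rw [hX, Finset.mem_insert, Finset.mem_singleton] at h'
          rcases h' with e' | e'
          · exact e'
          · rw [e', db] at hd'; omega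
      · rw [T.D.degY_eq a' h y hyY, dz] at hd'
        omega
    rw [heq] at ha'
    exact (congrFun ha' g).symm
  · intro g hg h9
    have hω := Char.isIntegral_omega_irr b.2 g
    rw [Char.omega, (hsix g hg).2, BrauerReynolds.value_one, db] at hω
    set i := (Subgroup.centralizer ({g} : Set G)).index with hi
    have h27 : 27 ∣ i * 3 := by
      refine Char.dvd_of_isIntegral_div (by norm_num) ?_
      push_cast
      convert hω using 1
      push_cast
      ring
    have hmul := (Subgroup.centralizer ({g} : Set G)).card_mul_index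
    rw [hn, ← hi] at hmul
    obtain ⟨c, hc'⟩ := h9
    obtain ⟨d, hd⟩ : 9 ∣ i := by omega
    rw [hc', hd] at hmul
    have : 81 ∣ 6048 := ⟨c * d, by rw [← hmul]; ring⟩
    norm_num at this
  · intro g hg1 hg7
    exact not_dvd_centralizer T.P T.card_P (by rw [T.card_C, mul_one]) hg1 hg7
  · intro g hg hval
    have hreg : ¬ 7 ∣ orderOf g := by rw [hg]; norm_num
    have hb0 : (b : G → ℂ) g = 0 :=
      Char.defect_zero_vanish b.2 (p := 3) (n := 3) (BrauerReynolds.value_one b) (by rw [hn]; norm_num)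
        (by rw [hn]; norm_num) (by rw [db]; norm_num) (by rw [hg])
    have hψ : ∀ ψ ∈ T.D.Y, (ψ : G → ℂ) g = -4 := fun ψ hψ => by
      have h1 := (T.D.rel ψ hψ g hreg).trans (T.D.rel y hyY g hreg).symm
      rw [hrel g hreg, hεy, hδb, hδa, hval, hb0] at h1
      push_cast at h1
      linear_combination -h1
    have hcol := Char.column_orthogonality g g
    rw [if_pos (IsConj.refl g)] at hcol
    have hre := congrArg Complex.re hcol
    rw [Complex.re_sum, Complex.natCast_re] at hre
    have haY : a ∉ T.D.Y := Finset.disjoint_left.mp T.D.disj haX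
    have hTY : Blocks.trivIrr G ∉ T.D.Y := Finset.disjoint_left.mp T.D.disj hT
    have hle := Finset.sum_le_sum_of_subset_of_nonneg
      (Finset.subset_univ (({Blocks.trivIrr G, a} : Finset (IrrCharacter G)) ∪ T.D.Y))
      (f := fun ξ : IrrCharacter G => ((ξ : G → ℂ) g * conj ((ξ : G → ℂ) g)).re)
      (fun ξ _ _ => by rw [Complex.mul_conj, Complex.ofReal_re]; exact Complex.normSq_nonneg _)
    rw [Finset.sum_union (Finset.disjoint_left.mpr fun ξ hξ => by
        rcases Finset.mem_insert.mp hξ with rfl | hξ'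
        · exact hTY
        · rw [Finset.mem_singleton.mp hξ']; exact haY),
      Finset.sum_pair hane.symm, hY, Finset.sum_pair hyy, hψ y hyY, hψ y' hy'Y, hval] at hle
    have htriv : (Blocks.trivIrr G : G → ℂ) g = 1 := rfl
    rw [htriv] at hle
    norm_num at hle hre
    rw [← Nat.card_eq_fintype_card] at hre
    have h42 : (42 : ℝ) ≤ (Nat.card (Subgroup.centralizer ({g} : Set G)) : ℝ) := by linarith
    have h42' : 42 ≤ Nat.card (Subgroup.centralizer ({g} : Set G)) := by exact_mod_cast h42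
    omega

end CfsgLib.UThreeUnique
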