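import Cfsg.Agent.Lib.UThreeUnique.Chars
import Mathlib.GroupTheory.Transfer

/-!
# The Sylow 3-subgroup of a simple group of order 6048 without elements of order 9 is not abelian
-/

set_option autoImplicit false
set_option linter.unusedSectionVars false
set_option linter.style.haveILetI false

namespace CfsgLib.UThreeUnique

universe u

variable {G : Type u} [Group G]

/-- The subgroup of two commuting elements of exponent three. -/
def pairSub (u w : G) (hu : u ^ 3 = 1) (hw : w ^ 3 = 1) (huw : Commute u w) : Subgroup G :=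
  (pairHom (powHom 3 u hu) (powHom 3 w hw) fun _ _ => huw.pow_pow _ _).range

theorem mem_pairSub {u w : G} (hu : u ^ 3 = 1) (hw : w ^ 3 = 1) (huw : Commute u w) {g : G} :
    g ∈ pairSub u w hu hw huw ↔ ∃ i j : ZMod 3, g = u ^ i.val * w ^ j.val := by
  constructor
  · rintro ⟨⟨i, j⟩, rfl⟩
    exact ⟨Multiplicative.toAdd i, Multiplicative.toAdd j, rfl⟩
  · rintro ⟨i, j, rfl⟩
    exact ⟨(Multiplicative.ofAdd i, Multiplicative.ofAdd j), rfl⟩

theorem pairSub_le {u w : G} (hu : u ^ 3 = 1) (hw : w ^ 3 = 1) (huw : Commute u w) {H : Subgroup G}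
    (hu' : u ∈ H) (hw' : w ∈ H) : pairSub u w hu hw huw ≤ H := by
  intro g hg
  obtain ⟨i, j, rfl⟩ := (mem_pairSub hu hw huw).mp hg
  exact mul_mem (pow_mem hu' _) (pow_mem hw' _)

theorem left_mem_pairSub {u w : G} (hu : u ^ 3 = 1) (hw : w ^ 3 = 1) (huw : Commute u w) :
    u ∈ pairSub u w hu hw huw :=
  (mem_pairSub hu hw huw).mpr ⟨1, 0, by rw [val_three_one, ZMod.val_zero, pow_one, pow_zero, mul_one]⟩

theorem right_mem_pairSub {u w : G} (hu : u ^ 3 = 1) (hw : w ^ 3 = 1) (huw : Commute u w) :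
    w ∈ pairSub u w hu hw huw :=
  (mem_pairSub hu hw huw).mpr ⟨0, 1, by rw [val_three_one, ZMod.val_zero, pow_one, pow_zero, one_mul]⟩

theorem card_pairSub {u w : G} (hu : u ^ 3 = 1) (hw : w ^ 3 = 1) (huw : Commute u w) (hu1 : u ≠ 1)
    (hwu : w ∉ Subgroup.zpowers u) : Nat.card (pairSub u w hu hw huw) = 9 := by
  have hinj : Function.Injective (pairHom (powHom 3 u hu) (powHom 3 w hw) fun _ _ => huw.pow_pow _ _) := by
    rw [injective_iff_map_eq_one]
    rintro ⟨i, j⟩ h
    have h' : u ^ (Multiplicative.toAdd i).val * w ^ (Multiplicative.toAdd j).val = 1 := h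
    have h3 : ∀ k : ZMod 3, k = 0 ∨ k = 1 ∨ k = 2 := by decide
    have hwmem : w ^ (Multiplicative.toAdd j).val ∈ Subgroup.zpowers u := by
      rw [eq_inv_of_mul_eq_one_right h']
      exact inv_mem (pow_mem (Subgroup.mem_zpowers u) _)
    have hj : Multiplicative.toAdd j = 0 := by
      rcases h3 (Multiplicative.toAdd j) with e | e | e
      · exact e
      · rw [e, val_three_one, pow_one] at hwmem
        exact absurd hwmem hwu
      · rw [e, val_three_two] at hwmem
        refine absurd ?_ hwu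
        have h4 : (w ^ 2) ^ 2 = w := by rw [← pow_mul, pow_succ, hw, one_mul]
        rw [← h4]
        exact pow_mem hwmem 2
    rw [hj, ZMod.val_zero, pow_zero, mul_one] at h'
    have hi : Multiplicative.toAdd i = 0 := by
      rcases h3 (Multiplicative.toAdd i) with e | e | e
      · exact e
      · rw [e, val_three_one, pow_one] at h'
        exact absurd h' hu1
      · rw [e, val_three_two] at h'
        exact absurd (by rw [pow_succ, h', one_mul] at hu; exact hu) hu1
    exact Prod.ext hi hj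
  rw [pairSub, ← Nat.card_congr (MonoidHom.ofInjective hinj).toEquiv, Nat.card_prod]
  simp

theorem orderOf_eq_three {g : G} (hg : g ^ 3 = 1) (hg1 : g ≠ 1) : orderOf g = 3 :=
  haveI : Fact (Nat.Prime 3) := ⟨Nat.prime_three⟩
  orderOf_eq_prime hg hg1

variable [Finite G]

theorem odd_or_two_dvd (K : Subgroup G) : ¬ 2 ∣ Nat.card K ∨ ∃ t ∈ K, orderOf t = 2 := by
  by_cases h : 2 ∣ Nat.card K
  · haveI : Fact (Nat.Prime 2) := ⟨Nat.prime_two⟩
    obtain ⟨t, ht⟩ := exists_prime_orderOf_dvd_card' 2 h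
    exact Or.inr ⟨t, t.2, by rw [Subgroup.orderOf_coe, ht]⟩
  · exact Or.inl h

/-- A non-trivial group of order dividing 32 has a central involution. -/
theorem exists_central_of_dvd {K : Type*} [Group K] [Finite K] (h : Nat.card K ∣ 32)
    (h1 : Nat.card K ≠ 1) : ∃ c : K, orderOf c = 2 ∧ ∀ k, Commute c k := by
  haveI : Fact (Nat.Prime 2) := ⟨Nat.prime_two⟩
  obtain ⟨k, -, hk⟩ := (Nat.dvd_prime_pow Nat.prime_two (m := 5)).mp h
  have hp : IsPGroup 2 K := IsPGroup.of_card hk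
  haveI : Nontrivial K := Finite.one_lt_card_iff_nontrivial.mp
    (by have := Nat.card_pos (α := K); omega)
  haveI := hp.center_nontrivial
  have h2 : 2 ∣ Nat.card (Subgroup.center K) := by
    obtain ⟨j, hj⟩ := (hp.to_subgroup (Subgroup.center K)).exists_card_eq
    have := Finite.one_lt_card (α := Subgroup.center K)
    rcases Nat.eq_zero_or_pos j with e | e
    · rw [e, pow_zero] at hj; omega
    · rw [hj]; exact dvd_pow_self 2 e.ne'
  obtain ⟨c, hc⟩ := exists_prime_orderOf_dvd_card' 2 h2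
  exact ⟨c, by rw [Subgroup.orderOf_coe, hc], fun k => (Subgroup.mem_center_iff.mp c.2 k).symm⟩

/-- Burnside's transfer inside a subgroup: a normal complement to `Q`. -/
theorem exists_complement {C Q : Subgroup G} (hQC : Q ≤ C) {a : ℕ} (hQ : Nat.card Q = 3 ^ a)
    (hidx : ¬ 3 ∣ (Q.subgroupOf C).index)
    (hN : ∀ c ∈ C, (∀ q ∈ Q, c * q * c⁻¹ ∈ Q) → ∀ q ∈ Q, Commute c q) :
    ∃ O : Subgroup G, O ≤ C ∧ Nat.card O * Nat.card Q = Nat.card C ∧
      ∀ c ∈ C, ∀ o ∈ O, c * o * c⁻¹ ∈ O := by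
  haveI : Fact (Nat.Prime 3) := ⟨Nat.prime_three⟩
  have hcard : Nat.card (Q.subgroupOf C) = Nat.card Q := Nat.card_congr (Subgroup.subgroupOfEquivOfLe hQC).toEquiv
  have hp : IsPGroup 3 (Q.subgroupOf C) := IsPGroup.of_card (hcard.trans hQ)
  set S : Sylow 3 C := hp.toSylow hidx with hS
  have hSQ : (S : Subgroup C) = Q.subgroupOf C := rfl
  have hle : Subgroup.normalizer ((S : Subgroup C) : Set C) ≤
      Subgroup.centralizer ((S : Subgroup C) : Set C) := by
    intro c hc
    rw [hSQ] at hc ⊢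
    have hc' : ∀ q ∈ Q, (c : G) * q * (c : G)⁻¹ ∈ Q := fun q hq => by
      have := (Subgroup.mem_normalizer_iff.mp hc ⟨q, hQC hq⟩).mp hq
      exact this
    refine Subgroup.mem_centralizer_iff.mpr fun q hq => Subtype.ext ?_
    exact (hN c c.2 hc' q hq).symm.eq
  set O := (MonoidHom.transferSylow S hle).ker with hO
  refine ⟨O.map C.subtype, Subgroup.map_subtype_le O, ?_, ?_⟩
  · rw [Subgroup.card_subtype, ← hcard, ← hSQ]
    exact (MonoidHom.ker_transferSylow_isComplement' S hle).card_mul_card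
  · rintro c hc _ ⟨o, ho, rfl⟩
    exact ⟨(⟨c, hc⟩ : C) * o * (⟨c, hc⟩ : C)⁻¹, (MonoidHom.normal_ker _).conj_mem o ho _, rfl⟩

variable [IsSimpleGroup G]

/-- The setting: order 6048, a character of degree six and no element of order nine. -/
structure Hyp (G : Type u) [Group G] [Fintype G] where
  S : Six G
  hn : Nat.card G = 6048
  h9 : ∀ g : G, orderOf g ≠ 9

namespace Hyp

variable [Fintype G] (H : Hyp G)
include H

/-- An involution centralises no subgroup of order nine. -/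
theorem no_nine {t : G} (ht : orderOf t = 2) {K : Subgroup G} (hK : Nat.card K = 9)
    (hc : ∀ k ∈ K, Commute t k) : False :=
  H.S.not_nine t ht (hK ▸ Subgroup.card_dvd_of_le fun k hk =>
    Subgroup.mem_centralizer_singleton_iff.mpr (hc k hk).symm.eq)

/-- An involution centralises no pair of independent commuting elements of order three. -/
theorem no_pair {t u w : G} (ht : orderOf t = 2) (hu : u ^ 3 = 1) (hw : w ^ 3 = 1) (huw : Commute u w)
    (hu1 : u ≠ 1) (hwu : w ∉ Subgroup.zpowers u) (htu : Commute t u) (htw : Commute t w) : False :=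
  H.no_nine ht (card_pairSub hu hw huw hu1 hwu) fun k hk => by
    obtain ⟨i, j, rfl⟩ := (mem_pairSub hu hw huw).mp hk
    exact (htu.pow_right _).mul_right (htw.pow_right _)

theorem cube {P : Subgroup G} (hP : Nat.card P = 27) {p : G} (hp : p ∈ P) : p ^ 3 = 1 := by
  have hd : orderOf p ∣ 3 ^ 3 := (show (3 : ℕ) ^ 3 = 27 by norm_num) ▸ hP ▸ Subgroup.orderOf_dvd_natCard P hp
  obtain ⟨k, hk, he⟩ := (Nat.dvd_prime_pow Nat.prime_three).mp hd
  refine orderOf_dvd_iff_pow_eq_one.mp ?_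
  interval_cases k
  · rw [he]; norm_num
  · rw [he]; norm_num
  · exact absurd (he.trans (by norm_num)) (H.h9 p)
  · refine absurd ?_ (H.h9 (p ^ 3))
    rw [orderOf_pow' p (by norm_num), he]
    norm_num

/-- Centralisers of elements of order three have order dividing `32 * 27`. -/
theorem card_cent_dvd {x : G} (hx : x ^ 3 = 1) (hx1 : x ≠ 1) {C : Subgroup G}
    (hC : C ≤ Subgroup.centralizer {x}) : Nat.card C ∣ 32 * 27 := by
  have h7 : ¬ 7 ∣ Nat.card C := fun h => H.S.not_seven x hx1 (by rw [orderOf_eq_three hx hx1]; norm_num)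
    (h.trans (Subgroup.card_dvd_of_le hC))
  have hd : Nat.card C ∣ 32 * 27 * 7 := by
    rw [show 32 * 27 * 7 = Nat.card G by rw [H.hn]]
    exact Subgroup.card_subgroup_dvd_card C
  exact ((Nat.Prime.coprime_iff_not_dvd (by norm_num)).mpr h7).symm.dvd_of_dvd_mul_right hd

/-- A subgroup of order 27 is not abelian. -/
theorem not_abelian {P : Subgroup G} (hP : Nat.card P = 27)
    (hab : ∀ a ∈ P, ∀ b ∈ P, Commute a b) : False := by
  obtain ⟨v, hvP, hv1, hv⟩ := H.S.exists_neg_three hP fun p hp => H.cube hP hp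
  have hv3 := H.cube hP hvP
  set C := Subgroup.centralizer ({v} : Set G) with hC
  have hPC : P ≤ C := fun p hp => Subgroup.mem_centralizer_singleton_iff.mpr (hab p hp v hvP).eq
  have hbig : 27 < Nat.card C := H.S.big v (orderOf_eq_three hv3 hv1) hv
  have hCd := H.card_cent_dvd hv3 hv1 (le_refl C)
  have hcv : ∀ c ∈ C, Commute c v := fun c hc => Subgroup.mem_centralizer_singleton_iff.mp hc
  by_cases hN : ∀ c ∈ C, (∀ q ∈ P, c * q * c⁻¹ ∈ P) → ∀ q ∈ P, Commute c q
  · have hidx : ¬ 3 ∣ (P.subgroupOf C).index := fun h3 => by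
      have h := (P.subgroupOf C).card_mul_index
      rw [Nat.card_congr (Subgroup.subgroupOfEquivOfLe hPC).toEquiv, hP] at h
      have : 27 * 3 ∣ 32 * 27 := (h ▸ Nat.mul_dvd_mul_left 27 h3).trans hCd
      norm_num at this
    obtain ⟨O, hOC, hOcard, hOn⟩ := exists_complement hPC (a := 3) (by rw [hP]; norm_num) hidx hN
    rw [hP] at hOcard
    have hO32 : Nat.card O ∣ 32 :=
      Nat.dvd_of_mul_dvd_mul_right (by norm_num : 0 < 27) (hOcard ▸ hCd)
    obtain ⟨u₀, hu₀, hucom⟩ := exists_central_of_dvd hO32 (by omega)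
    -- the set of central involutions of O
    set V : Set G := {w | w ∈ O ∧ w * w = 1 ∧ ∀ o ∈ O, Commute w o} with hV
    have huV : (u₀ : G) ∈ V := by
      refine ⟨u₀.2, ?_, fun o ho => ?_⟩
      · have := pow_orderOf_eq_one u₀
        rw [hu₀, pow_two] at this
        exact congrArg Subtype.val this
      · exact congrArg Subtype.val (hucom ⟨o, ho⟩).eq
    have hu₀1 : (u₀ : G) ≠ 1 := fun e => by
      rw [← Subgroup.orderOf_coe, e, orderOf_one] at hu₀; omega
    have hcl : ∀ c ∈ C, ∀ w ∈ V, c * w * c⁻¹ ∈ V := by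
      rintro c hc w ⟨h1, h2, h3⟩
      refine ⟨hOn c hc w h1, ?_, fun o ho => ?_⟩
      · rw [show c * w * c⁻¹ * (c * w * c⁻¹) = c * (w * w) * c⁻¹ by group, h2, mul_one, mul_inv_cancel]
      · have h4 := h3 _ (hOn c⁻¹ (inv_mem hc) o ho)
        rw [inv_inv] at h4
        show c * w * c⁻¹ * o = o * (c * w * c⁻¹)
        calc c * w * c⁻¹ * o = c * (w * (c⁻¹ * o * c)) * c⁻¹ := by group
          _ = c * ((c⁻¹ * o * c) * w) * c⁻¹ := by rw [h4.eq]
          _ = o * (c * w * c⁻¹) := by group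
    have hinvol : ∀ w ∈ V, w ≠ 1 → orderOf w = 2 := fun w hw h =>
      haveI : Fact (Nat.Prime 2) := ⟨Nat.prime_two⟩
      orderOf_eq_prime (by rw [pow_two, hw.2.1]) h
    have hmul : ∀ w ∈ V, ∀ w' ∈ V, w * w' ∈ V := by
      rintro w ⟨h1, h2, h3⟩ w' ⟨h1', h2', h3'⟩
      refine ⟨mul_mem h1 h1', ?_, fun o ho => (h3 o ho).mul_left (h3' o ho)⟩
      rw [show w * w' * (w * w') = w * (w' * w) * w' by group, ← (h3 w' h1').eq,
        show w * (w * w') * w' = (w * w) * (w' * w') by group, h2, h2', one_mul]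
    have hcomV : ∀ w ∈ V, ∀ w' ∈ V, Commute w w' := fun w hw w' hw' => hw.2.2 w' hw'.1
    -- the fixed point
    have hfix : ∀ y ∈ P, y ∉ Subgroup.zpowers v → ∀ w ∈ V, Commute w y → w = 1 := by
      intro y hy hyv w hw hwy
      by_contra hw1
      exact H.no_pair (hinvol w hw hw1) hv3 (H.cube hP hy) (hab v hvP y hy) hv1 hyv (hcv w (hOC hw.1)) hwy
    have hnorm : ∀ y ∈ P, y ∉ Subgroup.zpowers v → ∀ w ∈ V,
        y ^ 2 * w * (y ^ 2)⁻¹ = w * (y * w * y⁻¹) := by
      intro y hy hyv w hw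
      have hy3 := H.cube hP hy
      set w' := y * w * y⁻¹ with hw'
      set w'' := y ^ 2 * w * (y ^ 2)⁻¹ with hw''
      have hw'V : w' ∈ V := hcl y (hPC hy) w hw
      have hw''V : w'' ∈ V := hcl _ (pow_mem (hPC hy) 2) w hw
      have e := hfix y hy hyv (w * w' * w'') (hmul _ (hmul _ hw _ hw'V) _ hw''V) (by
        show w * w' * w'' * y = y * (w * w' * w'')
        have e1 : y * w'' * y⁻¹ = w := by
          rw [hw'', show y * (y ^ 2 * w * (y ^ 2)⁻¹) * y⁻¹ = y ^ 3 * w * (y ^ 3)⁻¹ by group, hy3]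
          group
        have e2 : y * w' * y⁻¹ = w'' := by rw [hw', hw'', pow_two]; group
        calc w * w' * w'' * y = w * (w' * w'') * y := by group
          _ = (w' * w'') * w * y := by rw [(hcomV w hw _ (hmul _ hw'V _ hw''V)).eq]
          _ = (y * w * y⁻¹) * (y * w' * y⁻¹) * (y * w'' * y⁻¹) * y := by rw [e1, e2, ← hw']
          _ = y * (w * w' * w'') := by group)
      have h1 : w'' * w'' = 1 := hw''V.2.1
      calc w'' = (w * w' * w'') * w'' := by rw [e, one_mul]
        _ = w * w' := by rw [mul_assoc (w * w'), h1, mul_one]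
    -- two independent elements of P modulo v
    obtain ⟨y₁, hy₁, hy₁v⟩ : ∃ y ∈ P, y ∉ Subgroup.zpowers v := by
      by_contra hh
      push Not at hh
      have := Subgroup.card_le_of_le (show P ≤ Subgroup.zpowers v from hh)
      rw [Nat.card_zpowers, orderOf_eq_three hv3 hv1, hP] at this
      omega
    obtain ⟨y₂, hy₂, hy₂v⟩ : ∃ y ∈ P, y ∉ pairSub v y₁ hv3 (H.cube hP hy₁) (hab v hvP y₁ hy₁) := by
      by_contra hh
      push Not at hh
      have := Subgroup.card_le_of_le (show P ≤ pairSub v y₁ hv3 (H.cube hP hy₁) (hab v hvP y₁ hy₁) from hh)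
      rw [card_pairSub _ _ _ hv1 hy₁v, hP] at this
      omega
    have hsub : ∀ g ∈ Subgroup.zpowers v, g ∈ pairSub v y₁ hv3 (H.cube hP hy₁) (hab v hvP y₁ hy₁) :=
      fun g hg => Subgroup.zpowers_le.mpr (left_mem_pairSub _ _ _) hg
    have hy₂' : y₂ ∉ Subgroup.zpowers v := fun h => hy₂v (hsub _ h)
    have hy12 : y₁ * y₂ ∉ Subgroup.zpowers v := fun h => hy₂v <| by
      rw [show y₂ = y₁⁻¹ * (y₁ * y₂) by group]
      exact mul_mem (inv_mem (right_mem_pairSub _ _ _)) (hsub _ h)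
    have hy12' : y₂⁻¹ * y₁ ∉ Subgroup.zpowers v := fun h => hy₂v <| by
      rw [show y₂ = y₁ * (y₂⁻¹ * y₁)⁻¹ by group]
      exact mul_mem (right_mem_pairSub _ _ _) (inv_mem (hsub _ h))
    set u : G := (u₀ : G) with hu
    have hA := hnorm y₁ hy₁ hy₁v
    have hB := hnorm y₂ hy₂ hy₂' u huV
    have hAB := hnorm _ (mul_mem hy₁ hy₂) hy12 u huV
    set a : G → G := fun w => y₁ * w * y₁⁻¹ with ha
    set b : G := y₂ * u * y₂⁻¹ with hb
    have hbV : b ∈ V := hcl y₂ (hPC hy₂) u huV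
    have hauV : a u ∈ V := hcl y₁ (hPC hy₁) u huV
    have habV : a b ∈ V := hcl y₁ (hPC hy₁) b hbV
    have e1 : (y₁ * y₂) ^ 2 * u * ((y₁ * y₂) ^ 2)⁻¹ = y₁ ^ 2 * (u * b) * (y₁ ^ 2)⁻¹ := by
      rw [(hab y₁ hy₁ y₂ hy₂).mul_pow, hb, ← hB]
      group
    rw [e1, show y₁ ^ 2 * (u * b) * (y₁ ^ 2)⁻¹ = (y₁ ^ 2 * u * (y₁ ^ 2)⁻¹) * (y₁ ^ 2 * b * (y₁ ^ 2)⁻¹) by group,
      hA u huV, hA b hbV, show y₁ * y₂ * u * (y₁ * y₂)⁻¹ = a b by simp only [ha, hb]; group] at hAB
    change u * a u * (b * a b) = u * a b at hAB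
    have e2 : a u = b := by
      have h1 : a u * b * a b = a b :=
        mul_left_cancel (a := u) (by rw [← hAB]; simp only [mul_assoc])
      have h2 : a u * b = 1 := mul_right_cancel (b := a b) (by rw [h1, one_mul])
      calc a u = a u * (b * b) := by rw [hbV.2.1, mul_one]
        _ = b := by rw [← mul_assoc, h2, one_mul]
    refine hu₀1 (hfix _ (mul_mem (inv_mem hy₂) hy₁) hy12' u huV ?_)
    show u * (y₂⁻¹ * y₁) = y₂⁻¹ * y₁ * u
    calc u * (y₂⁻¹ * y₁) = y₂⁻¹ * (y₂ * u * y₂⁻¹) * y₁ := by group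
      _ = y₂⁻¹ * (a u) * y₁ := by rw [e2, hb]
      _ = y₂⁻¹ * y₁ * u := by simp only [ha]; group
  · -- an involution normalises P and fixes v
    push Not at hN
    obtain ⟨c, hcC, hcP, q, hq, hcq⟩ := hN
    have hcN : c ∈ C ⊓ Subgroup.normalizer (P : Set G) := by
      refine ⟨hcC, Subgroup.mem_normalizer_iff.mpr fun g => ⟨fun hg => hcP g hg, fun hg => ?_⟩⟩
      have hmap : P.map (MulAut.conj c).toMonoidHom = P := by
        refine Subgroup.eq_of_le_of_card_ge ?_ ?_
        · rintro _ ⟨g, hg, rfl⟩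
          exact hcP g hg
        · rw [Nat.card_congr (P.equivMapOfInjective (MulAut.conj c).toMonoidHom (MulAut.conj c).injective).toEquiv]
      rw [← hmap] at hg
      obtain ⟨g', hg', he⟩ := hg
      have : g' = g := (MulAut.conj c).injective he
      exact this ▸ hg'
    set K := C ⊓ Subgroup.normalizer (P : Set G) with hK
    have hPK : P ≤ K := le_inf hPC Subgroup.le_normalizer
    obtain ⟨t, htK, ht⟩ : ∃ t ∈ K, orderOf t = 2 := by
      rcases odd_or_two_dvd K with h | h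
      · exfalso
        have hKd := H.card_cent_dvd hv3 hv1 (show K ≤ C from inf_le_left)
        have h27 : Nat.card K ∣ 27 :=
          (((Nat.Prime.coprime_iff_not_dvd Nat.prime_two).mpr h).pow_left 5).symm.dvd_of_dvd_mul_left hKd
        have hKP : P = K := Subgroup.eq_of_le_of_card_ge hPK (hP ▸ Nat.le_of_dvd (by norm_num) h27)
        exact hcq (hab c (hKP ▸ hcN) q hq)
      · exact h
    have htv : Commute t v := hcv t htK.1
    have htP : ∀ p ∈ P, t * p * t⁻¹ ∈ P := fun p hp => (Subgroup.mem_normalizer_iff.mp htK.2 p).mp hp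
    have ht2 : t * t = 1 := by rw [← pow_two, ← ht, pow_orderOf_eq_one]
    have hti : t⁻¹ = t := inv_eq_of_mul_eq_one_right ht2
    have hinvP : ∀ x ∈ P, x⁻¹ * (t * x * t⁻¹) ∈ P := fun x hx => mul_mem (inv_mem hx) (htP x hx)
    have hinv : ∀ x ∈ P, t * (x⁻¹ * (t * x * t⁻¹)) * t⁻¹ = (x⁻¹ * (t * x * t⁻¹))⁻¹ := fun x hx => by
      calc t * (x⁻¹ * (t * x * t⁻¹)) * t⁻¹ = (t * x * t⁻¹)⁻¹ * ((t * t) * x * (t * t)⁻¹) := by group
        _ = (x⁻¹ * (t * x * t⁻¹))⁻¹ := by rw [ht2]; group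
    have hfixed : ∀ x ∈ P, x * (t * x * t⁻¹) ∈ Subgroup.zpowers v := by
      intro x hx
      by_contra hw
      refine H.no_pair ht hv3 (H.cube hP (mul_mem hx (htP x hx))) (hab v hvP _ (mul_mem hx (htP x hx))) hv1 hw htv ?_
      show t * (x * (t * x * t⁻¹)) = x * (t * x * t⁻¹) * t
      calc t * (x * (t * x * t⁻¹)) = (t * x * t⁻¹) * ((t * t) * x * (t * t)⁻¹) * t := by group
        _ = (t * x * t⁻¹) * x * t := by rw [ht2]; group
        _ = _ := by rw [(hab _ (htP x hx) x hx).eq]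
    -- inverted elements outside a proper subgroup
    have hgen : ∀ K' : Subgroup G, Nat.card K' ≤ 9 → v ∈ K' →
        ∃ y ∈ P, t * y * t⁻¹ = y⁻¹ ∧ y ∉ K' := by
      intro K' hK' hvK
      by_contra hh
      push Not at hh
      have hle : P ≤ K' := fun x hx => by
        have h1 := hh _ (hinvP x hx) (hinv x hx)
        have h2 : x * (t * x * t⁻¹) ∈ K' := Subgroup.zpowers_le.mpr hvK (hfixed x hx)
        have h3 : x ^ 2 ∈ K' := by
          have e : x ^ 2 = x * (t * x * t⁻¹) * (x⁻¹ * (t * x * t⁻¹))⁻¹ := by rw [pow_two]; group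
          rw [e]
          exact mul_mem h2 (inv_mem h1)
        have e : x = (x ^ 2) ^ 2 := by rw [← pow_mul, pow_succ, H.cube hP hx, one_mul]
        rw [e]
        exact pow_mem h3 2
      have := Subgroup.card_le_of_le hle
      omega
    have hzero : ∀ y ∈ P, t * y * t⁻¹ = y⁻¹ → y ≠ 1 → H.S.χ y = ((0 : ℤ) : ℂ) := by
      intro y hy hyt hy1
      have hy3 := H.cube hP hy
      obtain ⟨b, hb, hb'⟩ := H.S.value_three hy3 hy1
      have hb0 := H.S.nonneg_of_inverted hy3 ht hyt hb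
      have hvy : v * y ≠ 1 := fun e => by
        have ey : y = v⁻¹ := eq_inv_of_mul_eq_one_right e
        rw [ey, inv_inv, mul_inv_eq_iff_eq_mul, (htv.inv_right).eq] at hyt
        have e2 : v⁻¹ = v := mul_right_cancel hyt
        exact hv1 (by
          calc v = v ^ 3 * (v⁻¹ * v⁻¹) := by group
            _ = v ^ 3 * (v * v⁻¹) := by rw [e2]
            _ = 1 := by rw [hv3]; group)
      have hvy3 : (v * y) ^ 3 = 1 := H.cube hP (mul_mem hvP hy)
      obtain ⟨c', hc', hc''⟩ := H.S.value_three hvy3 hvy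
      have hd : H.S.χ (v * y ^ 2) = c' := by
        rw [← hc', ← H.S.conj_eq (v * y) t]
        congr 1
        rw [show t * (v * y) * t⁻¹ = (t * v * t⁻¹) * (t * y * t⁻¹) by group, hyt, htv.eq,
          mul_inv_cancel_right]
        congr 1
        exact (inv_eq_of_mul_eq_one_right (by rw [← pow_succ', hy3])).symm
      obtain ⟨n₀, n₁, n₂, n₃, f₀, f₁, f₂, f₃⟩ := H.S.plane hv3 hy3 (hab v hvP y hy)
        (a := -3) (by rw [hv]; norm_num) hb hc' hd
      rw [hb]
      congr 1
      omega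
    obtain ⟨y, hy, hyt, hyv⟩ := hgen (Subgroup.zpowers v)
      (by rw [Nat.card_zpowers, orderOf_eq_three hv3 hv1]; norm_num) (Subgroup.mem_zpowers v)
    have hy3 := H.cube hP hy
    obtain ⟨y', hy', hyt', hyv'⟩ := hgen (pairSub v y hv3 hy3 (hab v hvP y hy))
      (card_pairSub _ _ _ hv1 hyv).le (left_mem_pairSub _ _ _)
    have hy1 : y ≠ 1 := fun e => hyv (e ▸ one_mem _)
    have hmemy : ∀ k, y ^ k ∈ pairSub v y hv3 hy3 (hab v hvP y hy) :=
      fun k => pow_mem (right_mem_pairSub _ _ _) k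
    have hprod : ∀ z z', z ∈ P → z' ∈ P → t * z * t⁻¹ = z⁻¹ → t * z' * t⁻¹ = z'⁻¹ →
        t * (z * z') * t⁻¹ = (z * z')⁻¹ := by
      intro z z' hz hz' e e'
      rw [show t * (z * z') * t⁻¹ = (t * z * t⁻¹) * (t * z' * t⁻¹) by group, e, e', mul_inv_rev]
      exact (hab _ (inv_mem hz) _ (inv_mem hz')).eq
    have hne : ∀ k, y * y' ^ k = 1 → (k = 1 ∨ k = 2) → False := fun k e hk => hyv' <| by
      have e' : y' ^ k = y ^ 2 := by
        rw [eq_inv_of_mul_eq_one_right e]
        exact inv_eq_of_mul_eq_one_right (by rw [← pow_succ', hy3])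
      rcases hk with rfl | rfl
      · rw [pow_one] at e'
        rw [e']
        exact hmemy 2
      · have : y' = (y' ^ 2) ^ 2 := by rw [← pow_mul, pow_succ, H.cube hP hy', one_mul]
        rw [this, e']
        exact pow_mem (hmemy 2) 2
    have hy'sq : t * y' ^ 2 * t⁻¹ = (y' ^ 2)⁻¹ := by rw [← conj_pow, hyt', inv_pow]
    obtain ⟨n₀, -, -, -, f₀, -, -, -⟩ := H.S.plane hy3 (H.cube hP hy') (hab y hy y' hy')
      (hzero y hy hyt hy1) (hzero y' hy' hyt' fun e => hyv' (e ▸ one_mem _))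
      (hzero _ (mul_mem hy hy') (hprod _ _ hy hy' hyt hyt') fun e => hne 1 (by rw [pow_one]; exact e) (Or.inl rfl))
      (hzero _ (mul_mem hy (pow_mem hy' 2)) (hprod _ _ hy (pow_mem hy' 2) hyt hy'sq) fun e => hne 2 e (Or.inr rfl))
    omega

end Hyp

end CfsgLib.UThreeUnique
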