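import Cfsg.Agent.Lib.UThreeUnique.Block
import Cfsg.Agent.Lib.Char.Orth
import Mathlib.GroupTheory.SpecificGroups.Dihedral

/-!
# The character of degree 6 on small subgroups of a simple group of order 6048
-/

set_option autoImplicit false
set_option linter.unusedSectionVars false
set_option linter.style.haveILetI false

namespace CfsgLib.UThreeUnique

open Cfsg
open scoped ComplexConjugate CfsgLib.Char
open CfsgLib

universe u

variable {G : Type u} [Group G]

/-- The powers of `g` as a homomorphism from `ZMod n`. -/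
def powHom (n : ℕ) [NeZero n] (g : G) (hg : g ^ n = 1) : Multiplicative (ZMod n) →* G where
  toFun k := g ^ (Multiplicative.toAdd k).val
  map_one' := by simp
  map_mul' a b := by
    rw [toAdd_mul, ZMod.val_add, ← pow_eq_pow_mod _ hg, pow_add]

@[simp] theorem powHom_apply (n : ℕ) [NeZero n] (g : G) (hg : g ^ n = 1) (k : ZMod n) :
    powHom n g hg (Multiplicative.ofAdd k) = g ^ k.val := rfl

/-- The two homomorphisms commute, so give one on the product. -/
def pairHom {A B : Type*} [Group A] [Group B] (f : A →* G) (h : B →* G)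
    (hc : ∀ a b, Commute (f a) (h b)) : A × B →* G where
  toFun p := f p.1 * h p.2
  map_one' := by simp
  map_mul' p q := by
    show f (p.1 * q.1) * h (p.2 * q.2) = f p.1 * h p.2 * (f q.1 * h q.2)
    rw [map_mul, map_mul, mul_assoc, mul_assoc, ← mul_assoc (f q.1) (h p.2), (hc q.1 p.2).eq, mul_assoc]

@[simp] theorem pairHom_apply {A B : Type*} [Group A] [Group B] (f : A →* G) (h : B →* G)
    (hc : ∀ a b, Commute (f a) (h b)) (p : A × B) : pairHom f h hc p = f p.1 * h p.2 := rfl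

theorem sum_multiplicative {n : ℕ} [NeZero n] {M : Type*} [AddCommMonoid M]
    (F : Multiplicative (ZMod n) → M) :
    ∑ k, F k = ∑ k : ZMod n, F (Multiplicative.ofAdd k) :=
  (Equiv.sum_comp Multiplicative.ofAdd F).symm

theorem sum_zmod_three {M : Type*} [AddCommMonoid M] (F : ZMod 3 → M) :
    ∑ k, F k = F 0 + F 1 + F 2 :=
  Fin.sum_univ_three (f := F)

theorem sum_zmod_two {M : Type*} [AddCommMonoid M] (F : ZMod 2 → M) :
    ∑ k, F k = F 0 + F 1 :=
  Fin.sum_univ_two (f := F)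

theorem val_three_one : (1 : ZMod 3).val = 1 := by decide
theorem val_three_two : (2 : ZMod 3).val = 2 := by decide
theorem val_two_one : (1 : ZMod 2).val = 1 := by decide

/-- A primitive cube root of unity. -/
noncomputable def omega3 : ℂ := Complex.exp (2 * Real.pi * Complex.I / (3 : ℕ))

theorem omega3_prim : IsPrimitiveRoot omega3 3 := Complex.isPrimitiveRoot_exp 3 (by norm_num)

theorem omega3_pow : omega3 ^ 3 = 1 := omega3_prim.pow_eq_one

theorem omega3_sum : 1 + omega3 + omega3 ^ 2 = 0 := by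
  have h := omega3_prim.geom_sum_eq_zero (by norm_num)
  rw [Finset.sum_range_succ, Finset.sum_range_succ, Finset.sum_range_one, pow_zero, pow_one] at h
  exact h

theorem conj_omega3 : conj omega3 = omega3 ^ 2 := by
  rw [← Complex.inv_eq_conj (Complex.norm_eq_one_of_pow_eq_one omega3_pow (by norm_num))]
  exact inv_eq_of_mul_eq_one_right (by rw [← pow_succ', omega3_pow])

/-- `ω` as a unit. -/
noncomputable def omegaU : ℂˣ :=
  Units.mk0 omega3 (omega3_prim.ne_zero (by norm_num))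

theorem omegaU_pow : omegaU ^ 3 = 1 :=
  Units.ext (by rw [Units.val_pow_eq_pow_val]; exact omega3_pow)

theorem negOne_pow : (-1 : ℂˣ) ^ 2 = 1 := neg_one_sq

variable [Fintype G]

/-- Multiplicities are natural numbers. -/
theorem inner_nat {χ : G → ℂ} (hχ : IsCharacter G χ) {A : Type*} [Group A] [Fintype A] (f : A →* G)
    (l : A →* ℂˣ) : ∃ n : ℕ, ∑ a, χ (f a) * conj (l a : ℂ) = (Fintype.card A : ℂ) * n := by
  obtain ⟨n, hn⟩ := Char.exists_nat_classInner (G := A) (Char.isCharacter_comp f hχ)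
    (Char.isCharacter_monoidHom l)
  refine ⟨n, ?_⟩
  rw [classInner, Nat.card_eq_fintype_card,
    inv_mul_eq_iff_eq_mul₀ (Nat.cast_ne_zero.mpr Fintype.card_ne_zero)] at hn
  exact hn

theorem value_inv {χ : G → ℂ} (hχ : IsCharacter G χ) (g : G) : χ g⁻¹ = conj (χ g) := by
  obtain ⟨n, ρ, rfl⟩ := hχ
  exact Char.char_value_inv ρ g

namespace Six

variable (S : Six G)

theorem inv_eq (g : G) : S.χ g⁻¹ = S.χ g := by rw [value_inv S.isChar, S.real]

theorem sq_eq {g : G} (hg : g ^ 3 = 1) : S.χ (g ^ 2) = S.χ g := by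
  rw [← S.inv_eq g]
  exact congrArg S.χ (inv_eq_of_mul_eq_one_right (by rw [← pow_succ', hg])).symm

theorem conj_eq (g h : G) : S.χ (h * g * h⁻¹) = S.χ g :=
  Char.isClassFunction_of_isCharacter S.isChar g h

/-- The values at elements of order three. -/
theorem value_three {g : G} (hg : g ^ 3 = 1) (hg1 : g ≠ 1) :
    ∃ a : ℤ, S.χ g = a ∧ (a = 3 ∨ a = 0 ∨ a = -3) := by
  obtain ⟨n, hn⟩ := inner_nat S.isChar (powHom 3 g hg) (powHom 3 omegaU omegaU_pow)
  obtain ⟨m, hm⟩ := inner_nat S.isChar (powHom 3 g hg) 1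
  rw [sum_multiplicative, sum_zmod_three, Fintype.card_multiplicative, ZMod.card] at hn hm
  simp only [powHom_apply, ZMod.val_zero, val_three_one, val_three_two, pow_zero, pow_one, S.one,
    S.sq_eq hg, Units.val_one, Units.val_pow_eq_pow_val, map_one, mul_one, MonoidHom.one_apply] at hn hm
  rw [show ((omegaU : ℂˣ) : ℂ) = omega3 from rfl, map_pow, conj_omega3] at hn
  have hval : S.χ g = (((6 : ℤ) - 3 * n : ℤ) : ℂ) := by
    push_cast
    linear_combination -hn + S.χ g * omega3_sum + S.χ g * omega3 * omega3_pow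
  refine ⟨_, hval, ?_⟩
  have h2 : (((18 : ℤ) - 6 * n - 3 * m : ℤ) : ℂ) = ((0 : ℤ) : ℂ) := by
    rw [hval] at hm
    push_cast at hm ⊢
    linear_combination hm
  have h2' := Int.cast_injective h2
  have hn0 : n ≠ 0 := fun h0 => hg1 (S.faithful g (by rw [hval, h0]; norm_num))
  omega

/-- An involution inverting an element of order three. -/
theorem nonneg_of_inverted {y t : G} (hy : y ^ 3 = 1) (ht : orderOf t = 2) (hinv : t * y * t⁻¹ = y⁻¹)
    {a : ℤ} (ha : S.χ y = a) : 0 ≤ a := by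
  have ht2 : t * t = 1 := by rw [← pow_two, ← ht, pow_orderOf_eq_one]
  have hti : t⁻¹ = t := inv_eq_of_mul_eq_one_right ht2
  have hy1 : t * y * t = y ^ 2 := by
    rw [hti] at hinv
    rw [hinv]
    exact inv_eq_of_mul_eq_one_right (by rw [← pow_succ', hy])
  have hP := powHom 3 y hy
  have hswap : ∀ k : ZMod 3, y ^ k.val * t = t * y ^ (-k).val := by
    intro k
    have h2 : t * y ^ 2 * t = y := by
      rw [← hy1, show t * (t * y * t) * t = (t * t) * y * (t * t) by group, ht2, one_mul, mul_one]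
    have e1 : y * t = t * y ^ 2 := by
      calc y * t = t * y ^ 2 * t * t := by rw [h2]
        _ = t * y ^ 2 := by rw [mul_assoc, ht2, mul_one]
    have e2 : y ^ 2 * t = t * y := by
      calc y ^ 2 * t = t * y * t * t := by rw [hy1]
        _ = t * y := by rw [mul_assoc, ht2, mul_one]
    rcases (show k = 0 ∨ k = 1 ∨ k = 2 by revert k; decide) with rfl | rfl | rfl
    · simp
    · rw [show (-(1 : ZMod 3)) = 2 by decide, val_three_one, val_three_two, pow_one, e1]
    · rw [show (-(2 : ZMod 3)) = 1 by decide, val_three_one, val_three_two, pow_one, e2]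
  have hmul : ∀ i j : ZMod 3, y ^ (i + j).val = y ^ i.val * y ^ j.val := fun i j => by
    rw [ZMod.val_add, ← pow_eq_pow_mod _ hy, pow_add]
  let f : DihedralGroup 3 →* G :=
    { toFun := fun d => match d with
        | DihedralGroup.r i => y ^ i.val
        | DihedralGroup.sr i => t * y ^ i.val
      map_one' := by rw [DihedralGroup.one_def]; simp
      map_mul' := fun d e => by
        rcases d with i | i <;> rcases e with j | j <;>
          simp only [DihedralGroup.r_mul_r, DihedralGroup.r_mul_sr, DihedralGroup.sr_mul_r,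
            DihedralGroup.sr_mul_sr]
        · exact hmul i j
        · rw [← mul_assoc, hswap, mul_assoc, ← hmul, neg_add_eq_sub]
        · rw [mul_assoc, ← hmul]
        · rw [mul_assoc, ← mul_assoc (y ^ i.val), hswap, mul_assoc, ← hmul, ← mul_assoc, ht2,
            one_mul, neg_add_eq_sub] }
  obtain ⟨n, hn⟩ := inner_nat S.isChar f 1
  have huniv : (Finset.univ : Finset (DihedralGroup 3)) =
      {DihedralGroup.r 0, DihedralGroup.r 1, DihedralGroup.r 2,
        DihedralGroup.sr 0, DihedralGroup.sr 1, DihedralGroup.sr 2} := by decide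
  have hsr : ∀ i : ZMod 3, S.χ (f (DihedralGroup.sr i)) = -2 := fun i => by
    refine S.invol _ ?_
    rw [orderOf_eq_prime_iff]
    refine ⟨?_, fun h => ?_⟩
    · rw [← map_pow, pow_two, DihedralGroup.sr_mul_self, map_one]
    · have h' : t = (y ^ i.val)⁻¹ := eq_inv_of_mul_eq_one_left h
      have hd : orderOf t ∣ 3 := by
        rw [h', orderOf_inv]
        exact orderOf_dvd_of_pow_eq_one (by rw [← pow_mul, mul_comm, pow_mul, hy, one_pow])
      rw [ht] at hd
      norm_num at hd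
  rw [huniv, Finset.sum_insert (by decide), Finset.sum_insert (by decide),
    Finset.sum_insert (by decide), Finset.sum_insert (by decide), Finset.sum_insert (by decide),
    Finset.sum_singleton, DihedralGroup.card] at hn
  simp only [MonoidHom.one_apply, Units.val_one, map_one, mul_one, hsr] at hn
  have e0 : S.χ (f (DihedralGroup.r 0)) = 6 := by
    show S.χ (y ^ (0 : ZMod 3).val) = 6
    rw [ZMod.val_zero, pow_zero, S.one]
  have e1 : S.χ (f (DihedralGroup.r 1)) = a := by
    show S.χ (y ^ (1 : ZMod 3).val) = a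
    rw [val_three_one, pow_one, ha]
  have e2 : S.χ (f (DihedralGroup.r 2)) = a := by
    show S.χ (y ^ (2 : ZMod 3).val) = a
    rw [val_three_two, S.sq_eq hy, ha]
  rw [e0, e1, e2] at hn
  have h2 : ((2 * a - 6 * n : ℤ) : ℂ) = ((0 : ℤ) : ℂ) := by
    push_cast at hn ⊢
    linear_combination hn
  have := Int.cast_injective h2
  omega

/-- The four multiplicities on a pair of commuting elements of exponent three. -/
theorem plane {u w : G} (hu : u ^ 3 = 1) (hw : w ^ 3 = 1) (huw : Commute u w) {a b c d : ℤ}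
    (ha : S.χ u = a) (hb : S.χ w = b) (hc : S.χ (u * w) = c) (hd : S.χ (u * w ^ 2) = d) :
    ∃ n₀ n₁ n₂ n₃ : ℕ, 6 + 2 * a + 2 * b + 2 * c + 2 * d = 9 * (n₀ : ℤ) ∧
      6 + 2 * a - b - c - d = 9 * (n₁ : ℤ) ∧ 6 - a + 2 * b - c - d = 9 * (n₂ : ℤ) ∧
      6 - a - b + 2 * c - d = 9 * (n₃ : ℤ) := by
  have hcomm : ∀ i j, Commute (powHom 3 u hu i) (powHom 3 w hw j) := fun i j => huw.pow_pow _ _
  let f := pairHom (powHom 3 u hu) (powHom 3 w hw) hcomm
  have h22 : S.χ (u ^ 2 * w ^ 2) = c := by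
    rw [← huw.mul_pow]
    rw [S.sq_eq (by rw [huw.mul_pow, hu, hw, one_mul]), hc]
  have h21 : S.χ (u ^ 2 * w) = d := by
    have hw4 : w ^ 4 = w := by rw [pow_succ, hw, one_mul]
    have hcw : Commute u (w ^ 2) := huw.pow_right 2
    rw [← hd, ← S.sq_eq (g := u * w ^ 2) (by rw [hcw.mul_pow, hu, ← pow_mul, pow_mul', hw, one_pow, one_mul]),
      hcw.mul_pow, ← pow_mul, hw4]
  have key : ∀ (l₁ l₂ : ℂˣ) (h₁ : l₁ ^ 3 = 1) (h₂ : l₂ ^ 3 = 1), ∃ n : ℕ,
      6 + (a : ℂ) * (conj (l₁ : ℂ) + conj (l₁ : ℂ) ^ 2) + (b : ℂ) * (conj (l₂ : ℂ) + conj (l₂ : ℂ) ^ 2) +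
        (c : ℂ) * (conj (l₁ : ℂ) * conj (l₂ : ℂ) + conj (l₁ : ℂ) ^ 2 * conj (l₂ : ℂ) ^ 2) +
        (d : ℂ) * (conj (l₁ : ℂ) * conj (l₂ : ℂ) ^ 2 + conj (l₁ : ℂ) ^ 2 * conj (l₂ : ℂ)) = 9 * (n : ℂ) := by
    intro l₁ l₂ h₁ h₂
    obtain ⟨n, hn⟩ := inner_nat S.isChar f
      ((powHom 3 l₁ h₁).coprod (powHom 3 l₂ h₂))
    refine ⟨n, ?_⟩
    simp only [f, Fintype.sum_prod_type, sum_multiplicative, sum_zmod_three, pairHom_apply, MonoidHom.coprod_apply, powHom_apply,
      ZMod.val_zero, val_three_one, val_three_two, pow_zero, pow_one, one_mul, mul_one, S.one,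
      S.sq_eq hu, S.sq_eq hw, ha, hb, hc, hd, h21, h22, Units.val_one, Units.val_mul,
      Units.val_pow_eq_pow_val, map_one, map_mul, map_pow, Fintype.card_prod, Fintype.card_multiplicative,
      ZMod.card] at hn
    push_cast at hn
    linear_combination hn
  obtain ⟨n₀, e₀⟩ := key 1 1 (one_pow _) (one_pow _)
  obtain ⟨n₁, e₁⟩ := key 1 omegaU (one_pow _) omegaU_pow
  obtain ⟨n₂, e₂⟩ := key omegaU 1 omegaU_pow (one_pow _)
  obtain ⟨n₃, e₃⟩ := key omegaU (omegaU ^ 2) omegaU_pow (by rw [← pow_mul, mul_comm, pow_mul, omegaU_pow, one_pow])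
  refine ⟨n₀, n₁, n₂, n₃, ?_, ?_, ?_, ?_⟩ <;> refine Int.cast_injective (α := ℂ) ?_ <;> push_cast
  · simp only [Units.val_one, map_one] at e₀
    linear_combination e₀
  · simp only [Units.val_one, map_one, show ((omegaU : ℂˣ) : ℂ) = omega3 from rfl, conj_omega3] at e₁
    linear_combination e₁ - ((b : ℂ) + c + d) * omega3_sum -
      ((b : ℂ) + c + d) * omega3 * omega3_pow
  · simp only [Units.val_one, map_one, show ((omegaU : ℂˣ) : ℂ) = omega3 from rfl, conj_omega3] at e₂
    linear_combination e₂ - ((a : ℂ) + c + d) * omega3_sum -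
      ((a : ℂ) + c + d) * omega3 * omega3_pow
  · simp only [Units.val_pow_eq_pow_val, show ((omegaU : ℂˣ) : ℂ) = omega3 from rfl, map_pow, conj_omega3] at e₃
    have p4 : omega3 ^ 4 = omega3 := by rw [pow_succ, omega3_pow, one_mul]
    have p6 : omega3 ^ 6 = 1 := by rw [show (6 : ℕ) = 3 * 2 from rfl, pow_mul, omega3_pow, one_pow]
    have p8 : omega3 ^ 8 = omega3 ^ 2 := by rw [show (8 : ℕ) = 6 + 2 from rfl, pow_add, p6, one_mul]
    have p10 : omega3 ^ 10 = omega3 := by rw [show (10 : ℕ) = 6 + 4 from rfl, pow_add, p6, one_mul, p4]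
    have p12 : omega3 ^ 12 = 1 := by rw [show (12 : ℕ) = 6 * 2 from rfl, pow_mul, p6, one_pow]
    simp only [← pow_mul, ← pow_add, Nat.reduceMul, Nat.reduceAdd, p4, p6, p8, p10, p12] at e₃
    linear_combination e₃ - ((a : ℂ) + b + d) * omega3_sum - 2 * (c : ℂ) * omega3_pow

/-- Some element of a subgroup of exponent three and order 27 has value `-3`. -/
theorem exists_neg_three {P : Subgroup G} (hP : Nat.card P = 27) (h3 : ∀ p ∈ P, p ^ 3 = 1) :
    ∃ v ∈ P, v ≠ 1 ∧ S.χ v = -3 := by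
  classical
  by_contra h
  push Not at h
  have hval : ∀ p : P, p ≠ 1 → ∃ k : ℕ, k ≤ 1 ∧ S.χ (p : G) = 3 * (k : ℂ) := by
    intro p hp
    have hp' : (p : G) ≠ 1 := fun e => hp (Subtype.ext e)
    obtain ⟨a, ha, rfl | rfl | rfl⟩ := S.value_three (h3 _ p.2) hp'
    · exact ⟨1, le_rfl, by rw [ha]; norm_num⟩
    · exact ⟨0, by norm_num, by rw [ha]; norm_num⟩
    · exact absurd (by rw [ha]; norm_num) (h _ p.2 hp')
  choose k hk1 hk using hval
  set K : ℕ := ∑ p ∈ ((Finset.univ : Finset P).erase 1).attach, k p.1 (Finset.ne_of_mem_erase p.2) with hK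
  obtain ⟨m, hm⟩ := inner_nat S.isChar P.subtype 1
  obtain ⟨M, hM⟩ := Char.exists_nat_classInner (G := P) (Char.isCharacter_restrict P S.isChar)
    (Char.isCharacter_restrict P S.isChar)
  have hc : Fintype.card P = 27 := by rw [← Nat.card_eq_fintype_card, hP]
  have e1 : ∑ p : P, S.χ (p : G) = 6 + 3 * (K : ℂ) := by
    rw [← Finset.add_sum_erase _ _ (Finset.mem_univ (1 : P)), Subgroup.coe_one, S.one, hK, Nat.cast_sum,
      Finset.mul_sum, ← Finset.sum_attach]
    exact congrArg _ (Finset.sum_congr rfl fun p _ => hk p.1 (Finset.ne_of_mem_erase p.2))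
  have e2 : ∑ p : P, S.χ (p : G) * conj (S.χ (p : G)) = 36 + 9 * (K : ℂ) := by
    rw [← Finset.add_sum_erase _ _ (Finset.mem_univ (1 : P)), Subgroup.coe_one, S.real, S.one, hK,
      Nat.cast_sum, Finset.mul_sum, ← Finset.sum_attach]
    refine congrArg₂ (· + ·) (by norm_num) (Finset.sum_congr rfl fun p _ => ?_)
    rw [S.real, hk p.1 (Finset.ne_of_mem_erase p.2)]
    have := hk1 p.1 (Finset.ne_of_mem_erase p.2)
    rcases (show k p.1 (Finset.ne_of_mem_erase p.2) = 0 ∨ k p.1 (Finset.ne_of_mem_erase p.2) = 1 by omega)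
      with e | e <;> rw [e] <;> norm_num
  simp only [MonoidHom.one_apply, Units.val_one, map_one, mul_one, Subgroup.coe_subtype, hc] at hm
  rw [classInner, hP, inv_mul_eq_iff_eq_mul₀ (by norm_num), e2] at hM
  rw [e1] at hm
  have hm' : 6 + 3 * K = 27 * m := by exact_mod_cast hm
  have hM' : 36 + 9 * K = 27 * M := by exact_mod_cast hM
  omega

/-- No four group normalised by an element of order three centralising `x`, when the value at `x` is `0`. -/
theorem false_of_four {v w x : G} (hv : orderOf v = 2) (hw : orderOf w = 2) (hvw' : orderOf (v * w) = 2)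
    (hvw : Commute v w) (hx : x ^ 3 = 1) (hvx : Commute v x) (hwx : Commute w x) (h0 : S.χ x = 0)
    (e₂ : S.χ (w * x) = S.χ (v * x)) (e₃ : S.χ (v * w * x) = S.χ (v * x)) : False := by
  have hv2 : v ^ 2 = 1 := by rw [← hv, pow_orderOf_eq_one]
  have hw2 : w ^ 2 = 1 := by rw [← hw, pow_orderOf_eq_one]
  have hV : ∀ i j, Commute (powHom 2 v hv2 i) (powHom 2 w hw2 j) := fun i j => hvw.pow_pow _ _
  let fV := pairHom (powHom 2 v hv2) (powHom 2 w hw2) hV
  have hfc : ∀ i j, Commute (fV i) (powHom 3 x hx j) := fun i j =>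
    Commute.mul_left (hvx.pow_pow _ _) (hwx.pow_pow _ _)
  let f := pairHom fV (powHom 3 x hx) hfc
  have hsq : ∀ g, Commute g x → g ^ 2 = 1 → S.χ (g * x ^ 2) = S.χ (g * x) := by
    intro g hgx hg2
    rw [← S.inv_eq (g * x)]
    refine congrArg S.χ (inv_eq_of_mul_eq_one_right ?_).symm
    calc g * x * (g * x ^ 2) = g * (x * g) * x ^ 2 := by simp only [mul_assoc]
      _ = g ^ 2 * x ^ 3 := by rw [← hgx.eq, pow_two g, pow_succ' x 2]; simp only [mul_assoc]
      _ = 1 := by rw [hg2, hx, one_mul]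
  have hvw2 : (v * w) ^ 2 = 1 := by rw [← hvw', pow_orderOf_eq_one]
  have key : ∀ (l : ℂˣ) (l' : ℂˣ) (m : ℂˣ) (h : l ^ 2 = 1) (h' : l' ^ 2 = 1) (hm : m ^ 3 = 1), ∃ n : ℕ,
      6 + (-2) * (conj (l : ℂ) + conj (l' : ℂ) + conj (l : ℂ) * conj (l' : ℂ)) +
        S.χ (v * x) * ((conj (l : ℂ) + conj (l' : ℂ) + conj (l : ℂ) * conj (l' : ℂ)) *
          (conj (m : ℂ) + conj (m : ℂ) ^ 2)) = 12 * (n : ℂ) := by
    intro l l' m h h' hm
    obtain ⟨n, hn⟩ := inner_nat S.isChar f
      (((powHom 2 l h).coprod (powHom 2 l' h')).coprod (powHom 3 m hm))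
    refine ⟨n, ?_⟩
    simp only [f, fV, Fintype.sum_prod_type, sum_multiplicative, sum_zmod_three, sum_zmod_two,
      pairHom_apply, MonoidHom.coprod_apply, powHom_apply, ZMod.val_zero, val_three_one, val_three_two, val_two_one, pow_zero,
      pow_one, one_mul, mul_one, S.one, S.sq_eq hx, h0, hsq v hvx hv2, hsq w hwx hw2,
      hsq (v * w) (Commute.mul_left hvx hwx) hvw2, e₂, e₃, S.invol v hv, S.invol w hw, S.invol _ hvw',
      Units.val_one, Units.val_mul, Units.val_pow_eq_pow_val, map_one, map_mul, map_pow, Fintype.card_prod,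
      Fintype.card_multiplicative, ZMod.card] at hn
    push_cast at hn
    linear_combination hn
  obtain ⟨n₀, f₀⟩ := key 1 1 1 (one_pow _) (one_pow _) (one_pow _)
  obtain ⟨n₁, f₁⟩ := key 1 1 omegaU (one_pow _) (one_pow _) omegaU_pow
  obtain ⟨n₂, f₂⟩ := key (-1) 1 1 negOne_pow (one_pow _) (one_pow _)
  simp only [Units.val_one, Units.val_neg, map_one, map_neg, show ((omegaU : ℂˣ) : ℂ) = omega3 from rfl,
    conj_omega3] at f₀ f₁ f₂
  have h1 : ((12 * n₀ + 24 * n₁ : ℕ) : ℂ) = ((0 : ℕ) : ℂ) := by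
    push_cast
    linear_combination -f₀ - 2 * f₁ + 6 * S.χ (v * x) * omega3_sum + 6 * S.χ (v * x) * omega3 * omega3_pow
  have h1' : 12 * n₀ + 24 * n₁ = 0 := Nat.cast_injective h1
  have hn0 : n₀ = 0 := by omega
  rw [hn0, Nat.cast_zero] at f₀
  have h2 : ((36 * n₂ : ℕ) : ℂ) = ((24 : ℕ) : ℂ) := by
    push_cast
    linear_combination -3 * f₂ - f₀
  have h2' : 36 * n₂ = 24 := Nat.cast_injective h2
  omega

end Six

end CfsgLib.UThreeUnique
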