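import Mathlib.Logic.Function.Iterate
import Mathlib.Data.Nat.Basic
import Mathlib.Tactic.IntervalCases

/-!
# Tables for the 2-transitive action on 28 points

Point `a + 3 b + 9 c < 27` stands for the translate `(a, b, c)` of a second point, and `27` for the
first point.
-/

set_option autoImplicit false

namespace CfsgLib.UThreeUnique.Tables

/-- An entry of five bits. -/
def get5 (N i : ℕ) : ℕ := N / 2 ^ (5 * i) % 32

/-- Translations of the 28 points. -/
def ltab : ℕ := 0xdb6a50a6993448cbcc0b861161b95211dfad8dd64d038442a5681737e8ecb924251a39ddc8ca053a3bdd61ae608e4c56d44a92218dcd2281b44ab940a1f11b30a192f2f43477da453c44e3bb41453d19ab892584da830b6d8a69465e5b328a06a06bb46b0ca27c3895d9cc8b56ea4af38d358e080507c4832ce54de359194895a9f1856f60082641d8e6ca93dc60f7358b52507314831041ace2f6ad272d919798170c22c372a423bf4da9429a64d1dd4ad02e6fd1d972484a34723759340e110dbac35cc11c98ada895244317232814e8efda8143e236614325e5e868ef348a06d12aed828a7a3357124b09b50616c914f1138eeddd140d40d768d61944f8712a29a519796ccde71a6b1c100a0f890659ca87322d5ba92bdbe30adec0104c83b1cd95278d64652256ada0e62906208359c5ed5a4e5183dcd62d49dd86e548477e9b528534c9a2465e605c308db2e4909468e46eb2681c22152b40b9bf47d95b512a48862e465029d1deeb0d7304726d864bcbd0d1de69140da255ca050f88d985dc96136a0c2d9229e2271dda0a29e8cd5c4dac3289f0e254534a32f2d9945035035da3dc1f120cb3950e645ab752579c69ac70402d9907639b2a4f1ac8ca44ad4f8c2b7b0041deb38bdab49ca307b9ac5a928398a418820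

/-- Inverses. -/
def ntab : ℕ := 0x35cc845ea5a6d7ae7589d24428ce830440

/-- The point stabiliser of two points, acting. -/
def htab (c : Bool) : ℕ := cond c 0xdd2b9c4ef6d496c83d4e6c52219cc129100db22a6bd6e826ba9db14be64340486114e0dc14d5ba2c7a733b52faae2470904540cc0dbdab8b15072716a6ab3cde462090309ca0dcf17ad33ab494f731708b521314623a080db971541af626f4d4f36c56451202721860ddaf5ceb13a49ae6422f52d2428ce830440deb38bdab49ca307b9ac5a928398a418820 0xdd2b9c4ef6d496c83d4e6c52219cc129100de2969d757cc9eb6a9917412611023414e0ddf54b6675c49d15b60a63d254088708cc0dd67aa62d9bc98a8aded839230a04621ca0dcf17ad33ab494f731708b521314623a080de6d3d5e98aca0d545cb7b1272050511860ddaf5ceb13a49ae6422f52d2428ce830440deb38bdab49ca307b9ac5a928398a418820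

/-- Its multiplication. -/
def mtab (c : Bool) : ℕ := cond c 0x88c50106711c03284863006121c4528c27100c401482098e3204e030ca21904639401398a418820 0x88c5010672846011c8621c2330045100e128cc401482098e330c07204a21904639401398a418820

/-- Its inverses. -/
def itab (c : Bool) : ℕ := cond c 0x194c239020 0x1904639420

/-- The determinants. -/
def dtab (c : Bool) : ℕ := cond c 0x884208821 0x842108421

/-- The images of the second basis vector. -/
def qtab (c : Bool) : ℕ := cond c 0x28901390c3 0x2a024388c3

/-- Automorphisms. -/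
def autsC : List ℕ := [0x398a418820, 0x194c239020, 0x3904619420, 0x1888539820]

/-- Automorphisms. -/
def autsQ : List ℕ := [0x398a418820, 0x30ca720820, 0x21ca330820, 0x190a638820, 0x290e610c20, 0x314e220c20, 0x118e428c20, 0x208e530c20, 0x29cc311020, 0x388c519020, 0x10cc729020, 0x194c239020, 0x3904619420, 0x31c4321420, 0x20c4731420, 0x1984439420, 0x28c8711820, 0x3948219820, 0x11c8329820, 0x1888539820, 0x2986411c20, 0x3086521c20, 0x1106629c20, 0x2146231c20]

/-- The remaining generator. -/
def wtab : ℕ := 0x5676a6357ca5cd5c60a7b24828ce43083b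

/-- A translation. -/
def lp (u p : ℕ) : ℕ := get5 ltab (28 * u + p)

/-- The inverse of a translation. -/
def ng (u : ℕ) : ℕ := get5 ntab u

/-- An element fixing the two points. -/
def hp (c : Bool) (k p : ℕ) : ℕ := get5 (htab c) (28 * k + p)

/-- Multiplication of the elements fixing the two points. -/
def mu (c : Bool) (i j : ℕ) : ℕ := get5 (mtab c) (8 * i + j)

/-- Inversion of the elements fixing the two points. -/
def iv (c : Bool) (i : ℕ) : ℕ := get5 (itab c) i

/-- The index of the element moving `1` over the coset of a point. -/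
def kidx (p : ℕ) : ℕ := if p < 27 then (p + 8) % 9 else 8

/-- The orbit of a point with a non-central coset. -/
def cls (c : Bool) (p : ℕ) : ℕ := get5 (dtab c) (kidx p) * (p / 9) % 3

/-- The three representatives. -/
def pick (p₁ p₂ p₃ i : ℕ) : ℕ := if i = 0 then p₁ else if i = 1 then p₂ else p₃

/-- The generator interchanging the two points, from its values on representatives. -/
def wfun (c : Bool) (τ p₁ p₂ p₃ q p : ℕ) : ℕ :=
  if p = 0 then 27 else if p = 27 then 0 else if p = 9 then q else if p = 18 then 27 - q else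
    hp c (get5 τ (kidx p)) (pick p₁ p₂ p₃ (cls c p))

/-- The condition on one translation. -/
def step (c : Bool) (w : ℕ → ℕ) (m u : ℕ) : Bool :=
  let y := fun p => lp (ng (w u)) (w (lp u (w p)))
  let x := hp c (iv c m) (w (y 0))
  decide (x < 27) &&
    (let k := kidx (lp (ng x) (hp c (iv c m) (w (y 1))))
    decide (k < 8) && (List.range 28).all fun p => decide (w (lp x (hp c k p)) = y p))

/-- The generator squares into the stabiliser and satisfies the condition. -/
def good (c : Bool) (w : ℕ → ℕ) : Bool :=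
  let m := kidx (w (w 1))
  decide (m < 8) && decide (w (w 10) = hp c m 10) &&
    ((List.range 28).all fun p => decide (w (w p) = hp c m p)) &&
    (List.range 26).all fun u => step c w m (u + 1)

/-- The candidates for the automorphism. -/
def auts (c : Bool) : List ℕ := cond c autsC autsQ

/-- All solutions are the generator in the table. -/
def searchOK (c : Bool) : Bool :=
  (auts c).all fun τ => ([1, 10, 19] : List ℕ).all fun p₁ => (List.range 27).all fun p₂ =>
    decide (p₂ % 9 = 0) || decide (cls c p₂ = cls c p₁) || (List.range 27).all fun p₃ =>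
      decide (p₃ % 9 = 0) || decide (cls c p₃ = cls c p₁) || decide (cls c p₃ = cls c p₂) ||
        ([9, 18] : List ℕ).all fun q =>
          !good c (wfun c τ p₁ p₂ p₃ q) ||
            (c && (List.range 28).all fun p => decide (wfun c τ p₁ p₂ p₃ q p = get5 wtab p))

theorem searchC : searchOK true = true := by decide +kernel

theorem searchQ : searchOK false = true := by decide +kernel

/-- Powers of a translation. -/
def pw (i n : ℕ) : ℕ := (lp i)^[n % 3] 0

/-- The image of a point under the automorphism sending the basis to `i` and `j`. -/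
def imgOf (i j u : ℕ) : ℕ :=
  lp (pw i (u % 3)) (lp (pw j (u / 3 % 3))
    (pw (lp (ng (lp j i)) (lp i j)) (u / 9 + u % 3 * (u / 3 % 3))))

/-- The powers in the cyclic case. -/
def mpow (c : Bool) (a : ℕ) : ℕ → ℕ
  | 0 => 0
  | n + 1 => mu c a (mpow c a n)

theorem lp_range : ∀ u < 27, ∀ v < 28, lp u v < 28 ∧ (lp u v = 27 ↔ v = 27) := by decide +kernel

theorem lp_zero : ∀ u < 27, lp u 0 = u ∧ ng u < 27 ∧ lp (ng u) u = 0 := by decide +kernel

theorem lp_coord : ∀ u < 27, ∀ v < 27,
    lp u v % 3 = (u % 3 + v % 3) % 3 ∧ lp u v / 3 % 3 = (u / 3 % 3 + v / 3 % 3) % 3 := by decide +kernel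

theorem lp_coord_z : ∀ u < 27, ∀ v < 27,
    (lp u v / 9 + lp u v % 3 * (lp u v / 3 % 3)) % 3 =
      (u / 9 + u % 3 * (u / 3 % 3) + (v / 9 + v % 3 * (v / 3 % 3)) + 2 * (u / 3 % 3) * (v % 3)) % 3 := by
  decide +kernel

theorem hp_range : ∀ c : Bool, ∀ k < 8, ∀ p < 28,
    hp c k p < 28 ∧ (hp c k p = 27 ↔ p = 27) ∧ hp c k 0 = 0 := by decide +kernel

theorem hp_img : ∀ c : Bool, ∀ k < 8, ∀ u < 27, imgOf (k + 1) (get5 (qtab c) k) u = hp c k u := by
  decide +kernel

theorem hp_one : ∀ c : Bool, ∀ k < 8, hp c k 1 = k + 1 := by decide +kernel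

theorem mu_spec : ∀ c : Bool, ∀ i < 8, ∀ j < 8, mu c i j < 8 ∧ hp c i (j + 1) = mu c i j + 1 := by
  decide +kernel

theorem iv_spec : ∀ c : Bool, ∀ i < 8, iv c i < 8 ∧ mu c i (iv c i) = 0 ∧ mu c (iv c i) i = 0 := by
  decide +kernel

theorem iv_hp : ∀ c : Bool, ∀ i < 8, ∀ p < 28, hp c (iv c i) (hp c i p) = p := by decide +kernel

theorem kidx_hp : ∀ c : Bool, ∀ k < 8, kidx (hp c k 1) = k := by decide +kernel

theorem decomp : ∀ c : Bool, ∀ p < 27, p % 9 ≠ 0 →
    kidx p < 8 ∧ cls c p < 3 ∧ hp c (kidx p) (pick 1 10 19 (cls c p)) = p := by decide +kernel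

theorem decomp_cls : ∀ c : Bool, cls c 1 = 0 ∧ cls c 10 = 1 ∧ cls c 19 = 2 := by decide +kernel

theorem cls_hp : ∀ c : Bool, ∀ k < 8, ∀ p < 27, p % 9 ≠ 0 →
    cls c (hp c k p) = cls c p ∧ hp c k p % 9 ≠ 0 := by decide +kernel

theorem normal_first : ∀ c : Bool, ∀ p < 27, p % 9 ≠ 0 →
    hp c (iv c (kidx p)) p = pick 1 10 19 (cls c p) := by decide +kernel

theorem auts_lt : ∀ c : Bool, ∀ τ ∈ auts c, ∀ k < 8, get5 τ k < 8 := by decide +kernel

theorem cyc_cases : ∀ q < 9, q ≠ 0 → (imgOf 3 q)^[4] 1 = 2 → (imgOf 3 q)^[4] 3 = 6 → q = 4 ∨ q = 7 := by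
  decide +kernel

theorem cyc_flip : imgOf 3 7 (imgOf 3 7 1) = 7 ∧ imgOf 3 7 3 = 7 := by decide +kernel

theorem cyc_pow : ∀ i < 8, ∀ u < 27,
    (hp true 2)^[i] u = hp true (mpow true 2 i) u ∧ mpow true 2 i < 8 := by decide +kernel

theorem cyc_gen : ∀ k < 8, ∃ i < 8, mpow true 2 i = k := by decide +kernel

set_option synthInstance.maxSize 1000 in
theorem quat_cases : ∀ k < 8, 2 ≤ k → ∀ q < 9, q ≠ 0 →
    imgOf (k + 1) q (k + 1) = 2 → imgOf (k + 1) q (imgOf (k + 1) q 3) = 6 → q = get5 (qtab false) k := by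
  decide +kernel

theorem qtab_first : ∀ c : Bool, get5 (qtab c) 0 = 3 ∧ get5 (qtab c) 1 = 6 := by decide +kernel

theorem auts_cyc : ∀ a < 8, mpow true a 4 ≠ 0 →
    ∃ τ ∈ autsC, ∀ i < 8, get5 τ (mpow true 2 i) = mpow true a i := by decide +kernel

set_option synthInstance.maxSize 1000 in
theorem auts_quat : ∀ a < 8, ∀ b < 8, mu false a a = 1 → mu false b b = 1 → b ≠ a → b ≠ mu false a 1 →
    ∃ τ ∈ autsQ, ∀ i < 4, ∀ j < 2,
      get5 τ (mu false (mpow false 2 i) (mpow false 3 j)) = mu false (mpow false a i) (mpow false b j) := by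
  decide +kernel

theorem quat_gen : ∀ k < 8, ∃ i < 4, ∃ j < 2, mu false (mpow false 2 i) (mpow false 3 j) = k := by
  decide +kernel

end CfsgLib.UThreeUnique.Tables
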