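import Cfsg.Agent.Lib.UThreeUnique.Local
import Cfsg.Agent.Lib.UThreeUnique.Tables

/-!
# Coordinates for the normalizer of a Sylow 3-subgroup in a simple group of order 6048
-/

set_option autoImplicit false
set_option linter.unusedSectionVars false
set_option linter.style.haveILetI false

namespace CfsgLib.UThreeUnique

open Tables

universe u

theorem imgOf_two_six : ∀ u < 27, imgOf 2 6 u = ng u → u < 9 := by decide +kernel

theorem lp_ng_cancel : ∀ u < 27, ∀ v < 28, lp (ng u) (lp u v) = v := by decide +kernel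

variable {G : Type u} [Group G]

theorem pow_congr_three {g : G} (hg : g ^ 3 = 1) {a b : ℕ} (h : a % 3 = b % 3) : g ^ a = g ^ b := by
  rw [pow_eq_pow_mod a hg, pow_eq_pow_mod b hg, h]

theorem pw_lt {i : ℕ} (hi : i < 27) (n : ℕ) : pw i n < 27 := by
  have h : ∀ m : ℕ, (lp i)^[m] 0 < 27 := by
    intro m
    induction m with
    | zero => simp
    | succ m ih =>
      rw [Function.iterate_succ_apply']
      have := lp_range i hi _ (show (lp i)^[m] 0 < 28 by omega)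
      rcases eq_or_ne (lp i ((lp i)^[m] 0)) 27 with e | e
      · have := this.2.mp e; omega
      · omega
  exact h _

theorem lp_lt {i j : ℕ} (hi : i < 27) (hj : j < 27) : lp i j < 27 := by
  have := lp_range i hi j (by omega)
  rcases eq_or_ne (lp i j) 27 with e | e
  · have := this.2.mp e; omega
  · omega

theorem imgOf_lt {i j : ℕ} (hi : i < 27) (hj : j < 27) (u : ℕ) : imgOf i j u < 27 :=
  lp_lt (pw_lt hi _) (lp_lt (pw_lt hj _)
    (pw_lt (lp_lt (lp_zero _ (lp_lt hj hi)).2.1 (lp_lt hi hj)) _))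

/-- The element with given coordinates. -/
def psi (e₁ e₂ z : G) (u : ℕ) : G :=
  e₁ ^ (u % 3) * e₂ ^ (u / 3 % 3) * z ^ (u / 9 + u % 3 * (u / 3 % 3))

section basic

variable {e₁ e₂ z : G}

theorem swap_powers (hz1 : Commute z e₁) (hz2 : Commute z e₂) (hcomm : e₂ * e₁ = e₁ * e₂ * z ^ 2) (b a : ℕ) :
    e₂ ^ b * e₁ ^ a = e₁ ^ a * e₂ ^ b * z ^ (2 * b * a) := by
  have h1 : ∀ a : ℕ, e₂ * e₁ ^ a = e₁ ^ a * e₂ * z ^ (2 * a) := by
    intro a
    induction a with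
    | zero => simp
    | succ a ih =>
      calc e₂ * e₁ ^ (a + 1) = (e₂ * e₁ ^ a) * e₁ := by rw [pow_succ, mul_assoc]
        _ = e₁ ^ a * e₂ * (z ^ (2 * a) * e₁) := by rw [ih, mul_assoc]
        _ = e₁ ^ a * (e₂ * e₁) * z ^ (2 * a) := by rw [(hz1.pow_left _).eq]; simp only [mul_assoc]
        _ = e₁ ^ a * (e₁ * e₂) * (z ^ 2 * z ^ (2 * a)) := by rw [hcomm]; simp only [mul_assoc]
        _ = e₁ ^ (a + 1) * e₂ * z ^ (2 * (a + 1)) := by
          rw [← pow_add, pow_succ, show 2 + 2 * a = 2 * (a + 1) by ring]; simp only [mul_assoc]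
  induction b with
  | zero => simp
  | succ b ih =>
    calc e₂ ^ (b + 1) * e₁ ^ a = e₂ * (e₂ ^ b * e₁ ^ a) := by rw [pow_succ', mul_assoc]
      _ = (e₂ * e₁ ^ a) * e₂ ^ b * z ^ (2 * b * a) := by rw [ih]; simp only [mul_assoc]
      _ = e₁ ^ a * e₂ * (z ^ (2 * a) * e₂ ^ b) * z ^ (2 * b * a) := by rw [h1]; simp only [mul_assoc]
      _ = e₁ ^ a * (e₂ * e₂ ^ b) * (z ^ (2 * a) * z ^ (2 * b * a)) := by
        rw [(hz2.pow_pow _ _).eq]; simp only [mul_assoc]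
      _ = e₁ ^ a * e₂ ^ (b + 1) * z ^ (2 * (b + 1) * a) := by
        rw [← pow_add, ← pow_succ', show 2 * a + 2 * b * a = 2 * (b + 1) * a by ring]

theorem psi_mul (h1 : e₁ ^ 3 = 1) (h2 : e₂ ^ 3 = 1) (h3 : z ^ 3 = 1) (hz1 : Commute z e₁)
    (hz2 : Commute z e₂) (hcomm : e₂ * e₁ = e₁ * e₂ * z ^ 2) {u v : ℕ} (hu : u < 27) (hv : v < 27) :
    psi e₁ e₂ z u * psi e₁ e₂ z v = psi e₁ e₂ z (lp u v) := by
  obtain ⟨f1, f2⟩ := lp_coord u hu v hv
  have f3 := lp_coord_z u hu v hv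
  unfold psi
  set a := u % 3
  set b := u / 3 % 3
  set c := u / 9 + a * b
  set a' := v % 3
  set b' := v / 3 % 3
  set c' := v / 9 + a' * b'
  calc e₁ ^ a * e₂ ^ b * z ^ c * (e₁ ^ a' * e₂ ^ b' * z ^ c')
      = e₁ ^ a * (e₂ ^ b * e₁ ^ a') * (z ^ c * (e₂ ^ b' * z ^ c')) := by
        rw [show e₁ ^ a * e₂ ^ b * z ^ c * (e₁ ^ a' * e₂ ^ b' * z ^ c') =
          e₁ ^ a * e₂ ^ b * (z ^ c * e₁ ^ a') * (e₂ ^ b' * z ^ c') by simp only [mul_assoc],
          (hz1.pow_pow c a').eq]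
        simp only [mul_assoc]
    _ = e₁ ^ a * (e₁ ^ a' * e₂ ^ b * z ^ (2 * b * a')) * (e₂ ^ b' * (z ^ c * z ^ c')) := by
        rw [swap_powers hz1 hz2 hcomm, ← mul_assoc (z ^ c), (hz2.pow_pow c b').eq]
        simp only [mul_assoc]
    _ = e₁ ^ (a + a') * (e₂ ^ b * (z ^ (2 * b * a') * e₂ ^ b')) * (z ^ c * z ^ c') := by
        rw [pow_add e₁]; simp only [mul_assoc]
    _ = e₁ ^ (a + a') * e₂ ^ (b + b') * z ^ (c + c' + 2 * b * a') := by
        rw [(hz2.pow_pow _ b').eq, ← pow_add z c c', ← mul_assoc (e₂ ^ b), ← pow_add e₂,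
          show c + c' + 2 * b * a' = 2 * b * a' + (c + c') by ring, pow_add z (2 * b * a')]
        simp only [mul_assoc]
    _ = _ := by
        have k1 : e₁ ^ (lp u v % 3) = e₁ ^ (a + a') := pow_congr_three h1 ((Nat.mod_mod _ _).trans f1)
        have k2 : e₂ ^ (lp u v / 3 % 3) = e₂ ^ (b + b') := pow_congr_three h2 ((Nat.mod_mod _ _).trans f2)
        have k3 : z ^ (lp u v / 9 + lp u v % 3 * (lp u v / 3 % 3)) = z ^ (c + c' + 2 * b * a') :=
          pow_congr_three h3 f3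
        rw [k1, k2, k3]

end basic

/-- Coordinates on a subgroup of order 27. -/
structure Frame (P : Subgroup G) (e₁ e₂ : G) (ψ : ℕ → G) : Prop where
  mem : ∀ u < 27, ψ u ∈ P
  surj : ∀ x ∈ P, ∃ u < 27, ψ u = x
  inj : ∀ u < 27, ∀ v < 27, ψ u = ψ v → u = v
  mul : ∀ u < 27, ∀ v < 27, ψ u * ψ v = ψ (lp u v)
  inv : ∀ u < 27, ψ (ng u) = (ψ u)⁻¹
  zero : ψ 0 = 1
  one : ψ 1 = e₁
  three : ψ 3 = e₂
  two : ψ 2 = e₁⁻¹
  six : ψ 6 = e₂⁻¹
  conj : ∀ h : G, ∀ i < 27, ∀ j < 27, h * e₁ * h⁻¹ = ψ i → h * e₂ * h⁻¹ = ψ j →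
    ∀ u < 27, h * ψ u * h⁻¹ = ψ (imgOf i j u)

variable [Finite G] [IsSimpleGroup G] [Fintype G]

namespace Hyp

variable (H : Hyp G) {P : Subgroup G} (hP : Nat.card P = 27)
include H hP

theorem exists_frame {e₁ e₂ : G} (h1 : e₁ ∈ P) (h1z : e₁ ∉ zSub P) (h2 : e₂ ∈ P)
    (h2q : e₂ ∉ qSub P e₁) : ∃ ψ : ℕ → G, Frame P e₁ e₂ ψ ∧ ψ 7 * (e₁ * e₂ ^ 2)⁻¹ ∈ zSub P := by
  have hne : e₂ * e₁ ≠ e₁ * e₂ := fun e => h2q (mem_qSub.mpr ⟨h2, e⟩)
  set z := (e₂ * e₁)⁻¹ * (e₁ * e₂) with hzdef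
  have hz : z ∈ zSub P := by
    have := H.comm_mem hP (inv_mem h1) (inv_mem h2)
    have e : z = e₁⁻¹ * e₂⁻¹ * e₁⁻¹⁻¹ * e₂⁻¹⁻¹ := by rw [hzdef]; group
    rw [e]
    exact this
  have hz1 : z ≠ 1 := fun e => hne (inv_mul_eq_one.mp e)
  have hz3 := H.zSub_cube hP hz
  have hze1 : Commute z e₁ := (mem_zSub.mp hz).2 e₁ h1
  have hze2 : Commute z e₂ := (mem_zSub.mp hz).2 e₂ h2
  have hcomm : e₂ * e₁ = e₁ * e₂ * z ^ 2 := by
    rw [show e₁ * e₂ = e₂ * e₁ * z by rw [hzdef]; group, mul_assoc (e₂ * e₁), ← pow_succ', hz3, mul_one]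
  set ψ := psi e₁ e₂ z with hψ
  have hc1 := H.cube hP h1
  have hc2 := H.cube hP h2
  have hmul : ∀ u < 27, ∀ v < 27, ψ u * ψ v = ψ (lp u v) := fun u hu v hv =>
    psi_mul hc1 hc2 hz3 hze1 hze2 hcomm hu hv
  have hzero : ψ 0 = 1 := by simp [hψ, psi]
  have hinv : ∀ u < 27, ψ (ng u) = (ψ u)⁻¹ := fun u hu => by
    refine eq_inv_of_mul_eq_one_left ?_
    rw [hmul _ (lp_zero u hu).2.1 u hu, (lp_zero u hu).2.2, hzero]
  have hmem : ∀ u < 27, ψ u ∈ P := fun u _ =>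
    mul_mem (mul_mem (pow_mem h1 _) (pow_mem h2 _)) (pow_mem (mem_zSub.mp hz).1 _)
  have hone : ψ 1 = e₁ := by simp [hψ, psi]
  have hthree : ψ 3 = e₂ := by simp [hψ, psi]
  have hnine : ψ 9 = z := by simp [hψ, psi]
  let S : Subgroup G :=
    { carrier := {x | ∃ u < 27, ψ u = x}
      one_mem' := ⟨0, by norm_num, hzero⟩
      mul_mem' := by
        rintro _ _ ⟨u, hu, rfl⟩ ⟨v, hv, rfl⟩
        exact ⟨_, lp_lt hu hv, (hmul u hu v hv).symm⟩
      inv_mem' := by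
        rintro _ ⟨u, hu, rfl⟩
        exact ⟨_, (lp_zero u hu).2.1, hinv u hu⟩ }
  have hS : S = P := by
    have hle : S ≤ P := by
      rintro _ ⟨u, hu, rfl⟩
      exact hmem u hu
    have he1S : e₁ ∈ S := ⟨1, by norm_num, hone⟩
    have hqle : qSub P e₁ ≤ S := by
      have hp := pairSub_le hc1 hz3 hze1.symm he1S (⟨9, by norm_num, hnine⟩ : z ∈ S)
      have heq : pairSub e₁ z hc1 hz3 hze1.symm = qSub P e₁ := by
        refine Subgroup.eq_of_le_of_card_ge (pairSub_le _ _ _ (mem_qSub.mpr ⟨h1, Commute.refl _⟩)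
          (H.zSub_le_qSub hP h1 hz)) ?_
        rw [H.card_qSub hP h1 h1z, card_pairSub _ _ _ (fun e => h1z (by rw [e]; exact one_mem _))
          (H.zpowers_disjoint hP h1 h1z hz hz1)]
      rwa [heq] at hp
    have hlt : Nat.card (qSub P e₁) < Nat.card S := by
      by_contra hh
      have := Subgroup.eq_of_le_of_card_ge hqle (Nat.le_of_not_lt hh)
      exact h2q (this ▸ (⟨3, by norm_num, hthree⟩ : e₂ ∈ S))
    have hd : Nat.card S ∣ 3 ^ 3 := (show (3 : ℕ) ^ 3 = 27 by norm_num) ▸ hP ▸ Subgroup.card_dvd_of_le hle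
    obtain ⟨j, hj, hje⟩ := (Nat.dvd_prime_pow Nat.prime_three).mp hd
    rw [H.card_qSub hP h1 h1z, hje] at hlt
    refine Subgroup.eq_of_le_of_card_ge hle ?_
    have h3j : j = 3 := by
      have := (Nat.pow_lt_pow_iff_right (by norm_num : 1 < 3)).mp (show 3 ^ 2 < 3 ^ j by simpa using hlt)
      omega
    rw [hje, h3j, hP]; norm_num
  have hsurj : ∀ x ∈ P, ∃ u < 27, ψ u = x := fun x hx => by
    rw [← hS] at hx
    exact hx
  have hinj : ∀ u < 27, ∀ v < 27, ψ u = ψ v → u = v := by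
    have hb : Function.Bijective fun u : Fin 27 => (⟨ψ u, hmem u u.2⟩ : P) := by
      rw [Nat.bijective_iff_surjective_and_card]
      refine ⟨fun x => ?_, by rw [Nat.card_fin, hP]⟩
      obtain ⟨u, hu, e⟩ := hsurj x x.2
      exact ⟨⟨u, hu⟩, Subtype.ext e⟩
    intro u hu v hv e
    exact congrArg Fin.val (hb.1 (a₁ := ⟨u, hu⟩) (a₂ := ⟨v, hv⟩) (Subtype.ext e))
  refine ⟨ψ, ⟨hmem, hsurj, hinj, hmul, hinv, hzero, hone, hthree, ?_, ?_, ?_⟩, ?_⟩
  · simp only [hψ, psi]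
    norm_num
    exact (inv_eq_of_mul_eq_one_right (by rw [← pow_succ', hc1])).symm
  · simp only [hψ, psi]
    norm_num
    exact (inv_eq_of_mul_eq_one_right (by rw [← pow_succ', hc2])).symm
  · intro h i hi j hj ei ej u hu
    have hpw : ∀ k < 27, ∀ n : ℕ, ψ (pw k n) = ψ k ^ n := by
      intro k hk n
      have hmain : ∀ m : ℕ, (lp k)^[m] 0 < 27 ∧ ψ ((lp k)^[m] 0) = ψ k ^ m := by
        intro m
        induction m with
        | zero => exact ⟨by simp, by rw [Function.iterate_zero_apply, pow_zero, hzero]⟩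
        | succ m ih =>
          rw [Function.iterate_succ_apply']
          exact ⟨lp_lt hk ih.1, by rw [← hmul k hk _ ih.1, ih.2, pow_succ']⟩
      rw [pw, (hmain _).2, ← pow_eq_pow_mod n (H.cube hP (hmem k hk))]
    have ezi : h * z * h⁻¹ = ψ (lp (ng (lp j i)) (lp i j)) := by
      rw [← hmul _ (lp_zero _ (lp_lt hj hi)).2.1 _ (lp_lt hi hj), hinv _ (lp_lt hj hi),
        ← hmul j hj i hi, ← hmul i hi j hj, ← ei, ← ej, hzdef]
      group
    rw [imgOf, ← hmul _ (pw_lt hi _) _ (lp_lt (pw_lt hj _)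
        (pw_lt (lp_lt (lp_zero _ (lp_lt hj hi)).2.1 (lp_lt hi hj)) _)),
      ← hmul _ (pw_lt hj _) _ (pw_lt (lp_lt (lp_zero _ (lp_lt hj hi)).2.1 (lp_lt hi hj)) _),
      hpw i hi, hpw j hj, hpw _ (lp_lt (lp_zero _ (lp_lt hj hi)).2.1 (lp_lt hi hj)), ← ei, ← ej, ← ezi,
      conj_pow, conj_pow, conj_pow]
    simp only [hψ, psi]
    group
  · have e7 : ψ 7 = e₁ * e₂ ^ 2 * z ^ 2 := by simp [hψ, psi]
    have hp : e₁ * e₂ ^ 2 ∈ P := mul_mem h1 (pow_mem h2 2)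
    have hc : Commute (z ^ 2) (e₁ * e₂ ^ 2) := (mem_zSub.mp (pow_mem hz 2)).2 _ hp
    rw [e7, ← hc.eq, mul_inv_cancel_right]
    exact pow_mem hz 2

end Hyp

end CfsgLib.UThreeUnique
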