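import Cfsg.Agent.Lib.UThreeUnique.Abelian

/-!
# 3-local structure of a simple group of order 6048 without elements of order 9
-/

set_option autoImplicit false
set_option linter.unusedSectionVars false
set_option linter.style.haveILetI false

namespace CfsgLib.UThreeUnique

open scoped _root_.Classical

universe u

variable {G : Type u} [Group G]

/-- The centre of a subgroup. -/
def zSub (P : Subgroup G) : Subgroup G := P ⊓ Subgroup.centralizer (P : Set G)

theorem mem_zSub {P : Subgroup G} {z : G} : z ∈ zSub P ↔ z ∈ P ∧ ∀ p ∈ P, Commute z p := by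
  simp only [zSub, Subgroup.mem_inf, Subgroup.mem_centralizer_iff]
  exact and_congr_right fun _ => ⟨fun h p hp => (h p hp).symm, fun h p hp => (h p hp).symm.eq⟩

/-- The centraliser of `x` in `P`. -/
def qSub (P : Subgroup G) (x : G) : Subgroup G := P ⊓ Subgroup.centralizer ({x} : Set G)

theorem mem_qSub {P : Subgroup G} {x y : G} : y ∈ qSub P x ↔ y ∈ P ∧ Commute y x := by
  simp only [qSub, Subgroup.mem_inf, Subgroup.mem_centralizer_singleton_iff]
  exact Iff.rfl

variable [Finite G] [IsSimpleGroup G] [Fintype G]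

namespace Hyp

variable (H : Hyp G) {P : Subgroup G} (hP : Nat.card P = 27)
include H hP

theorem card_zSub : Nat.card (zSub P) = 3 := by
  haveI : Fact (Nat.Prime 3) := ⟨Nat.prime_three⟩
  have hdvd : Nat.card (zSub P) ∣ 3 ^ 3 :=
    (show (3 : ℕ) ^ 3 = 27 by norm_num) ▸ hP ▸ Subgroup.card_dvd_of_le inf_le_left
  obtain ⟨k, hk, he⟩ := (Nat.dvd_prime_pow Nat.prime_three).mp hdvd
  have h1 : Nat.card (zSub P) ≠ 1 := by
    intro h
    have hp : IsPGroup 3 P := IsPGroup.of_card (n := 3) (by rw [hP]; norm_num)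
    haveI : Nontrivial P := Finite.one_lt_card_iff_nontrivial.mp (by rw [hP]; norm_num)
    haveI := hp.center_nontrivial
    obtain ⟨c, hc⟩ := exists_ne (1 : Subgroup.center P)
    have hmem : ((c : P) : G) ∈ zSub P := mem_zSub.mpr ⟨(c : P).2, fun p hp' =>
      congrArg Subtype.val (Subgroup.mem_center_iff.mp c.2 ⟨p, hp'⟩).symm⟩
    rw [Subgroup.card_eq_one.mp h, Subgroup.mem_bot] at hmem
    exact hc (Subtype.ext (Subtype.ext hmem))
  interval_cases k
  · exact absurd (he.trans (by norm_num)) h1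
  · rw [he]; norm_num
  · exfalso
    obtain ⟨a, ha, haz⟩ : ∃ a ∈ P, a ∉ zSub P := by
      by_contra hh
      push Not at hh
      have := Subgroup.card_le_of_le (show P ≤ zSub P from hh)
      rw [he, hP] at this
      norm_num at this
    have hle : zSub P ≤ qSub P a := fun z hz =>
      mem_qSub.mpr ⟨(mem_zSub.mp hz).1, (mem_zSub.mp hz).2 a ha⟩
    have haq : a ∈ qSub P a := mem_qSub.mpr ⟨ha, Commute.refl a⟩
    have hne : zSub P ≠ qSub P a := fun e => haz (e ▸ haq)
    have hlt : Nat.card (zSub P) < Nat.card (qSub P a) := by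
      by_contra hh
      exact hne (Subgroup.eq_of_le_of_card_ge hle (Nat.le_of_not_lt hh))
    have hd : Nat.card (qSub P a) ∣ 3 ^ 3 :=
      (show (3 : ℕ) ^ 3 = 27 by norm_num) ▸ hP ▸ Subgroup.card_dvd_of_le inf_le_left
    obtain ⟨j, hj, hje⟩ := (Nat.dvd_prime_pow Nat.prime_three).mp hd
    rw [he, hje] at hlt
    have hj3 : j = 3 := by
      have := (Nat.pow_lt_pow_iff_right (by norm_num : 1 < 3)).mp hlt
      omega
    have hall : qSub P a = P := Subgroup.eq_of_le_of_card_ge inf_le_left (by rw [hje, hj3, hP]; norm_num)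
    exact haz (mem_zSub.mpr ⟨ha, fun p hp => ((mem_qSub.mp (hall.symm ▸ hp)).2).symm⟩)
  · exfalso
    have hall : zSub P = P := Subgroup.eq_of_le_of_card_ge inf_le_left (by rw [he, hP]; norm_num)
    exact H.not_abelian hP fun a ha b hb => (mem_zSub.mp (hall.symm ▸ ha)).2 b hb

theorem comm_mem {a b : G} (ha : a ∈ P) (hb : b ∈ P) : a * b * a⁻¹ * b⁻¹ ∈ zSub P := by
  haveI : Fact (Nat.Prime 3) := ⟨Nat.prime_three⟩
  set Z := (zSub P).subgroupOf P with hZ
  haveI : Z.Normal := ⟨fun z hz p => by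
    have hz' : (z : G) ∈ zSub P := hz
    show (p : G) * z * (p : G)⁻¹ ∈ zSub P
    rw [← ((mem_zSub.mp hz').2 p p.2).eq, mul_inv_cancel_right]
    exact hz'⟩
  have hc : Nat.card (P ⧸ Z) = 3 ^ 2 := by
    have h := Z.card_mul_index
    have hZc : Nat.card Z = 3 := (Nat.card_congr
      (Subgroup.subgroupOfEquivOfLe (inf_le_left : zSub P ≤ P)).toEquiv).trans (H.card_zSub hP)
    rw [hZc, hP, Subgroup.index_eq_card] at h
    omega
  haveI := IsPGroup.isMulCommutative_of_card_eq_prime_sq hc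
  have h1 : (QuotientGroup.mk ((⟨a, ha⟩ : P) * ⟨b, hb⟩ * (⟨a, ha⟩ : P)⁻¹ * (⟨b, hb⟩ : P)⁻¹) : P ⧸ Z) = 1 := by
    rw [QuotientGroup.mk_mul, QuotientGroup.mk_mul, QuotientGroup.mk_mul, QuotientGroup.mk_inv,
      QuotientGroup.mk_inv]
    rw [IsMulCommutative.is_comm.comm (QuotientGroup.mk (⟨a, ha⟩ : P) : P ⧸ Z), mul_inv_cancel_right,
      mul_inv_cancel]
  exact (QuotientGroup.eq_one_iff (N := Z) ((⟨a, ha⟩ : P) * ⟨b, hb⟩ * (⟨a, ha⟩ : P)⁻¹ * (⟨b, hb⟩ : P)⁻¹)).mp h1

theorem zSub_cube {z : G} (hz : z ∈ zSub P) : z ^ 3 = 1 := H.cube hP (mem_zSub.mp hz).1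

theorem zSub_eq {z : G} (hz : z ∈ zSub P) (hz1 : z ≠ 1) : zSub P = Subgroup.zpowers z :=
  (Subgroup.eq_of_le_of_card_ge (Subgroup.zpowers_le.mpr hz)
    (by rw [Nat.card_zpowers, orderOf_eq_three (H.zSub_cube hP hz) hz1, H.card_zSub hP])).symm

theorem mem_zSub_cases {z w : G} (hz : z ∈ zSub P) (hz1 : z ≠ 1) (hw : w ∈ zSub P) :
    w = 1 ∨ w = z ∨ w = z ^ 2 := by
  rw [H.zSub_eq hP hz hz1, mem_zpowers_iff_mem_range_orderOf,
    orderOf_eq_three (H.zSub_cube hP hz) hz1] at hw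
  simp only [Finset.mem_image, Finset.mem_range] at hw
  obtain ⟨i, hi, rfl⟩ := hw
  interval_cases i <;> simp

theorem exists_ne_one : ∃ z ∈ zSub P, z ≠ 1 := by
  rcases (zSub P).bot_or_exists_ne_one with h | h
  · have := H.card_zSub hP
    rw [h, Subgroup.card_bot] at this
    omega
  · exact h

theorem zpowers_disjoint {x z : G} (hx : x ∈ P) (hxz : x ∉ zSub P) (hz : z ∈ zSub P) (hz1 : z ≠ 1) :
    z ∉ Subgroup.zpowers x := by
  intro h
  have hx3 := H.cube hP hx
  have hx1 : x ≠ 1 := fun e => hxz (e ▸ one_mem _)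
  rw [mem_zpowers_iff_mem_range_orderOf, orderOf_eq_three hx3 hx1] at h
  simp only [Finset.mem_image, Finset.mem_range] at h
  obtain ⟨i, hi, e⟩ := h
  interval_cases i
  · exact hz1 (by rw [← e, pow_zero])
  · exact hxz (by rw [← pow_one x, e]; exact hz)
  · refine hxz ?_
    have : x = z ^ 2 := by rw [← e, ← pow_mul, pow_succ, hx3, one_mul]
    rw [this]
    exact pow_mem hz 2

theorem card_qSub {x : G} (hx : x ∈ P) (hxz : x ∉ zSub P) : Nat.card (qSub P x) = 9 := by
  obtain ⟨z, hz, hz1⟩ := H.exists_ne_one hP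
  have hxc : Commute x z := ((mem_zSub.mp hz).2 x hx).symm
  have hx1 : x ≠ 1 := fun e => hxz (e ▸ one_mem _)
  have hle : pairSub x z (H.cube hP hx) (H.zSub_cube hP hz) hxc ≤ qSub P x :=
    pairSub_le _ _ _ (mem_qSub.mpr ⟨hx, Commute.refl x⟩) (mem_qSub.mpr ⟨(mem_zSub.mp hz).1, hxc.symm⟩)
  have h9 := card_pairSub (H.cube hP hx) (H.zSub_cube hP hz) hxc hx1 (H.zpowers_disjoint hP hx hxz hz hz1)
  have h1 := Subgroup.card_le_of_le hle
  have hd : Nat.card (qSub P x) ∣ 3 ^ 3 :=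
    (show (3 : ℕ) ^ 3 = 27 by norm_num) ▸ hP ▸ Subgroup.card_dvd_of_le inf_le_left
  obtain ⟨j, hj, hje⟩ := (Nat.dvd_prime_pow Nat.prime_three).mp hd
  interval_cases j
  · omega
  · omega
  · rw [hje]; norm_num
  · exfalso
    have hall : qSub P x = P := Subgroup.eq_of_le_of_card_ge inf_le_left (by rw [hje, hP]; norm_num)
    exact hxz (mem_zSub.mpr ⟨hx, fun p hp => ((mem_qSub.mp (hall.symm ▸ hp)).2).symm⟩)

theorem zSub_le_qSub {x : G} (hx : x ∈ P) : zSub P ≤ qSub P x := fun z hz =>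
  mem_qSub.mpr ⟨(mem_zSub.mp hz).1, (mem_zSub.mp hz).2 x hx⟩

theorem qSub_abelian {x : G} (hx : x ∈ P) (hxz : x ∉ zSub P) {a b : G} (ha : a ∈ qSub P x)
    (hb : b ∈ qSub P x) : Commute a b := by
  haveI : Fact (Nat.Prime 3) := ⟨Nat.prime_three⟩
  haveI := IsPGroup.isMulCommutative_of_card_eq_prime_sq (G := qSub P x) (p := 3)
    ((H.card_qSub hP hx hxz).trans (by norm_num))
  exact congrArg Subtype.val (IsMulCommutative.is_comm.comm (⟨a, ha⟩ : qSub P x) ⟨b, hb⟩)

/-- Conjugates of a non-central element. -/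
theorem exists_conj_eq {x z : G} (hx : x ∈ P) (hxz : x ∉ zSub P) (hz : z ∈ zSub P) (hz1 : z ≠ 1) :
    ∃ a ∈ P, a * x * a⁻¹ = x * z ∧ (a * a) * x * (a * a)⁻¹ = x * z ^ 2 := by
  obtain ⟨a, ha, hax⟩ : ∃ a ∈ P, a * x * a⁻¹ * x⁻¹ ≠ 1 := by
    by_contra h
    push Not at h
    refine hxz (mem_zSub.mpr ⟨hx, fun p hp => ?_⟩)
    have e : p * x * p⁻¹ = x := mul_inv_eq_one.mp (h p hp)
    exact (mul_inv_eq_iff_eq_mul.mp e).symm
  have hzx : ∀ w ∈ zSub P, Commute w x := fun w hw => (mem_zSub.mp hw).2 x hx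
  have step : ∀ a ∈ P, ∀ w ∈ zSub P, a * x * a⁻¹ = x * w → (a * a) * x * (a * a)⁻¹ = x * w ^ 2 := by
    intro a ha w hw e
    calc (a * a) * x * (a * a)⁻¹ = a * (a * x * a⁻¹) * a⁻¹ := by group
      _ = (a * x * a⁻¹) * (a * w * a⁻¹) := by (conv_lhs => rw [e]); group
      _ = x * w * w := by rw [e, ← ((mem_zSub.mp hw).2 a ha).eq, mul_inv_cancel_right]
      _ = x * w ^ 2 := by rw [pow_two, mul_assoc]
  have hw := H.comm_mem hP ha hx
  have e : a * x * a⁻¹ = x * (a * x * a⁻¹ * x⁻¹) := by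
    rw [← (hzx _ hw).eq]; group
  rcases H.mem_zSub_cases hP hz hz1 hw with e' | e' | e'
  · exact absurd e' hax
  · rw [e'] at e
    exact ⟨a, ha, e, step a ha z hz e⟩
  · rw [e'] at e
    have hzz : (z ^ 2) ^ 2 = z := by rw [← pow_mul, pow_succ, H.zSub_cube hP hz, one_mul]
    have e2 := step a ha _ (pow_mem hz 2) e
    rw [hzz] at e2
    refine ⟨a * a, mul_mem ha ha, e2, ?_⟩
    exact step _ (mul_mem ha ha) z hz e2

/-- The values of the character of degree 6 on `P`. -/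
theorem values {x z : G} (hx : x ∈ P) (hxz : x ∉ zSub P) (hz : z ∈ zSub P) (hz1 : z ≠ 1) :
    H.S.χ z = -3 ∧ H.S.χ x = 0 := by
  obtain ⟨a', ha', e1, e2⟩ := H.exists_conj_eq hP hx hxz hz hz1
  have hx1 : x ≠ 1 := fun e => hxz (e ▸ one_mem _)
  obtain ⟨a, ha, hav⟩ := H.S.value_three (H.cube hP hx) hx1
  obtain ⟨b, hb, hbv⟩ := H.S.value_three (H.zSub_cube hP hz) hz1
  obtain ⟨n₀, n₁, n₂, n₃, f₀, f₁, f₂, f₃⟩ := H.S.plane (H.cube hP hx) (H.zSub_cube hP hz)
    ((mem_zSub.mp hz).2 x hx).symm ha hb (c := a) (d := a)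
    (by rw [← e1, H.S.conj_eq, ha]) (by rw [← e2, H.S.conj_eq, ha])
  rw [hb, ha]
  constructor
  · rw [show b = -3 by omega]; norm_num
  · rw [show a = 0 by omega]; norm_num

theorem exists_noncentral : ∃ x ∈ P, x ∉ zSub P := by
  by_contra h
  push Not at h
  have := Subgroup.card_le_of_le (show P ≤ zSub P from h)
  rw [H.card_zSub hP, hP] at this
  omega

/-- No involution inverts a non-trivial central element of a Sylow 3-subgroup. -/
theorem not_inverted {z t : G} (hz : z ∈ zSub P) (hz1 : z ≠ 1) (ht : orderOf t = 2)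
    (hinv : t * z * t⁻¹ = z⁻¹) : False := by
  obtain ⟨x, hx, hxz⟩ := H.exists_noncentral hP
  have hv := (H.values hP hx hxz hz hz1).1
  have := H.S.nonneg_of_inverted (H.zSub_cube hP hz) ht hinv (a := -3) (by rw [hv]; norm_num)
  omega

/-- No element inverts a central element with square in a group of odd order. -/
theorem not_inverted_of_odd {z g : G} {K : Subgroup G} (hz : z ∈ zSub P) (hz1 : z ≠ 1)
    (hK : ¬ 2 ∣ Nat.card K) (hgK : g * g ∈ K) (hinv : g * z * g⁻¹ = z⁻¹) : False := by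
  obtain ⟨n, hn⟩ : ∃ n, Nat.card K = 2 * n + 1 := ⟨Nat.card K / 2, by omega⟩
  have hsq : (g * g) ^ Nat.card K = 1 := by
    have := pow_card_eq_one' (G := K) (x := ⟨g * g, hgK⟩)
    exact congrArg Subtype.val this
  set t := g ^ Nat.card K with ht
  have hpow : ∀ m : ℕ, g ^ (2 * m) * z * (g ^ (2 * m))⁻¹ = z := by
    intro m
    induction m with
    | zero => simp
    | succ m ih =>
      calc g ^ (2 * (m + 1)) * z * (g ^ (2 * (m + 1)))⁻¹
          = g * (g * (g ^ (2 * m) * z * (g ^ (2 * m))⁻¹) * g⁻¹) * g⁻¹ := by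
            rw [show 2 * (m + 1) = 2 * m + 1 + 1 by omega, pow_succ', pow_succ']; group
        _ = z := by rw [ih, hinv, ← conj_inv, hinv, inv_inv]
  have htinv : t * z * t⁻¹ = z⁻¹ := by
    calc t * z * t⁻¹ = g * (g ^ (2 * n) * z * (g ^ (2 * n))⁻¹) * g⁻¹ := by
          rw [ht, hn, pow_succ']; group
      _ = z⁻¹ := by rw [hpow, hinv]
  have ht2 : t ^ 2 = 1 := by rw [ht, ← pow_mul, mul_comm, pow_mul, pow_two, hsq]
  haveI : Fact (Nat.Prime 2) := ⟨Nat.prime_two⟩
  refine H.not_inverted hP hz hz1 (orderOf_eq_prime ht2 fun e => ?_) htinv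
  rw [e, one_mul, inv_one, mul_one] at htinv
  have h3 := H.zSub_cube hP hz
  exact hz1 (by
    calc z = z ^ 3 * (z⁻¹ * z⁻¹) := by group
      _ = z ^ 3 * (z * z⁻¹) := by rw [← htinv]
      _ = 1 := by rw [h3]; group)

theorem cent_pair_odd {x y : G} (hx : x ^ 3 = 1) (hy : y ^ 3 = 1) (hxy : Commute x y) (hx1 : x ≠ 1)
    (hyx : y ∉ Subgroup.zpowers x) :
    ¬ 2 ∣ Nat.card (Subgroup.centralizer ({x, y} : Set G)) := by
  intro h
  rcases odd_or_two_dvd (Subgroup.centralizer ({x, y} : Set G)) with h' | ⟨t, htc, ht⟩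
  · exact h' h
  · exact H.no_pair ht hx hy hxy hx1 hyx (Subgroup.mem_centralizer_iff.mp htc x (Or.inl rfl)).symm
      (Subgroup.mem_centralizer_iff.mp htc y (Or.inr rfl)).symm

/-- A Sylow 3-subgroup containing a given 3-subgroup of the centraliser of a central element. -/
theorem exists_sylow_cent {z' : G} (g : G) {z : G} (hz : z ∈ zSub P) (hg : g * z * g⁻¹ = z')
    {Q : Subgroup G} (hQ : ∃ a, Nat.card Q = 3 ^ a) (hQc : Q ≤ Subgroup.centralizer {z'}) :
    ∃ R : Subgroup G, Nat.card R = 27 ∧ Q ≤ R ∧ R ≤ Subgroup.centralizer {z'} := by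
  haveI : Fact (Nat.Prime 3) := ⟨Nat.prime_three⟩
  set C := Subgroup.centralizer ({z'} : Set G) with hC
  obtain ⟨a, ha⟩ := hQ
  have hP' : P.map (MulAut.conj g).toMonoidHom ≤ C := by
    rintro _ ⟨p, hp, rfl⟩
    refine Subgroup.mem_centralizer_singleton_iff.mpr ?_
    show g * p * g⁻¹ * z' = z' * (g * p * g⁻¹)
    rw [← hg]
    calc g * p * g⁻¹ * (g * z * g⁻¹) = g * (p * z) * g⁻¹ := by group
      _ = g * (z * p) * g⁻¹ := by rw [((mem_zSub.mp hz).2 p hp).eq]
      _ = _ := by group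
  have h27 : 27 ∣ Nat.card C := by
    have := Subgroup.card_dvd_of_le hP'
    rwa [Subgroup.card_map_of_injective (MulAut.conj g).injective, hP] at this
  obtain ⟨S, hS⟩ := (IsPGroup.of_card (G := Q.subgroupOf C) (p := 3) (n := a)
    ((Nat.card_congr (Subgroup.subgroupOfEquivOfLe hQc).toEquiv).trans ha)).exists_le_sylow
  refine ⟨(S : Subgroup C).map C.subtype, ?_, fun q hq => ⟨⟨q, hQc hq⟩, hS hq, rfl⟩, Subgroup.map_subtype_le _⟩
  rw [Subgroup.card_subtype]
  have h1 : 3 ^ 3 ∣ Nat.card (S : Subgroup C) := S.pow_dvd_card_of_pow_dvd_card (by simpa using h27)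
  obtain ⟨j, hj⟩ := S.2.exists_card_eq
  have h2 : 3 ^ j ∣ 6048 := by
    rw [← H.hn, ← hj, ← Subgroup.card_subtype]
    exact Subgroup.card_subgroup_dvd_card _
  rw [hj] at h1
  have h3 := (Nat.pow_dvd_pow_iff_le_right (by norm_num : 1 < 3)).mp h1
  have h4 : j < 4 := by
    by_contra hh
    have : 3 ^ 4 ∣ 6048 := (Nat.pow_dvd_pow 3 (Nat.le_of_not_lt hh)).trans h2
    norm_num at this
  rw [hj, show j = 3 by omega]
  norm_num

/-- The centre of a Sylow 3-subgroup is weakly closed in it. -/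
theorem weakly_closed {z : G} (hz : z ∈ zSub P) (hz1 : z ≠ 1) {g : G} (hgz : g * z * g⁻¹ ∈ P) :
    g * z * g⁻¹ ∈ zSub P := by
  by_contra hz'
  set z' := g * z * g⁻¹ with hz'def
  have hz'3 : z' ^ 3 = 1 := H.cube hP hgz
  have hz'1 : z' ≠ 1 := fun e => hz' (e ▸ one_mem _)
  have hcard := H.card_qSub hP hgz hz'
  obtain ⟨R, hR, hQR, hRC⟩ := H.exists_sylow_cent hP g hz hz'def.symm (Q := qSub P z') ⟨2, by rw [hcard]; norm_num⟩
    inf_le_right
  have hz'R : z' ∈ zSub R := mem_zSub.mpr ⟨hQR (mem_qSub.mpr ⟨hgz, Commute.refl _⟩),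
    fun r hr => (Subgroup.mem_centralizer_singleton_iff.mp (hRC hr)).symm⟩
  have hzR : z ∈ R := hQR (H.zSub_le_qSub hP hgz hz)
  have hzR' : z ∉ zSub R := fun h => by
    rcases H.mem_zSub_cases hR hz'R hz'1 h with e | e | e
    · exact hz1 e
    · exact hz' (e ▸ hz)
    · refine hz' ?_
      have : z' = z ^ 2 := by rw [e, ← pow_mul, pow_succ, hz'3, one_mul]
      rw [this]
      exact pow_mem hz 2
  -- elements acting as transvections on the group generated by z and z'
  obtain ⟨a₁, ha₁, ea, -⟩ := H.exists_conj_eq hP hgz hz' hz hz1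
  obtain ⟨b₁, hb₁, eb, -⟩ := H.exists_conj_eq hR hzR hzR' hz'R hz'1
  have hza : a₁ * z * a₁⁻¹ = z := by rw [← ((mem_zSub.mp hz).2 a₁ ha₁).eq, mul_inv_cancel_right]
  have hzb : b₁ * z' * b₁⁻¹ = z' := by rw [← ((mem_zSub.mp hz'R).2 b₁ hb₁).eq, mul_inv_cancel_right]
  have hzb' : b₁⁻¹ * z' * b₁ = z' := by
    rw [mul_assoc, ((mem_zSub.mp hz'R).2 b₁ hb₁).eq, inv_mul_cancel_left]
  have eb' : b₁⁻¹ * z * b₁ = z * z'⁻¹ := by
    calc b₁⁻¹ * z * b₁ = b₁⁻¹ * (b₁ * z * b₁⁻¹ * z'⁻¹) * b₁ := by rw [eb, mul_inv_cancel_right]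
      _ = z * (b₁⁻¹ * z' * b₁)⁻¹ := by group
      _ = z * z'⁻¹ := by rw [hzb']
  have hc : Commute z z' := (mem_zSub.mp hz).2 _ hgz
  set k := a₁ * b₁⁻¹ * a₁ with hk
  have k1 : k * z * k⁻¹ = z'⁻¹ := by
    calc k * z * k⁻¹ = a₁ * (b₁⁻¹ * (a₁ * z * a₁⁻¹) * b₁) * a₁⁻¹ := by rw [hk]; group
      _ = (a₁ * z * a₁⁻¹) * (a₁ * z' * a₁⁻¹)⁻¹ := by (conv_lhs => rw [hza, eb']); group
      _ = z'⁻¹ := by rw [hza, ea]; group
  have k2 : k * z' * k⁻¹ = z := by
    calc k * z' * k⁻¹ = a₁ * (b₁⁻¹ * (a₁ * z' * a₁⁻¹) * b₁) * a₁⁻¹ := by rw [hk]; group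
      _ = a₁ * ((b₁⁻¹ * z' * b₁) * (b₁⁻¹ * z * b₁)) * a₁⁻¹ := by rw [ea]; group
      _ = a₁ * (z' * (z * z'⁻¹)) * a₁⁻¹ := by rw [hzb', eb']
      _ = z := by
        rw [show z' * (z * z'⁻¹) = z by rw [← mul_assoc, ← hc.eq, mul_inv_cancel_right], hza]
  have k3 : k * z'⁻¹ * k⁻¹ = z⁻¹ := by rw [← conj_inv, k2]
  have kk1 : (k * k) * z * (k * k)⁻¹ = z⁻¹ := by
    rw [show (k * k) * z * (k * k)⁻¹ = k * (k * z * k⁻¹) * k⁻¹ by group, k1, k3]
  have k4 : k * z⁻¹ * k⁻¹ = z' := by rw [← conj_inv, k1, inv_inv]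
  have kk2 : (k * k) * z' * (k * k)⁻¹ = z'⁻¹ := by
    rw [show (k * k) * z' * (k * k)⁻¹ = k * (k * z' * k⁻¹) * k⁻¹ by group, k2, k1]
  refine H.not_inverted_of_odd hP hz hz1
    (H.cent_pair_odd hP (H.zSub_cube hP hz) hz'3 hc hz1 fun h => hz' ?_) (g := k * k) ?_ kk1
  · rw [H.zSub_eq hP hz hz1]; exact h
  · refine Subgroup.mem_centralizer_iff.mpr fun w hw => ?_
    have hfix : ∀ w, (k * k) * w * (k * k)⁻¹ = w⁻¹ → w * ((k * k) * (k * k)) = (k * k) * (k * k) * w := by
      intro w e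
      symm
      rw [← mul_inv_eq_iff_eq_mul]
      calc k * k * (k * k) * w * (k * k * (k * k))⁻¹ = (k * k) * ((k * k) * w * (k * k)⁻¹) * (k * k)⁻¹ := by group
        _ = w := by rw [e, ← conj_inv, e, inv_inv]
    rcases hw with rfl | rfl
    · exact hfix _ kk1
    · exact hfix _ kk2

/-- Non-central elements of `P` are not central in any Sylow 3-subgroup. -/
theorem not_central {x : G} (hx : x ∈ P) (hxz : x ∉ zSub P) {R : Subgroup G} (hR : Nat.card R = 27) :
    x ∉ zSub R := by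
  haveI : Fact (Nat.Prime 3) := ⟨Nat.prime_three⟩
  intro h
  have hf : Nat.card R = 3 ^ (Nat.card G).factorization 3 := by
    rw [hR, H.hn, show (6048 : ℕ) = 3 ^ 3 * 224 by norm_num, Nat.factorization_mul (by norm_num) (by norm_num),
      Finsupp.add_apply, Nat.prime_three.factorization_pow, Finsupp.single_eq_same,
      Nat.factorization_eq_zero_of_not_dvd (by norm_num : ¬ 3 ∣ 224)]
    norm_num
  obtain ⟨g, hg⟩ := MulAction.exists_smul_eq G (Sylow.ofCard R hf) (Sylow.ofCard P (hP.trans (hR.symm.trans hf)))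
  have hmap : R.map (MulAut.conj g).toMonoidHom = P := congrArg Sylow.toSubgroup hg
  have hw : g * x * g⁻¹ ∈ zSub P := by
    refine mem_zSub.mpr ⟨hmap ▸ ⟨x, (mem_zSub.mp h).1, rfl⟩, fun p hp => ?_⟩
    rw [← hmap] at hp
    obtain ⟨r, hr, rfl⟩ := hp
    show g * x * g⁻¹ * (g * r * g⁻¹) = g * r * g⁻¹ * (g * x * g⁻¹)
    calc g * x * g⁻¹ * (g * r * g⁻¹) = g * (x * r) * g⁻¹ := by group
      _ = g * (r * x) * g⁻¹ := by rw [((mem_zSub.mp h).2 r hr).eq]
      _ = _ := by group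
  have hx1 : x ≠ 1 := fun e => hxz (e ▸ one_mem _)
  refine hxz ?_
  have h1 := H.weakly_closed hP hw (fun e => hx1 (conj_eq_one_iff.mp e)) (g := g⁻¹) (by
    rw [show g⁻¹ * (g * x * g⁻¹) * g⁻¹⁻¹ = x by group]; exact hx)
  rwa [show g⁻¹ * (g * x * g⁻¹) * g⁻¹⁻¹ = x by group] at h1

/-- The centraliser of a non-central element of `P` lies in `P`. -/
theorem cent_eq_qSub {x : G} (hx : x ∈ P) (hxz : x ∉ zSub P) :
    Subgroup.centralizer ({x} : Set G) = qSub P x := by
  haveI : Fact (Nat.Prime 3) := ⟨Nat.prime_three⟩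
  set C := Subgroup.centralizer ({x} : Set G) with hC
  have hQC : qSub P x ≤ C := inf_le_right
  have hx3 := H.cube hP hx
  have hx1 : x ≠ 1 := fun e => hxz (e ▸ one_mem _)
  have hCd := H.card_cent_dvd hx3 hx1 (le_refl C)
  have h27 : ¬ 27 ∣ Nat.card C := fun h => by
    obtain ⟨S⟩ := (inferInstance : Nonempty (Sylow 3 C))
    have h1 : 3 ^ 3 ∣ Nat.card (S : Subgroup C) := S.pow_dvd_card_of_pow_dvd_card (by simpa using h)
    obtain ⟨j, hj⟩ := S.2.exists_card_eq
    rw [hj] at h1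
    have h3 := (Nat.pow_dvd_pow_iff_le_right (by norm_num : 1 < 3)).mp h1
    set R := (S : Subgroup C).map C.subtype with hRdef
    have h2 : 3 ^ j ∣ 6048 := by
      rw [← H.hn, ← hj, ← Subgroup.card_subtype]
      exact Subgroup.card_subgroup_dvd_card _
    have h4 : j < 4 := by
      by_contra hh
      have : 3 ^ 4 ∣ 6048 := (Nat.pow_dvd_pow 3 (Nat.le_of_not_lt hh)).trans h2
      norm_num at this
    have hR : Nat.card R = 27 := by
      rw [hRdef, Subgroup.card_subtype, hj, show j = 3 by omega]; norm_num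
    have hxR : x ∈ R := by
      -- x is central in C, so lies in every Sylow subgroup of C
      have hxC : x ∈ C := Subgroup.mem_centralizer_singleton_iff.mpr rfl
      set X : Subgroup C := Subgroup.zpowers ⟨x, hxC⟩ with hX
      haveI : X.Normal := ⟨fun a ha b => by
        have : Commute b (⟨x, hxC⟩ : C) := Subtype.ext (Subgroup.mem_centralizer_singleton_iff.mp b.2)
        obtain ⟨i, rfl⟩ := Subgroup.mem_zpowers_iff.mp ha
        rw [(this.zpow_right i).eq, mul_inv_cancel_right]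
        exact Subgroup.zpow_mem_zpowers _ _⟩
      have hXp : IsPGroup 3 X := IsPGroup.of_card (n := 1) (by
        rw [hX, Nat.card_zpowers, ← Subgroup.orderOf_coe, pow_one]
        exact orderOf_eq_three hx3 hx1)
      obtain ⟨S', hS'⟩ := hXp.exists_le_sylow
      obtain ⟨c, hc⟩ := MulAction.exists_smul_eq C S' S
      refine ⟨⟨x, hxC⟩, ?_, rfl⟩
      rw [← hc, Sylow.coe_subgroup_smul]
      refine ⟨⟨x, hxC⟩, hS' (Subgroup.mem_zpowers _), ?_⟩
      show c * ⟨x, hxC⟩ * c⁻¹ = ⟨x, hxC⟩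
      have : Commute c (⟨x, hxC⟩ : C) := Subtype.ext (Subgroup.mem_centralizer_singleton_iff.mp c.2)
      rw [this.eq, mul_inv_cancel_right]
    refine H.not_central hP hx hxz hR (mem_zSub.mpr ⟨hxR, fun r hr => ?_⟩)
    obtain ⟨r', -, rfl⟩ := hr
    exact (Subgroup.mem_centralizer_singleton_iff.mp r'.2).symm
  obtain ⟨z, hz, hz1⟩ := H.exists_ne_one hP
  have hzx : Commute x z := ((mem_zSub.mp hz).2 x hx).symm
  have hzQ : z ∈ qSub P x := H.zSub_le_qSub hP hx hz
  have hzdisj := H.zpowers_disjoint hP hx hxz hz hz1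
  have hodd : ¬ 2 ∣ Nat.card (Subgroup.centralizer ({x, z} : Set G)) :=
    H.cent_pair_odd hP hx3 (H.zSub_cube hP hz) hzx hx1 hzdisj
  have hQ9 := H.card_qSub hP hx hxz
  have hQmem : ∀ q ∈ qSub P x, q ∈ pairSub x z hx3 (H.zSub_cube hP hz) hzx := by
    have hle : pairSub x z hx3 (H.zSub_cube hP hz) hzx ≤ qSub P x :=
      pairSub_le _ _ _ (mem_qSub.mpr ⟨hx, Commute.refl x⟩) hzQ
    have := Subgroup.eq_of_le_of_card_ge hle (by rw [hQ9, card_pairSub _ _ _ hx1 hzdisj])
    exact fun q hq => this.symm ▸ hq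
  have hN : ∀ c ∈ C, (∀ q ∈ qSub P x, c * q * c⁻¹ ∈ qSub P x) → ∀ q ∈ qSub P x, Commute c q := by
    intro c hc hcQ
    have hcx : Commute c x := Subgroup.mem_centralizer_singleton_iff.mp hc
    have hcz : c * z * c⁻¹ = z := by
      rcases H.mem_zSub_cases hP hz hz1 (H.weakly_closed hP hz hz1 (mem_qSub.mp (hcQ z hzQ)).1) with e | e | e
      · exact absurd (conj_eq_one_iff.mp e) hz1
      · exact e
      · exfalso
        have einv : c * z * c⁻¹ = z⁻¹ := e.trans (inv_eq_of_mul_eq_one_right (by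
          rw [← pow_succ', H.zSub_cube hP hz])).symm
        refine H.not_inverted_of_odd hP hz hz1 hodd (g := c) ?_ einv
        refine Subgroup.mem_centralizer_iff.mpr fun w hw => ?_
        rcases hw with hw | hw
        · rw [hw]
          exact ((hcx.mul_left hcx).symm).eq
        · rw [Set.mem_singleton_iff.mp hw]
          symm
          rw [← mul_inv_eq_iff_eq_mul, show c * c * z * (c * c)⁻¹ = c * (c * z * c⁻¹) * c⁻¹ by group, einv,
            ← conj_inv, einv, inv_inv]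
    intro q hq
    obtain ⟨i, j, rfl⟩ := (mem_pairSub _ _ _).mp (hQmem q hq)
    exact (hcx.pow_right _).mul_right ((show Commute c z from mul_inv_eq_iff_eq_mul.mp hcz).pow_right _)
  have hidx : ¬ 3 ∣ ((qSub P x).subgroupOf C).index := fun h3 => h27 (by
    have h := ((qSub P x).subgroupOf C).card_mul_index
    rw [Nat.card_congr (Subgroup.subgroupOfEquivOfLe hQC).toEquiv, hQ9] at h
    exact h ▸ (show 9 * 3 ∣ 9 * _ from Nat.mul_dvd_mul_left 9 h3))
  obtain ⟨O, hOC, hOcard, hOn⟩ := exists_complement hQC (a := 2) (by rw [hQ9]; norm_num) hidx hN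
  rw [hQ9] at hOcard
  by_cases hO : Nat.card O = 1
  · rw [hO, one_mul] at hOcard
    exact (Subgroup.eq_of_le_of_card_ge hQC (by rw [hQ9, hOcard])).symm
  exfalso
  have hO32 : Nat.card O ∣ 32 := by
    have h3 : ¬ 3 ∣ Nat.card O := fun h => h27 (hOcard ▸ (show 3 * 9 ∣ _ from Nat.mul_dvd_mul_right h 9))
    exact ((Nat.prime_three.coprime_iff_not_dvd.mpr h3).pow_left 3).symm.dvd_of_dvd_mul_right
      ((hOcard ▸ Dvd.intro 9 rfl : Nat.card O ∣ Nat.card C).trans hCd)
  obtain ⟨u₀, hu₀, hucom⟩ := exists_central_of_dvd hO32 hO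
  set v := (u₀ : G) with hv
  have hzC : z ∈ C := hQC hzQ
  have hvo : orderOf v = 2 := by rw [hv, Subgroup.orderOf_coe, hu₀]
  have hv2 : v * v = 1 := by rw [← pow_two, ← hvo, pow_orderOf_eq_one]
  have hvx : Commute v x := Subgroup.mem_centralizer_singleton_iff.mp (hOC u₀.2)
  have hcentral : ∀ o ∈ O, Commute v o := fun o ho => congrArg Subtype.val (hucom ⟨o, ho⟩).eq
  set v' := z * v * z⁻¹ with hv'
  set v'' := z * v' * z⁻¹ with hv''
  have hv'O : v' ∈ O := hOn z hzC v u₀.2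
  have hv''O : v'' ∈ O := hOn z hzC v' hv'O
  have hv'x : Commute v' x := Subgroup.mem_centralizer_singleton_iff.mp (hOC hv'O)
  have hv''x : Commute v'' x := Subgroup.mem_centralizer_singleton_iff.mp (hOC hv''O)
  have c1 : Commute v v' := hcentral _ hv'O
  have c2 : Commute v v'' := hcentral _ hv''O
  have hzv'' : z * v'' * z⁻¹ = v := by
    rw [hv'', hv', show z * (z * (z * v * z⁻¹) * z⁻¹) * z⁻¹ = (z * z * z) * v * (z * z * z)⁻¹ by group,
      show z * z * z = 1 by rw [← H.zSub_cube hP hz, pow_succ, pow_two]]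
    group
  have hone : ∀ w, orderOf w = 2 → Commute w x → z * w * z⁻¹ = w → False := fun w hw hwx hwz =>
    H.no_pair hw hx3 (H.zSub_cube hP hz) hzx hx1 hzdisj hwx (mul_inv_eq_iff_eq_mul.mp hwz).symm
  have hv'o : orderOf v' = 2 := by
    rw [hv', show z * v * z⁻¹ = MulAut.conj z v from rfl, MulEquiv.orderOf_eq, hvo]
  have hv''o : orderOf v'' = 2 := by
    rw [hv'', show z * v' * z⁻¹ = MulAut.conj z v' from rfl, MulEquiv.orderOf_eq, hv'o]
  have hprod : v * v' * v'' = 1 := by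
    by_contra hne
    have e : z * (v * v' * v'') * z⁻¹ = v * v' * v'' := by
      calc z * (v * v' * v'') * z⁻¹ = (z * v * z⁻¹) * (z * v' * z⁻¹) * (z * v'' * z⁻¹) := by group
        _ = v' * v'' * v := by rw [← hv', ← hv'', hzv'']
        _ = v * v' * v'' := by rw [← (c1.mul_right c2).eq, ← mul_assoc]
    have c3 : Commute v' v'' := by
      show v' * v'' = v'' * v'
      rw [hv'', hv']
      calc z * v * z⁻¹ * (z * (z * v * z⁻¹) * z⁻¹) = z * (v * (z * v * z⁻¹)) * z⁻¹ := by group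
        _ = z * ((z * v * z⁻¹) * v) * z⁻¹ := by rw [← hv', c1.eq]
        _ = _ := by group
    haveI : Fact (Nat.Prime 2) := ⟨Nat.prime_two⟩
    have hsq : (v * v' * v'') ^ 2 = 1 := by
      have p1 : v ^ 2 = 1 := by rw [pow_two, hv2]
      have p2 : v' ^ 2 = 1 := by rw [← hv'o, pow_orderOf_eq_one]
      have p3 : v'' ^ 2 = 1 := by rw [← hv''o, pow_orderOf_eq_one]
      rw [(c2.mul_left c3).mul_pow, c1.mul_pow, p1, p2, p3, one_mul, one_mul]
    exact hone _ (orderOf_eq_prime hsq hne) ((hvx.mul_left hv'x).mul_left hv''x) e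
  have hv''eq : v'' = v * v' := by
    have h1 : v'' = (v * v')⁻¹ := eq_inv_of_mul_eq_one_right hprod
    have h2 : v' * v' = 1 := by rw [← pow_two, ← hv'o, pow_orderOf_eq_one]
    rw [h1, mul_inv_rev, inv_eq_of_mul_eq_one_right h2, inv_eq_of_mul_eq_one_right hv2, c1.eq]
  have hval := (H.values hP hx hxz hz hz1).2
  refine H.S.false_of_four hvo hv'o (hv''eq ▸ hv''o) c1 hx3 hvx hv'x hval ?_ ?_
  · rw [← H.S.conj_eq (v * x) z, show z * (v * x) * z⁻¹ = v' * (z * x * z⁻¹) by rw [hv']; group, ← hzx.eq,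
      mul_inv_cancel_right]
  · rw [← hv''eq, ← H.S.conj_eq (v * x) (z * z), show z * z * (v * x) * (z * z)⁻¹ =
      v'' * (z * (z * x * z⁻¹) * z⁻¹) by rw [hv'', hv']; group, ← hzx.eq, mul_inv_cancel_right, ← hzx.eq,
      mul_inv_cancel_right]

/-- Distinct Sylow 3-subgroups meet trivially. -/
theorem inter_eq_one {R : Subgroup G} (hR : Nat.card R = 27) (hne : R ≠ P) {y : G} (hyP : y ∈ P)
    (hyR : y ∈ R) : y = 1 := by
  haveI : Fact (Nat.Prime 3) := ⟨Nat.prime_three⟩
  -- no non-central element of either lies in both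
  have key : ∀ {P' R' : Subgroup G}, Nat.card P' = 27 → Nat.card R' = 27 → R' ≠ P' →
      ∀ {x : G}, x ∈ P' → x ∈ R' → x ∉ zSub P' → False := by
    intro P' R' hP' hR' hne' x hx hx' hxz
    have hxR : x ∉ zSub R' := H.not_central hP' hx hxz hR'
    have hQ : qSub R' x = qSub P' x :=
      Subgroup.eq_of_le_of_card_ge (fun w hw => H.cent_eq_qSub hP' hx hxz ▸ (Subgroup.mem_inf.mp hw).2)
        (by rw [H.card_qSub hP' hx hxz, H.card_qSub hR' hx' hxR])
    obtain ⟨z, hz, hz1⟩ := H.exists_ne_one hP'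
    obtain ⟨z₂, hz₂, hz₂1⟩ := H.exists_ne_one hR'
    -- the two centres coincide
    have hz₂P : z₂ ∈ qSub P' x := hQ ▸ H.zSub_le_qSub hR' hx' hz₂
    have hz₂z : z₂ ∈ zSub P' := by
      by_contra h
      exact H.not_central hP' (mem_qSub.mp hz₂P).1 h hR' hz₂
    have hzz : z ∈ zSub R' := by
      rw [H.zSub_eq hR' hz₂ hz₂1]
      rw [H.zSub_eq hP' hz₂z hz₂1] at hz
      exact hz
    obtain ⟨a, ha, e1, e2⟩ := H.exists_conj_eq hP' hx hxz hz hz1
    refine hne' (Subgroup.eq_of_le_of_card_ge ?_ (by rw [hP', hR']))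
    intro b hb
    have hbz : Commute z b := (mem_zSub.mp hzz).2 b hb
    have hw := H.comm_mem hR' hb hx'
    have hb' : ∀ c ∈ P', (c⁻¹ * b) * x * (c⁻¹ * b)⁻¹ = x → b ∈ P' := fun c hc e => by
      have hm : c⁻¹ * b ∈ Subgroup.centralizer ({x} : Set G) :=
        Subgroup.mem_centralizer_singleton_iff.mpr (mul_inv_eq_iff_eq_mul.mp e)
      rw [H.cent_eq_qSub hP' hx hxz] at hm
      have : b = c * (c⁻¹ * b) := by group
      rw [this]
      exact mul_mem hc (mem_qSub.mp hm).1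
    have hxw : ∀ w, b * x * b⁻¹ * x⁻¹ = w → Commute x w → b * x * b⁻¹ = x * w := fun w e hc => by
      rw [hc.eq, ← e, inv_mul_cancel_right]
    have hzx : Commute x z := ((mem_zSub.mp hz).2 x hx).symm
    have hconj : ∀ c, c * x * c⁻¹ = b * x * b⁻¹ → c ∈ P' → b ∈ P' := fun c e hc => hb' c hc (by
      calc c⁻¹ * b * x * (c⁻¹ * b)⁻¹ = c⁻¹ * (b * x * b⁻¹) * c := by group
        _ = x := by rw [← e]; group)
    rcases H.mem_zSub_cases hR' hzz hz1 hw with e | e | e
    · exact hconj 1 (by rw [hxw 1 e (Commute.one_right x)]; group) (one_mem _)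
    · exact hconj a (by rw [e1, hxw z e hzx]) ha
    · exact hconj (a * a) (by rw [e2, hxw _ e (hzx.pow_right 2)]) (mul_mem ha ha)
  by_contra hy1
  have hyz : y ∈ zSub P := by
    by_contra h
    exact key hP hR hne hyP hyR h
  have hyz' : y ∈ zSub R := by
    by_contra h
    exact key hR hP hne.symm hyR hyP h
  -- the centraliser of y has a unique Sylow 3-subgroup
  set C := Subgroup.centralizer ({y} : Set G) with hC
  have hPC : P ≤ C := fun p hp => Subgroup.mem_centralizer_singleton_iff.mpr ((mem_zSub.mp hyz).2 p hp).symm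
  have hRC : R ≤ C := fun p hp => Subgroup.mem_centralizer_singleton_iff.mpr ((mem_zSub.mp hyz').2 p hp).symm
  have hCd := H.card_cent_dvd (H.cube hP hyP) hy1 (le_refl C)
  obtain ⟨c, hc⟩ := (hP ▸ Subgroup.card_dvd_of_le hPC : 27 ∣ Nat.card C)
  have hc32 : c ∣ 32 := Nat.dvd_of_mul_dvd_mul_left (by norm_num : 0 < 27) (by rw [← hc, mul_comm 27 32]; exact hCd)
  have hfac : (Nat.card C).factorization 3 = 3 := by
    rw [hc, Nat.factorization_mul (by norm_num) (fun h => by rw [h] at hc32; norm_num at hc32),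
      Finsupp.add_apply, show (27 : ℕ) = 3 ^ 3 by norm_num, Nat.prime_three.factorization_pow,
      Finsupp.single_eq_same, Nat.factorization_eq_zero_of_not_dvd fun h3 => by
        have := Nat.le_of_dvd (by norm_num) (h3.trans hc32)
        have h32 := h3.trans hc32
        norm_num at h32]
  set SP : Sylow 3 C := Sylow.ofCard (P.subgroupOf C) (by
    rw [Nat.card_congr (Subgroup.subgroupOfEquivOfLe hPC).toEquiv, hP, hfac]; norm_num) with hSP
  set SR : Sylow 3 C := Sylow.ofCard (R.subgroupOf C) (by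
    rw [Nat.card_congr (Subgroup.subgroupOfEquivOfLe hRC).toEquiv, hR, hfac]; norm_num) with hSR
  have hSPR : SR ≠ SP := fun e => hne (by
    have e' : R.subgroupOf C = P.subgroupOf C := congrArg Sylow.toSubgroup e
    exact (Subgroup.map_subgroupOf_eq_of_le hRC).symm.trans (e'.trans rfl ▸ Subgroup.map_subgroupOf_eq_of_le hPC))
  -- orbits of P on the other Sylow subgroups have length nine
  have hyC : y ∈ C := Subgroup.mem_centralizer_singleton_iff.mpr rfl
  have hmod : Nat.card (Sylow 3 C) ≡ 1 [MOD 9] := by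
    set A : Subgroup C := (SP : Subgroup C) with hA
    have horb : ∀ S : Sylow 3 C, S ≠ SP →
        9 ∣ Nat.card (MulAction.orbit A S) := by
      intro S hS
      set R' := (S : Subgroup C).map C.subtype with hR'
      have hR'c : Nat.card R' = 27 := by
        rw [hR', Subgroup.card_subtype, S.card_eq_multiplicity, hfac]; norm_num
      have hR'ne : R' ≠ P := fun e => hS (Sylow.ext (by
        show (S : Subgroup C) = P.subgroupOf C
        rw [← e, hR', Subgroup.subgroupOf, Subgroup.comap_map_eq_self_of_injective Subtype.val_injective]))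
      have hst : Nat.card (MulAction.stabilizer A S) ≤ 3 := by
        have hinj : ∀ a ∈ MulAction.stabilizer A S, ((a : C) : G) ∈ zSub P := by
          intro a ha
          have haP : ((a : C) : G) ∈ P := a.2
          have haN : (a : C) ∈ Subgroup.normalizer ((S : Subgroup C) : Set C) :=
            Sylow.smul_eq_iff_mem_normalizer.mp ha
          have haS : (a : C) ∈ (S : Subgroup C) := by
            have hp : IsPGroup 3 (Subgroup.zpowers (a : C)) :=
              (SP.2.to_le (Subgroup.zpowers_le.mpr a.2))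
            have := (IsPGroup.inf_normalizer_sylow hp S).le
              (Subgroup.mem_inf.mpr ⟨Subgroup.mem_zpowers _, haN⟩)
            exact (Subgroup.mem_inf.mp this).2
          by_contra h
          exact key hP hR'c hR'ne haP ⟨_, haS, rfl⟩ h
        have := Nat.card_le_card_of_injective
          (fun a : MulAction.stabilizer A S => (⟨((a.1 : C) : G), hinj a.1 a.2⟩ : zSub P))
          (fun a b h => Subtype.ext (Subtype.ext (Subtype.ext (congrArg (Subtype.val : zSub P → G) h))))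
        rwa [H.card_zSub hP] at this
      have h27 : Nat.card A = 27 := by
        rw [hA, SP.card_eq_multiplicity, hfac]; norm_num
      have h := Nat.card_congr (MulAction.orbitProdStabilizerEquivGroup A S)
      rw [Nat.card_prod, h27] at h
      have hd : Nat.card (MulAction.orbit A S) ∣ 3 ^ 3 := ⟨_, (show (3:ℕ) ^ 3 = 27 by norm_num).trans h.symm⟩
      obtain ⟨j, hj, hje⟩ := (Nat.dvd_prime_pow Nat.prime_three).mp hd
      rw [hje]
      refine (show 9 = 3 ^ 2 by norm_num) ▸ Nat.pow_dvd_pow 3 ?_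
      by_contra hlt
      have h2 : 3 ^ j ≤ 3 ^ 1 := Nat.pow_le_pow_right (by norm_num) (by omega)
      rw [hje] at h
      have := Nat.mul_le_mul h2 hst
      omega
    classical
    haveI := Fintype.ofFinite (Sylow 3 C)
    haveI := Fintype.ofFinite (MulAction.orbitRel.Quotient A (Sylow 3 C))
    rw [MulAction.selfEquivSigmaOrbits A (Sylow 3 C) |> Nat.card_congr, Nat.card_sigma]
    rw [← Finset.add_sum_erase _ _ (Finset.mem_univ (Quotient.mk'' SP : MulAction.orbitRel.Quotient A (Sylow 3 C)))]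
    have hfix : Nat.card (MulAction.orbit A
        (Quotient.out (Quotient.mk'' SP : MulAction.orbitRel.Quotient A (Sylow 3 C)))) = 1 := by
      have hmem : Quotient.out (Quotient.mk'' SP : MulAction.orbitRel.Quotient A (Sylow 3 C)) ∈
          MulAction.orbit A SP := MulAction.orbitRel_apply.mp (Quotient.mk_out SP)
      rw [MulAction.orbit_eq_iff.mpr hmem]
      have : MulAction.orbit A SP = {SP} := by
        refine Set.eq_singleton_iff_unique_mem.mpr ⟨MulAction.mem_orbit_self _, ?_⟩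
        rintro _ ⟨a, rfl⟩
        exact Sylow.smul_eq_iff_mem_normalizer.mpr (Subgroup.le_normalizer a.2)
      rw [this, Nat.card_coe_set_eq, Set.ncard_singleton]
    rw [hfix]
    have h0 : 9 ∣ ∑ q ∈ Finset.univ.erase (Quotient.mk'' SP : MulAction.orbitRel.Quotient A (Sylow 3 C)),
        Nat.card (MulAction.orbit A (Quotient.out q)) := by
      refine Finset.dvd_sum fun q hq => horb _ fun e => Finset.ne_of_mem_erase hq ?_
      rw [← e]
      exact (Quotient.out_eq' q).symm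
    rw [Nat.ModEq]
    omega
  have hdvd : Nat.card (Sylow 3 C) ∣ c := by
    have h1 := SP.card_dvd_index
    have h2 := (SP : Subgroup C).card_mul_index
    rw [SP.card_eq_multiplicity, hfac, hc, show (3 : ℕ) ^ 3 = 27 by norm_num] at h2
    rwa [Nat.eq_of_mul_eq_mul_left (by norm_num : 0 < 27) h2] at h1
  have h2 : 2 ≤ Nat.card (Sylow 3 C) := Finite.one_lt_card_iff_nontrivial.mpr ⟨⟨SR, SP, hSPR⟩⟩
  obtain ⟨j, hj, hje⟩ := (Nat.dvd_prime_pow Nat.prime_two (m := 5)).mp (hdvd.trans hc32)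
  rw [Nat.ModEq, hje] at hmod
  rw [hje] at h2
  interval_cases j <;> omega

end Hyp

end CfsgLib.UThreeUnique
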