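import Cfsg.Agent.Lib.UThreeUnique.Coords

/-!
# The stabiliser of two Sylow 3-subgroups in a simple group of order 6048
-/

set_option autoImplicit false
set_option linter.unusedSectionVars false
set_option linter.style.haveILetI false

namespace CfsgLib.UThreeUnique

open Tables
open scoped _root_.Classical Pointwise

universe u

theorem qtab_lt : ∀ c : Bool, ∀ k < 8, get5 (qtab c) k < 27 := by decide +kernel

theorem imgOf_fix_one : ∀ q < 9, q ≠ 0 → imgOf 3 q 1 = 3 := by decide +kernel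

theorem hp_two : imgOf 3 4 = imgOf (2 + 1) (get5 (qtab true) 2) := rfl

variable {G : Type u} [Group G] [Finite G] [IsSimpleGroup G] [Fintype G]

/-- The stabiliser of two Sylow subgroups. -/
def stabTwo (P R : Sylow 3 G) : Subgroup G :=
  Subgroup.normalizer ((P : Subgroup G) : Set G) ⊓ Subgroup.normalizer ((R : Subgroup G) : Set G)

theorem mem_stabTwo {P R : Sylow 3 G} {g : G} : g ∈ stabTwo P R ↔ g • P = P ∧ g • R = R := by
  exact Subgroup.mem_inf.trans (and_congr Sylow.smul_eq_iff_mem_normalizer.symm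
    Sylow.smul_eq_iff_mem_normalizer.symm)

theorem norm_conj_mem {P : Sylow 3 G} {g x : G} (hg : g • P = P) (hx : x ∈ (P : Subgroup G)) :
    g * x * g⁻¹ ∈ (P : Subgroup G) :=
  (Subgroup.mem_normalizer_iff.mp (Sylow.smul_eq_iff_mem_normalizer.mp hg) x).mp hx

theorem smul_self_sylow {P : Sylow 3 G} {a : G} (ha : a ∈ (P : Subgroup G)) : a • P = P :=
  Sylow.smul_eq_iff_mem_normalizer.mpr (Subgroup.le_normalizer ha)

/-- Coordinates for the stabiliser of a Sylow subgroup and its action on itself. -/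
structure Model (P R : Sylow 3 G) where
  e₁ : G
  e₂ : G
  ψ : ℕ → G
  frame : Frame (P : Subgroup G) e₁ e₂ ψ
  c : Bool
  η : ℕ → G
  η_mem : ∀ k < 8, η k ∈ stabTwo P R
  η_surj : ∀ h ∈ stabTwo P R, ∃ k < 8, η k = h
  η_act : ∀ k < 8, ∀ u < 27, η k * ψ u * (η k)⁻¹ = ψ (hp c k u)

namespace Hyp

variable (H : Hyp G)
include H

theorem card_sylow_three (P : Sylow 3 G) : Nat.card (P : Subgroup G) = 27 := by
  haveI : Fact (Nat.Prime 3) := ⟨Nat.prime_three⟩
  rw [P.card_eq_multiplicity, H.hn, show (6048 : ℕ) = 3 ^ 3 * 224 by norm_num,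
    Nat.factorization_mul (by norm_num) (by norm_num), Finsupp.add_apply,
    Nat.prime_three.factorization_pow, Finsupp.single_eq_same,
    Nat.factorization_eq_zero_of_not_dvd (by norm_num : ¬ 3 ∣ 224)]
  norm_num

theorem fixed_eq_one {P S : Sylow 3 G} (hne : S ≠ P) {a : G} (ha : a ∈ (P : Subgroup G))
    (hfix : a • S = S) : a = 1 := by
  haveI : Fact (Nat.Prime 3) := ⟨Nat.prime_three⟩
  have haN := Sylow.smul_eq_iff_mem_normalizer.mp hfix
  have hp : IsPGroup 3 (Subgroup.zpowers a) := P.2.to_le (Subgroup.zpowers_le.mpr ha)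
  have haS : a ∈ (S : Subgroup G) :=
    (Subgroup.mem_inf.mp ((IsPGroup.inf_normalizer_sylow hp S).le
      (Subgroup.mem_inf.mpr ⟨Subgroup.mem_zpowers _, haN⟩))).2
  exact H.inter_eq_one (H.card_sylow_three P) (H.card_sylow_three S)
    (fun e => hne (Sylow.ext e)) ha haS

theorem smul_inj {P S : Sylow 3 G} (hne : S ≠ P) {a b : G} (ha : a ∈ (P : Subgroup G))
    (hb : b ∈ (P : Subgroup G)) (h : a • S = b • S) : a = b := by
  have h1 : (b⁻¹ * a) • S = S := by rw [mul_smul, h, inv_smul_smul]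
  exact (inv_mul_eq_one.mp (H.fixed_eq_one hne (mul_mem (inv_mem hb) ha) h1)).symm

theorem count_sylow : Nat.card (Sylow 3 G) = 28 := by
  haveI : Fact (Nat.Prime 3) := ⟨Nat.prime_three⟩
  obtain ⟨P⟩ := (inferInstance : Nonempty (Sylow 3 G))
  haveI := Fintype.ofFinite (Sylow 3 G)
  haveI := Fintype.ofFinite (MulAction.orbitRel.Quotient (P : Subgroup G) (Sylow 3 G))
  set A := (P : Subgroup G) with hA
  have horb : ∀ S : Sylow 3 G, S ≠ P → 27 ∣ Nat.card (MulAction.orbit A S) := by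
    intro S hS
    have hinj : Function.Injective fun a : A => (⟨a • S, MulAction.mem_orbit S a⟩ : MulAction.orbit A S) :=
      fun a b h => Subtype.ext (H.smul_inj hS a.2 b.2 (congrArg Subtype.val h))
    have hb : Function.Bijective fun a : A => (⟨a • S, MulAction.mem_orbit S a⟩ : MulAction.orbit A S) :=
      ⟨hinj, fun ⟨_, a, e⟩ => ⟨a, Subtype.ext e⟩⟩
    rw [← Nat.card_eq_of_bijective _ hb, H.card_sylow_three P]
  have hmod : Nat.card (Sylow 3 G) % 27 = 1 := by
    rw [MulAction.selfEquivSigmaOrbits A (Sylow 3 G) |> Nat.card_congr, Nat.card_sigma,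
      ← Finset.add_sum_erase _ _
        (Finset.mem_univ (Quotient.mk'' P : MulAction.orbitRel.Quotient A (Sylow 3 G)))]
    have hfix : Nat.card (MulAction.orbit A
        (Quotient.out (Quotient.mk'' P : MulAction.orbitRel.Quotient A (Sylow 3 G)))) = 1 := by
      have hmem : Quotient.out (Quotient.mk'' P : MulAction.orbitRel.Quotient A (Sylow 3 G)) ∈
          MulAction.orbit A P := MulAction.orbitRel_apply.mp (Quotient.mk_out P)
      rw [MulAction.orbit_eq_iff.mpr hmem]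
      have : MulAction.orbit A P = {P} := by
        refine Set.eq_singleton_iff_unique_mem.mpr ⟨MulAction.mem_orbit_self _, ?_⟩
        rintro _ ⟨a, rfl⟩
        exact smul_self_sylow a.2
      rw [this, Nat.card_coe_set_eq, Set.ncard_singleton]
    rw [hfix]
    have h0 : 27 ∣ ∑ q ∈ Finset.univ.erase (Quotient.mk'' P : MulAction.orbitRel.Quotient A (Sylow 3 G)),
        Nat.card (MulAction.orbit A (Quotient.out q)) :=
      Finset.dvd_sum fun q hq => horb _ fun e => Finset.ne_of_mem_erase hq (by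
        rw [← e]; exact (Quotient.out_eq' q).symm)
    omega
  have hidx : (P : Subgroup G).index = 224 := by
    have h := (P : Subgroup G).card_mul_index
    rw [H.card_sylow_three P, H.hn] at h
    omega
  have hdvd : Nat.card (Sylow 3 G) ∣ 224 := hidx ▸ P.card_dvd_index
  have hne1 : Nat.card (Sylow 3 G) ≠ 1 :=
    SmallOrder.card_sylow_ne_one (SmallOrder.not_comm_of_not_prime (by rw [H.hn]; norm_num))
      (by rw [H.hn]; norm_num)
  have key : ∀ d < 225, d % 27 = 1 → 224 % d = 0 → d ≠ 1 → d = 28 := by decide +kernel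
  exact key _ (Nat.lt_succ_of_le (Nat.le_of_dvd (by norm_num) hdvd)) hmod (Nat.mod_eq_zero_of_dvd hdvd) hne1

/-- A Sylow subgroup is transitive on the others. -/
theorem exists_smul {P R S : Sylow 3 G} (hRP : R ≠ P) (hS : S ≠ P) :
    ∃ a ∈ (P : Subgroup G), a • R = S := by
  haveI : Fact (Nat.Prime 3) := ⟨Nat.prime_three⟩
  have hne : ∀ a : (P : Subgroup G), (a : G) • R ≠ P := fun a e => hRP (by
    rw [← inv_smul_smul (a : G) R, e, smul_self_sylow (inv_mem a.2)])
  have hb : Function.Bijective fun a : (P : Subgroup G) => (⟨(a : G) • R, hne a⟩ : {S : Sylow 3 G // S ≠ P}) := by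
    rw [Nat.bijective_iff_injective_and_card]
    refine ⟨fun a b h => Subtype.ext (H.smul_inj hRP a.2 b.2 (congrArg Subtype.val h)), ?_⟩
    rw [H.card_sylow_three P]
    haveI := Fintype.ofFinite (Sylow 3 G)
    rw [Nat.card_eq_fintype_card, Fintype.card_subtype_compl, Fintype.card_subtype_eq,
      ← Nat.card_eq_fintype_card, H.count_sylow]
  obtain ⟨a, ha⟩ := hb.2 ⟨S, hS⟩
  exact ⟨a, a.2, congrArg Subtype.val ha⟩

theorem decompose {P R : Sylow 3 G} (hRP : R ≠ P) {g : G} (hg : g • P = P) :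
    ∃ a ∈ (P : Subgroup G), ∃ h ∈ stabTwo P R, g = a * h := by
  have hgR : g • R ≠ P := fun e => hRP (by
    rw [← inv_smul_smul g R, e]
    exact inv_smul_eq_iff.mpr hg.symm)
  obtain ⟨a, ha, e⟩ := H.exists_smul hRP hgR
  refine ⟨a, ha, a⁻¹ * g, mem_stabTwo.mpr ⟨?_, ?_⟩, by group⟩
  · rw [mul_smul, hg, smul_self_sylow (inv_mem ha)]
  · rw [mul_smul, ← e, inv_smul_smul]

theorem card_stabTwo {P R : Sylow 3 G} (hRP : R ≠ P) : Nat.card (stabTwo P R) = 8 := by
  haveI : Fact (Nat.Prime 3) := ⟨Nat.prime_three⟩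
  set N := Subgroup.normalizer ((P : Subgroup G) : Set G) with hN
  have hNc : Nat.card N = 216 := by
    have h := N.card_mul_index
    rw [H.hn, show N.index = 28 from (Sylow.card_eq_index_normalizer P).symm.trans H.count_sylow] at h
    omega
  have hb : Function.Bijective fun p : ↥(P : Subgroup G) × ↥(stabTwo P R) =>
      (⟨(p.1 : G) * p.2, mul_mem (Subgroup.le_normalizer p.1.2) (Subgroup.mem_inf.mp p.2.2).1⟩ : N) := by
    constructor
    · rintro ⟨a, h⟩ ⟨b, k⟩ e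
      have e' : (a : G) * h = b * k := congrArg Subtype.val e
      have hab : (a : G) = b := H.smul_inj hRP a.2 b.2 (by
        calc (a : G) • R = ((a : G) * h) • R := by rw [mul_smul, (mem_stabTwo.mp h.2).2]
          _ = (b : G) • R := by rw [e', mul_smul, (mem_stabTwo.mp k.2).2])
      rw [hab] at e'
      exact Prod.ext (Subtype.ext hab) (Subtype.ext (mul_left_cancel e'))
    · rintro ⟨g, hg⟩
      obtain ⟨a, ha, h, hh, e⟩ := H.decompose hRP (Sylow.smul_eq_iff_mem_normalizer.mpr hg)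
      exact ⟨(⟨a, ha⟩, ⟨h, hh⟩), Subtype.ext e.symm⟩
  have h := Nat.card_eq_of_bijective _ hb
  rw [Nat.card_prod, H.card_sylow_three P, hNc] at h
  omega

variable {P R : Sylow 3 G} (hRP : R ≠ P)
include hRP

theorem pow_eight {h : G} (hh : h ∈ stabTwo P R) : h ^ 8 = 1 := by
  have := pow_card_eq_one' (G := stabTwo P R) (x := ⟨h, hh⟩)
  rw [H.card_stabTwo hRP] at this
  exact congrArg Subtype.val this

/-- Only the identity fixes a non-central element of `P`. -/
theorem eq_one_of_commute {h x : G} (hh : h ∈ stabTwo P R) (hx : x ∈ (P : Subgroup G))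
    (hxz : x ∉ zSub (P : Subgroup G)) (hc : Commute h x) : h = 1 := by
  have hm : h ∈ Subgroup.centralizer ({x} : Set G) := Subgroup.mem_centralizer_singleton_iff.mpr hc
  rw [H.cent_eq_qSub (H.card_sylow_three P) hx hxz] at hm
  exact H.fixed_eq_one hRP (mem_qSub.mp hm).1 (mem_stabTwo.mp hh).2

theorem conj_zSub {h c : G} (hh : h ∈ stabTwo P R) (hc : c ∈ zSub (P : Subgroup G)) :
    h * c * h⁻¹ ∈ zSub (P : Subgroup G) := by
  by_cases hc1 : c = 1
  · rw [hc1, mul_one, mul_inv_cancel]; exact one_mem _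
  exact H.weakly_closed (H.card_sylow_three P) hc hc1
    (norm_conj_mem (mem_stabTwo.mp hh).1 (mem_zSub.mp hc).1)

theorem invol_commute {t c : G} (ht : t ∈ stabTwo P R) (ht2 : orderOf t = 2)
    (hc : c ∈ zSub (P : Subgroup G)) : t * c * t⁻¹ = c := by
  have hP := H.card_sylow_three P
  by_cases hc1 : c = 1
  · rw [hc1, mul_one, mul_inv_cancel]
  rcases H.mem_zSub_cases hP hc hc1 (H.conj_zSub hRP ht hc) with e | e | e
  · exact absurd (conj_eq_one_iff.mp e) hc1
  · exact e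
  · exfalso
    refine H.not_inverted hP hc hc1 ht2 (e.trans ?_)
    exact (inv_eq_of_mul_eq_one_right (by rw [← pow_succ', H.zSub_cube hP hc])).symm

theorem invol_mod {t x : G} (ht : t ∈ stabTwo P R) (ht2 : orderOf t = 2) (hx : x ∈ (P : Subgroup G)) :
    x * (t * x * t⁻¹) ∈ zSub (P : Subgroup G) := by
  have hP := H.card_sylow_three P
  have htx := norm_conj_mem (mem_stabTwo.mp ht).1 hx
  have htt : t * t = 1 := by rw [← pow_two, ← ht2, pow_orderOf_eq_one]
  set w := x * (t * x * t⁻¹) with hw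
  have hwP : w ∈ (P : Subgroup G) := mul_mem hx htx
  have e1 : t * w * t⁻¹ = (t * x * t⁻¹) * x := by
    calc t * w * t⁻¹ = (t * x * t⁻¹) * ((t * t) * x * (t * t)⁻¹) := by rw [hw]; group
      _ = _ := by rw [htt]; group
  set d := (t * x * t⁻¹) * x * (t * x * t⁻¹)⁻¹ * x⁻¹ with hd
  have hdZ : d ∈ zSub (P : Subgroup G) := H.comm_mem hP htx hx
  have e2 : t * w * t⁻¹ = d * w := by
    rw [e1, hd, hw]; group
  have e3 : t * d * t⁻¹ = d := H.invol_commute hRP ht ht2 hdZ
  have e4 : w = d * (d * w) := by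
    calc w = (t * t) * w * (t * t)⁻¹ := by rw [htt]; group
      _ = t * (t * w * t⁻¹) * t⁻¹ := by group
      _ = (t * d * t⁻¹) * (t * w * t⁻¹) := by (conv_lhs => rw [e2]); group
      _ = d * (d * w) := by rw [e3, e2]
  have hd2 : d * d = 1 := by
    refine mul_right_cancel (b := w) ?_
    rw [one_mul, mul_assoc]
    exact e4.symm
  have hd1 : d = 1 := by
    have h3 := H.zSub_cube hP hdZ
    rw [pow_succ, pow_two, hd2, one_mul] at h3
    exact h3
  rw [hd1, one_mul] at e2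
  by_contra hwz
  have := H.eq_one_of_commute hRP ht hwP hwz (mul_inv_eq_iff_eq_mul.mp e2)
  rw [this, orderOf_one] at ht2
  omega

theorem invol_unique {t t' : G} (ht : t ∈ stabTwo P R) (ht2 : orderOf t = 2) (ht' : t' ∈ stabTwo P R)
    (ht2' : orderOf t' = 2) : t = t' := by
  have hP := H.card_sylow_three P
  set s := t * t' with hs
  obtain ⟨x, hx, hxz⟩ := H.exists_noncentral hP
  have hti : t'⁻¹ = t' := inv_eq_of_mul_eq_one_right (by rw [← pow_two, ← ht2', pow_orderOf_eq_one])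
  have hx' := norm_conj_mem (mem_stabTwo.mp ht').1 hx
  set d := x⁻¹ * (s * x * s⁻¹) with hd
  have hdZ : d ∈ zSub (P : Subgroup G) := by
    have h1 := H.invol_mod hRP ht' ht2' hx
    have h2 := H.invol_mod hRP ht ht2 hx'
    have hc := (mem_zSub.mp h1).2 x hx
    have e : d = (x * (t' * x * t'⁻¹))⁻¹ * ((t' * x * t'⁻¹) * (t * (t' * x * t'⁻¹) * t⁻¹)) := by
      have hswap : (t' * x * t'⁻¹) * x = x * (t' * x * t'⁻¹) := by
        calc (t' * x * t'⁻¹) * x = x⁻¹ * ((x * (t' * x * t'⁻¹)) * x) := by group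
          _ = x⁻¹ * (x * (x * (t' * x * t'⁻¹))) := by rw [hc.eq]
          _ = _ := by group
      rw [hd, hs, ← hswap]; group
    rw [e]
    exact mul_mem (inv_mem h1) h2
  have hsd : s * d * s⁻¹ = d := by
    rw [hs, show t * t' * d * (t * t')⁻¹ = t * (t' * d * t'⁻¹) * t⁻¹ by group, H.invol_commute hRP ht' ht2' hdZ,
      H.invol_commute hRP ht ht2 hdZ]
  have hpow : ∀ n : ℕ, s ^ n * x * (s ^ n)⁻¹ = x * d ^ n := by
    intro n
    induction n with
    | zero => simp
    | succ n ih =>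
      calc s ^ (n + 1) * x * (s ^ (n + 1))⁻¹ = s * (s ^ n * x * (s ^ n)⁻¹) * s⁻¹ := by rw [pow_succ']; group
        _ = (s * x * s⁻¹) * (s * d ^ n * s⁻¹) := by rw [ih]; group
        _ = x * d * d ^ n := by rw [← conj_pow, hsd, hd, mul_inv_cancel_left]
        _ = x * d ^ (n + 1) := by rw [mul_assoc, ← pow_succ']
  have h8 := hpow 8
  rw [H.pow_eight hRP (mul_mem ht ht'), one_mul, inv_one, mul_one, left_eq_mul] at h8
  have hd1 : d = 1 := by
    calc d = (d ^ 3) ^ 3 * (d ^ 8)⁻¹ := by group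
      _ = 1 := by rw [H.zSub_cube hP hdZ, h8, one_pow, inv_one, mul_one]
  have h1 := hpow 1
  rw [hd1, pow_one, pow_one, mul_one] at h1
  have hs1 := H.eq_one_of_commute hRP (mul_mem ht ht') hx hxz (mul_inv_eq_iff_eq_mul.mp h1)
  calc t = s * t'⁻¹ := by rw [hs]; group
    _ = t' := by rw [show s = 1 from hs1, one_mul, hti]

theorem invol_unique_inv {t y y' : G} (ht : t ∈ stabTwo P R) (ht2 : orderOf t = 2)
    (hy : y ∈ (P : Subgroup G)) (hyt : t * y * t⁻¹ = y⁻¹) (hyt' : t * y' * t⁻¹ = y'⁻¹)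
    (hd : y⁻¹ * y' ∈ zSub (P : Subgroup G)) : y' = y := by
  have hP := H.card_sylow_three P
  set d := y⁻¹ * y' with hddef
  have hy' : y' = y * d := by rw [hddef]; group
  have hcd : Commute d y := (mem_zSub.mp hd).2 y hy
  rw [hy', show t * (y * d) * t⁻¹ = (t * y * t⁻¹) * (t * d * t⁻¹) by group, hyt,
    H.invol_commute hRP ht ht2 hd, mul_inv_rev, ← (hcd.inv_left.inv_right).eq.symm] at hyt'
  have e : d = d⁻¹ := mul_left_cancel hyt'
  have hd1 : d = 1 := by
    calc d = d ^ 3 * (d⁻¹ * d⁻¹) := by group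
      _ = d ^ 3 * (d * d⁻¹) := by rw [← e]
      _ = 1 := by rw [H.zSub_cube hP hd]; group
  rw [hy', hd1, mul_one]

theorem exists_inverted {t x : G} (ht : t ∈ stabTwo P R) (ht2 : orderOf t = 2) (hx : x ∈ (P : Subgroup G)) :
    ∃ y ∈ (P : Subgroup G), t * y * t⁻¹ = y⁻¹ ∧ x⁻¹ * y ∈ zSub (P : Subgroup G) := by
  have hP := H.card_sylow_three P
  set c := x * (t * x * t⁻¹) with hcdef
  have hc := H.invol_mod hRP ht ht2 hx
  refine ⟨x * c, mul_mem hx (mem_zSub.mp hc).1, ?_, by rw [inv_mul_cancel_left]; exact hc⟩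
  have hcc : c ^ 2 = c⁻¹ := (inv_eq_of_mul_eq_one_right (by rw [← pow_succ', H.zSub_cube hP hc])).symm
  have htx : t * x * t⁻¹ = x⁻¹ * c := by rw [hcdef]; group
  rw [show t * (x * c) * t⁻¹ = (t * x * t⁻¹) * (t * c * t⁻¹) by group, htx,
    H.invol_commute hRP ht ht2 hc, mul_assoc, ← pow_two, hcc, mul_inv_rev x c,
    (((mem_zSub.mp hc).2 x hx).inv_left.inv_right).eq]

theorem exists_invol : ∃ t ∈ stabTwo P R, orderOf t = 2 := by
  haveI : Fact (Nat.Prime 2) := ⟨Nat.prime_two⟩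
  obtain ⟨t, ht⟩ := exists_prime_orderOf_dvd_card' (G := stabTwo P R) 2
    (by rw [H.card_stabTwo hRP]; norm_num)
  exact ⟨t, t.2, by rw [Subgroup.orderOf_coe, ht]⟩

omit H hRP in
theorem inv_psi {e₁ e₂ : G} {ψ : ℕ → G} (F : Frame (P : Subgroup G) e₁ e₂ ψ) {t : G}
    (hte₁ : t * e₁ * t⁻¹ = e₁⁻¹) (hte₂ : t * e₂ * t⁻¹ = e₂⁻¹) {y : G} (hy : y ∈ (P : Subgroup G))
    (hty : t * y * t⁻¹ = y⁻¹) : ∃ q < 9, ψ q = y := by
  obtain ⟨q, hq, rfl⟩ := F.surj y hy
  have h := F.conj t 2 (by norm_num) 6 (by norm_num) (hte₁.trans F.two.symm) (hte₂.trans F.six.symm) q hq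
  rw [hty, ← F.inv q hq] at h
  exact ⟨q, imgOf_two_six q hq (F.inj _ (lp_zero q hq).2.1 _ (imgOf_lt (by norm_num) (by norm_num) q) h).symm, rfl⟩

omit H hRP in
theorem iterate_conj {e₁ e₂ : G} {ψ : ℕ → G} (F : Frame (P : Subgroup G) e₁ e₂ ψ) {h : G} {i j : ℕ}
    (hi : i < 27) (hj : j < 27) (ei : h * e₁ * h⁻¹ = ψ i) (ej : h * e₂ * h⁻¹ = ψ j) (n : ℕ) :
    ∀ u < 27, (imgOf i j)^[n] u < 27 ∧ h ^ n * ψ u * (h ^ n)⁻¹ = ψ ((imgOf i j)^[n] u) := by
  induction n with
  | zero =>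
    intro u hu
    exact ⟨hu, by simp⟩
  | succ n ih =>
    intro u hu
    obtain ⟨h1, h2⟩ := ih u hu
    rw [Function.iterate_succ_apply']
    refine ⟨imgOf_lt hi hj _, ?_⟩
    rw [← F.conj h i hi j hj ei ej _ h1, ← h2, pow_succ']
    group

theorem exists_model_cyclic {h : G} (hh : h ∈ stabTwo P R) (ho : orderOf h = 8) :
    Nonempty (Model P R) := by
  have hP := H.card_sylow_three P
  obtain ⟨t, ht, ht2⟩ := H.exists_invol hRP
  have h4 : h ^ 4 = t := H.invol_unique hRP (pow_mem hh 4)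
    (by rw [orderOf_pow' h (by norm_num), ho]; norm_num) ht ht2
  obtain ⟨x, hx, hxz⟩ := H.exists_noncentral hP
  obtain ⟨e₁, he₁, hte₁, hxe⟩ := H.exists_inverted hRP ht ht2 hx
  have he₁z : e₁ ∉ zSub (P : Subgroup G) := fun hz => hxz (by
    rw [show x = e₁ * (x⁻¹ * e₁)⁻¹ by group]
    exact mul_mem hz (inv_mem hxe))
  have htcomm : ∀ k ∈ stabTwo P R, k * t * k⁻¹ = t := fun k hk =>
    H.invol_unique hRP (mul_mem (mul_mem hk ht) (inv_mem hk)) (by
      rw [show k * t * k⁻¹ = MulAut.conj k t from rfl, MulEquiv.orderOf_eq, ht2]) ht ht2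
  have hinvk : ∀ k ∈ stabTwo P R, ∀ y, t * y * t⁻¹ = y⁻¹ → t * (k * y * k⁻¹) * t⁻¹ = (k * y * k⁻¹)⁻¹ := by
    intro k hk y hy
    calc t * (k * y * k⁻¹) * t⁻¹ = (k * t * k⁻¹) * (k * y * k⁻¹) * (k * t * k⁻¹)⁻¹ := by rw [htcomm k hk]
      _ = k * (t * y * t⁻¹) * k⁻¹ := by group
      _ = _ := by rw [hy]; group
  have hgen : ∀ k ∈ stabTwo P R, k ^ 4 = t → k * e₁ * k⁻¹ ∉ qSub (P : Subgroup G) e₁ := by
    intro k hk hk4 hmem
    obtain ⟨z, hz, hz1⟩ := H.exists_ne_one hP
    have hc : Commute e₁ z := ((mem_zSub.mp hz).2 e₁ he₁).symm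
    have hc3 := H.cube hP he₁
    have heq : pairSub e₁ z hc3 (H.zSub_cube hP hz) hc = qSub (P : Subgroup G) e₁ :=
      Subgroup.eq_of_le_of_card_ge (pairSub_le _ _ _ (mem_qSub.mpr ⟨he₁, Commute.refl _⟩)
        (H.zSub_le_qSub hP he₁ hz))
        (by rw [H.card_qSub hP he₁ he₁z, card_pairSub _ _ _ (fun e => he₁z (by rw [e]; exact one_mem _))
          (H.zpowers_disjoint hP he₁ he₁z hz hz1)])
    rw [← heq] at hmem
    obtain ⟨i, j, hij⟩ := (mem_pairSub _ _ _).mp hmem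
    have hiv : t * (e₁ ^ i.val) * t⁻¹ = (e₁ ^ i.val)⁻¹ := by rw [← conj_pow, hte₁, inv_pow]
    have hy : k * e₁ * k⁻¹ = e₁ ^ i.val := H.invol_unique_inv hRP ht ht2 (pow_mem he₁ _) hiv (hinvk k hk e₁ hte₁)
      (by rw [hij, inv_mul_cancel_left]; exact pow_mem hz _)
    have h2 : (k * k) * e₁ * (k * k)⁻¹ = e₁ := by
      rw [show (k * k) * e₁ * (k * k)⁻¹ = k * (k * e₁ * k⁻¹) * k⁻¹ by group, hy, ← conj_pow, hy, ← pow_mul]
      have h3 : ∀ k : ZMod 3, k = 0 ∨ k = 1 ∨ k = 2 := by decide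
      rcases h3 i with rfl | rfl | rfl
      · rw [ZMod.val_zero, pow_zero] at hy
        exact absurd (conj_eq_one_iff.mp hy) (fun e => he₁z (by rw [e]; exact one_mem _))
      · rw [val_three_one, mul_one, pow_one]
      · rw [val_three_two, show 2 * 2 = 3 + 1 by norm_num, pow_add, hc3, one_mul, pow_one]
    have hkk : k * k = 1 := H.eq_one_of_commute hRP (mul_mem hk hk) he₁ he₁z (mul_inv_eq_iff_eq_mul.mp h2)
    rw [show k ^ 4 = (k * k) * (k * k) by rw [pow_succ, pow_succ, pow_two, mul_assoc], hkk, one_mul] at hk4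
    rw [← hk4, orderOf_one] at ht2
    omega
  -- coordinates from a generator of the stabiliser
  have hcoord : ∀ k ∈ stabTwo P R, k ^ 4 = t → ∃ (e₂ : G) (ψ : ℕ → G) (q : ℕ),
      Frame (P : Subgroup G) e₁ e₂ ψ ∧ ψ 7 * (e₁ * e₂ ^ 2)⁻¹ ∈ zSub (P : Subgroup G) ∧
      k * e₁ * k⁻¹ = e₂ ∧ k * e₂ * k⁻¹ = ψ q ∧ (q = 4 ∨ q = 7) := by
    intro k hk hk4
    set e₂ := k * e₁ * k⁻¹ with he₂
    have he₂P : e₂ ∈ (P : Subgroup G) := norm_conj_mem (mem_stabTwo.mp hk).1 he₁
    obtain ⟨ψ, F, h7⟩ := H.exists_frame hP he₁ he₁z he₂P (hgen k hk hk4)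
    have hte₂ := hinvk k hk e₁ hte₁
    obtain ⟨q, hq, hqe⟩ := inv_psi F hte₁ hte₂ (norm_conj_mem (mem_stabTwo.mp hk).1 he₂P) (hinvk k hk e₂ hte₂)
    have hq0 : q ≠ 0 := fun e => by
      rw [e, F.zero] at hqe
      exact he₁z (by rw [conj_eq_one_iff.mp (conj_eq_one_iff.mp hqe.symm)]; exact one_mem _)
    have hit := fun n => iterate_conj F (show 3 < 27 by norm_num) (show q < 27 by omega)
      (F.three.symm ▸ rfl) hqe.symm n
    have hA := (hit 4 1 (by norm_num)).2
    have hB := (hit 4 3 (by norm_num)).2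
    rw [F.one, hk4, hte₁, ← F.two] at hA
    rw [F.three, hk4, hte₂, ← F.six] at hB
    exact ⟨e₂, ψ, q, F, h7, rfl, hqe.symm, cyc_cases q hq hq0
      (F.inj _ (hit 4 1 (by norm_num)).1 _ (by norm_num) hA.symm)
      (F.inj _ (hit 4 3 (by norm_num)).1 _ (by norm_num) hB.symm)⟩
  obtain ⟨e₂, ψ, h', hh', ho', F, ei, ej⟩ : ∃ (e₂ : G) (ψ : ℕ → G) (k : G), k ∈ stabTwo P R ∧ orderOf k = 8 ∧
      Frame (P : Subgroup G) e₁ e₂ ψ ∧ k * e₁ * k⁻¹ = ψ 3 ∧ k * e₂ * k⁻¹ = ψ 4 := by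
    obtain ⟨e₂, ψ, q, F, h7, ei, ej, rfl | rfl⟩ := hcoord h hh h4
    · exact ⟨e₂, ψ, h, hh, ho, F, by rw [F.three]; exact ei, ej⟩
    · have h54 : (h ^ 5) ^ 4 = t := by
        rw [← pow_mul, show 5 * 4 = 8 * 2 + 4 by norm_num, pow_add, pow_mul, H.pow_eight hRP hh, one_pow, one_mul, h4]
      obtain ⟨f₂, φ, q', F', h7', ei', ej', rfl | rfl⟩ := hcoord (h ^ 5) (pow_mem hh 5) h54
      · exact ⟨f₂, φ, h ^ 5, pow_mem hh 5, by rw [orderOf_pow' h (by norm_num), ho]; norm_num, F',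
          by rw [F'.three]; exact ei', ej'⟩
      · exfalso
        have e₂P : e₂ ∈ (P : Subgroup G) := ei ▸ norm_conj_mem (mem_stabTwo.mp hh).1 he₁
        have hte₂ : t * e₂ * t⁻¹ = e₂⁻¹ := ei ▸ hinvk h hh e₁ hte₁
        have hf₂ : f₂ = e₂⁻¹ := by
          rw [← ei', show h ^ 5 * e₁ * (h ^ 5)⁻¹ = h ^ 4 * (h * e₁ * h⁻¹) * (h ^ 4)⁻¹ by group, h4, ei, hte₂]
        have hsame : φ 7 = ψ 7 := by
          rw [← ej, ← ej', ← ei, ← ei']
          have h8 := H.pow_eight hRP hh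
          calc h ^ 5 * (h ^ 5 * e₁ * (h ^ 5)⁻¹) * (h ^ 5)⁻¹
              = h ^ 8 * (h * (h * e₁ * h⁻¹) * h⁻¹) * (h ^ 8)⁻¹ := by group
            _ = _ := by rw [h8]; group
        rw [hsame, hf₂] at h7'
        set a := ψ 7 with ha
        have h3 := H.cube hP e₂P
        have hz1 : (a * (e₁ * e₂ ^ 2)⁻¹)⁻¹ * (a * (e₁ * e₂⁻¹ ^ 2)⁻¹) ∈ zSub (P : Subgroup G) :=
          mul_mem (inv_mem h7) h7'
        have e : (a * (e₁ * e₂ ^ 2)⁻¹)⁻¹ * (a * (e₁ * e₂⁻¹ ^ 2)⁻¹) = e₁ * (e₂ ^ 3 * e₂) * e₁⁻¹ := by group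
        rw [e, h3, one_mul] at hz1
        have hz2 : e₂ ∈ zSub (P : Subgroup G) := by
          refine mem_zSub.mpr ⟨e₂P, fun p hp => ?_⟩
          have hc := (mem_zSub.mp hz1).2 (e₁ * p * e₁⁻¹) (mul_mem (mul_mem he₁ hp) (inv_mem he₁))
          show e₂ * p = p * e₂
          calc e₂ * p = e₁⁻¹ * ((e₁ * e₂ * e₁⁻¹) * (e₁ * p * e₁⁻¹)) * e₁ := by group
            _ = e₁⁻¹ * ((e₁ * p * e₁⁻¹) * (e₁ * e₂ * e₁⁻¹)) * e₁ := by rw [hc.eq]
            _ = p * e₂ := by group
        refine hgen h hh h4 ?_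
        rw [ei]
        exact H.zSub_le_qSub hP he₁ hz2
  have hpow : ∀ i < 8, ∀ u < 27, h' ^ i * ψ u * (h' ^ i)⁻¹ = ψ (hp true (mpow true 2 i) u) := by
    intro i hi u hu
    rw [← (cyc_pow i hi u hu).1]
    have hit := iterate_conj F (show 3 < 27 by norm_num) (show 4 < 27 by norm_num) ei ej i u hu
    rw [hit.2]
    congr 1
    have heq : ∀ v < 27, imgOf 3 4 v = hp true 2 v := fun v hv => by
      rw [hp_two]; exact hp_img true 2 (by norm_num) v hv
    clear hit
    induction i with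
    | zero => rfl
    | succ i ih =>
      rw [Function.iterate_succ_apply', Function.iterate_succ_apply', ← ih (by omega),
        heq _ (iterate_conj F (show 3 < 27 by norm_num) (show 4 < 27 by norm_num) ei ej i u hu).1]
  choose idx hidx hidxe using fun k : Fin 8 => cyc_gen k k.2
  refine ⟨⟨e₁, e₂, ψ, F, true, fun k => if hk : k < 8 then h' ^ idx ⟨k, hk⟩ else 1, ?_, ?_, ?_⟩⟩
  · intro k hk
    simp only [dif_pos hk]
    exact pow_mem hh' _
  · intro g hg
    have hzp : Subgroup.zpowers h' = stabTwo P R :=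
      Subgroup.eq_of_le_of_card_ge (Subgroup.zpowers_le.mpr hh') (by
        rw [Nat.card_zpowers, ho', H.card_stabTwo hRP])
    rw [← hzp, mem_zpowers_iff_mem_range_orderOf, ho'] at hg
    simp only [Finset.mem_image, Finset.mem_range] at hg
    obtain ⟨n, hn, rfl⟩ := hg
    have hk : mpow true 2 n < 8 := (cyc_pow n hn 0 (by norm_num)).2
    refine ⟨mpow true 2 n, hk, ?_⟩
    simp only [dif_pos hk]
    -- the exponent is determined by the action
    set i := idx ⟨mpow true 2 n, hk⟩ with hi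
    have hie : mpow true 2 i = mpow true 2 n := hidxe ⟨_, hk⟩
    have e1 := hpow i (hidx _) 1 (by norm_num)
    rw [hie, ← hpow n hn 1 (by norm_num), F.one] at e1
    have hc : Commute ((h' ^ n)⁻¹ * h' ^ i) e₁ := mul_inv_eq_iff_eq_mul.mp (by
      rw [mul_inv_rev, show (h' ^ n)⁻¹ * h' ^ i * e₁ * ((h' ^ i)⁻¹ * (h' ^ n)⁻¹⁻¹) =
        (h' ^ n)⁻¹ * (h' ^ i * e₁ * (h' ^ i)⁻¹) * h' ^ n by group, e1]
      group)
    have := H.eq_one_of_commute hRP (mul_mem (inv_mem (pow_mem hh' _)) (pow_mem hh' _)) he₁ he₁z hc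
    exact (inv_mul_eq_one.mp this).symm
  · intro k hk u hu
    simp only [dif_pos hk]
    rw [hpow _ (hidx _) u hu, hidxe]

theorem exists_model_quaternion (hno : ∀ h ∈ stabTwo P R, orderOf h ≠ 8) : Nonempty (Model P R) := by
  have hP := H.card_sylow_three P
  obtain ⟨t, ht, ht2⟩ := H.exists_invol hRP
  haveI : Fact (Nat.Prime 2) := ⟨Nat.prime_two⟩
  obtain ⟨x, hx, hxz⟩ := H.exists_noncentral hP
  obtain ⟨e₁, he₁, hte₁, hxe⟩ := H.exists_inverted hRP ht ht2 hx
  have he₁z : e₁ ∉ zSub (P : Subgroup G) := fun hz => hxz (by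
    rw [show x = e₁ * (x⁻¹ * e₁)⁻¹ by group]
    exact mul_mem hz (inv_mem hxe))
  obtain ⟨x₂, hx₂, hx₂q⟩ : ∃ y ∈ (P : Subgroup G), y ∉ qSub (P : Subgroup G) e₁ := by
    by_contra hh
    push Not at hh
    have := Subgroup.card_le_of_le (show (P : Subgroup G) ≤ qSub (P : Subgroup G) e₁ from hh)
    rw [H.card_qSub hP he₁ he₁z, hP] at this
    omega
  obtain ⟨e₂, he₂, hte₂, hxe₂⟩ := H.exists_inverted hRP ht ht2 hx₂
  have he₂q : e₂ ∉ qSub (P : Subgroup G) e₁ := fun hq => hx₂q (by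
    rw [show x₂ = e₂ * (x₂⁻¹ * e₂)⁻¹ by group]
    exact mul_mem hq (inv_mem (H.zSub_le_qSub hP he₁ hxe₂)))
  obtain ⟨ψ, F, -⟩ := H.exists_frame hP he₁ he₁z he₂ he₂q
  have htcomm : ∀ k ∈ stabTwo P R, k * t * k⁻¹ = t := fun k hk =>
    H.invol_unique hRP (mul_mem (mul_mem hk ht) (inv_mem hk)) (by
      rw [show k * t * k⁻¹ = MulAut.conj k t from rfl, MulEquiv.orderOf_eq, ht2]) ht ht2
  have hinvk : ∀ k ∈ stabTwo P R, ∀ y, t * y * t⁻¹ = y⁻¹ → t * (k * y * k⁻¹) * t⁻¹ = (k * y * k⁻¹)⁻¹ := by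
    intro k hk y hy
    calc t * (k * y * k⁻¹) * t⁻¹ = (k * t * k⁻¹) * (k * y * k⁻¹) * (k * t * k⁻¹)⁻¹ := by rw [htcomm k hk]
      _ = k * (t * y * t⁻¹) * k⁻¹ := by group
      _ = _ := by rw [hy]; group
  -- every element is determined by the image of the first basis vector
  have hex : ∀ g : stabTwo P R, ∃ k : Fin 8, (g : G) * e₁ * (g : G)⁻¹ = ψ (k + 1) := by
    intro g
    obtain ⟨q, hq, hqe⟩ := inv_psi F hte₁ hte₂ (norm_conj_mem (mem_stabTwo.mp g.2).1 he₁) (hinvk g g.2 e₁ hte₁)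
    have hq0 : q ≠ 0 := fun e => by
      rw [e, F.zero] at hqe
      exact he₁z (by rw [conj_eq_one_iff.mp hqe.symm]; exact one_mem _)
    exact ⟨⟨q - 1, by omega⟩, by rw [show q - 1 + 1 = q by omega]; exact hqe.symm⟩
  choose f hf using hex
  have hfinj : Function.Injective f := fun g g' e => Subtype.ext (by
    have e1 := hf g
    rw [e, ← hf g'] at e1
    have hc : Commute ((g' : G)⁻¹ * g) e₁ := mul_inv_eq_iff_eq_mul.mp (by
      rw [mul_inv_rev, show (g' : G)⁻¹ * g * e₁ * ((g : G)⁻¹ * (g' : G)⁻¹⁻¹) =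
        (g' : G)⁻¹ * ((g : G) * e₁ * (g : G)⁻¹) * g' by group, e1]
      group)
    exact (inv_mul_eq_one.mp
      (H.eq_one_of_commute hRP (mul_mem (inv_mem g'.2) g.2) he₁ he₁z hc)).symm)
  have hfbij : Function.Bijective f := (Nat.bijective_iff_injective_and_card _).mpr
    ⟨hfinj, by rw [H.card_stabTwo hRP, Nat.card_fin]⟩
  refine ⟨⟨e₁, e₂, ψ, F, false,
    fun k => if hk : k < 8 then ((Equiv.ofBijective f hfbij).symm ⟨k, hk⟩ : G) else 1, ?_, ?_, ?_⟩⟩
  · intro k hk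
    simp only [dif_pos hk]
    exact ((Equiv.ofBijective f hfbij).symm ⟨k, hk⟩).2
  · intro g hg
    refine ⟨f ⟨g, hg⟩, (f ⟨g, hg⟩).2, ?_⟩
    simp only [dif_pos (f ⟨g, hg⟩).2, Fin.eta]
    exact congrArg Subtype.val ((Equiv.ofBijective f hfbij).symm_apply_apply ⟨g, hg⟩)
  · intro k hk u hu
    simp only [dif_pos hk]
    set g := (Equiv.ofBijective f hfbij).symm ⟨k, hk⟩ with hgdef
    have hfg : f g = ⟨k, hk⟩ := (Equiv.ofBijective f hfbij).apply_symm_apply ⟨k, hk⟩
    have ei : (g : G) * e₁ * (g : G)⁻¹ = ψ (k + 1) := by rw [hf g, hfg]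
    obtain ⟨q, hq, hqe⟩ := inv_psi F hte₁ hte₂ (norm_conj_mem (mem_stabTwo.mp g.2).1 he₂) (hinvk g g.2 e₂ hte₂)
    suffices hq' : q = get5 (qtab false) k by
      rw [F.conj g (k + 1) (by omega) (get5 (qtab false) k) (qtab_lt false k hk) ei (hq' ▸ hqe.symm) u hu,
        hp_img false k hk u hu]
    rcases Nat.lt_or_ge k 2 with h2 | h2
    · have hg1 : (g : G) = 1 ∨ (g : G) = t := by
        rcases (show k = 0 ∨ k = 1 by omega) with hk' | hk' <;> rw [hk'] at ei
        · left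
          refine H.eq_one_of_commute hRP g.2 he₁ he₁z (mul_inv_eq_iff_eq_mul.mp ?_)
          rw [ei, F.one]
        · right
          have hc : Commute (t⁻¹ * (g : G)) e₁ := mul_inv_eq_iff_eq_mul.mp (by
            rw [mul_inv_rev, show t⁻¹ * (g : G) * e₁ * ((g : G)⁻¹ * t⁻¹⁻¹) =
              t⁻¹ * ((g : G) * e₁ * (g : G)⁻¹) * t by group, ei, show ψ (1 + 1) = e₁⁻¹ from F.two, ← hte₁]
            group)
          exact (inv_mul_eq_one.mp (H.eq_one_of_commute hRP (mul_mem (inv_mem ht) g.2) he₁ he₁z hc)).symm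
      have hne : t ≠ 1 := fun e => by rw [e, orderOf_one] at ht2; omega
      rcases hg1 with e | e
      · have hk0 : k = 0 := by
          rw [e, one_mul, inv_one, mul_one, ← F.one] at ei
          have := F.inj 1 (by norm_num) (k + 1) (by omega) ei
          omega
        rw [e, one_mul, inv_one, mul_one, ← F.three] at hqe
        rw [hk0, (qtab_first false).1]
        exact F.inj q (by omega) 3 (by norm_num) hqe
      · have hk1 : k = 1 := by
          rw [e, hte₁, ← F.two] at ei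
          have := F.inj 2 (by norm_num) (k + 1) (by omega) ei
          omega
        rw [e, hte₂, ← F.six] at hqe
        rw [hk1, (qtab_first false).2]
        exact F.inj q (by omega) 6 (by norm_num) hqe
    · have hq0 : q ≠ 0 := fun e => by
        rw [e, F.zero] at hqe
        exact he₂q (by rw [conj_eq_one_iff.mp hqe.symm]; exact one_mem _)
      have hgg : (g : G) * g = t := by
        have hg8 : orderOf (g : G) ∣ 2 ^ 3 := orderOf_dvd_of_pow_eq_one (by norm_num; exact H.pow_eight hRP g.2)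
        obtain ⟨j, hj, hje⟩ := (Nat.dvd_prime_pow Nat.prime_two).mp hg8
        interval_cases j
        · exfalso
          have e : (g : G) = 1 := orderOf_eq_one_iff.mp (by rw [hje]; norm_num)
          rw [e, one_mul, inv_one, mul_one, ← F.one] at ei
          have := F.inj 1 (by norm_num) (k + 1) (by omega) ei
          omega
        · exfalso
          have e : (g : G) = t := H.invol_unique hRP g.2 (by rw [hje]; norm_num) ht ht2
          rw [e, hte₁, ← F.two] at ei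
          have := F.inj 2 (by norm_num) (k + 1) (by omega) ei
          omega
        · exact H.invol_unique hRP (mul_mem g.2 g.2) (by
            rw [← pow_two, orderOf_pow' (g : G) (by norm_num), hje]; norm_num) ht ht2
        · exact absurd (hje.trans (by norm_num)) (hno g g.2)
      have hit := iterate_conj F (show k + 1 < 27 by omega) (show q < 27 by omega) ei hqe.symm 2
      have hA := (hit 1 (by norm_num)).2
      have hB := (hit 3 (by norm_num)).2
      have c1 := (F.conj g (k + 1) (by omega) q (by omega) ei hqe.symm 1 (by norm_num))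
      rw [F.one, ei] at c1
      have c1' : imgOf (k + 1) q 1 = k + 1 :=
        (F.inj (k + 1) (by omega) _ (imgOf_lt (by omega) (by omega) 1) c1).symm
      rw [pow_two, hgg, F.one, hte₁, ← F.two] at hA
      rw [pow_two, hgg, F.three, hte₂, ← F.six] at hB
      have hA' := F.inj _ (by norm_num) _ (hit 1 (by norm_num)).1 hA
      have hB' := F.inj _ (by norm_num) _ (hit 3 (by norm_num)).1 hB
      simp only [Function.iterate_succ_apply', Function.iterate_zero_apply] at hA' hB'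
      rw [c1'] at hA'
      exact quat_cases k hk h2 q hq hq0 hA'.symm hB'.symm

theorem exists_model : Nonempty (Model P R) := by
  by_cases h : ∃ h ∈ stabTwo P R, orderOf h = 8
  · obtain ⟨h, hh, ho⟩ := h
    exact H.exists_model_cyclic hRP hh ho
  · exact H.exists_model_quaternion hRP fun g hg e => h ⟨g, hg, e⟩

end Hyp

end CfsgLib.UThreeUnique
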