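import Cfsg.Agent.Lib.UThreeUnique.Model

/-!
# Uniqueness of the simple group of order 6048 without elements of order 9
-/

set_option autoImplicit false
set_option linter.unusedSectionVars false
set_option linter.style.haveILetI false

namespace CfsgLib.UThreeUnique

open Tables
open scoped _root_.Classical Pointwise

universe u v

theorem fixed_pts : ∀ c : Bool, ∀ p < 28, hp c 1 p = p → p = 0 ∨ p = 9 ∨ p = 18 ∨ p = 27 := by
  decide +kernel

theorem fixed_pts' : ∀ c : Bool, hp c 1 9 = 9 ∧ hp c 1 18 = 18 := by decide +kernel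

theorem hp_zero : ∀ c : Bool, ∀ p < 28, hp c 0 p = p := by decide +kernel

theorem special_mod : ∀ p < 28, p ≠ 0 → p ≠ 9 → p ≠ 18 → p ≠ 27 → p % 9 ≠ 0 := by
  intro p _ _ _ _ _
  omega

theorem lp_twenty_seven : ∀ u < 27, lp u 27 = 27 := by decide +kernel

theorem kidx_shift : ∀ k < 8, kidx (k + 1) = k := by decide +kernel

theorem mu_gens : mpow true 2 4 = 1 ∧ mu false 2 2 = 1 ∧ mu false 3 3 = 1 ∧ mu false 2 1 = 5 := by
  decide +kernel

/-- The generators of the permutation group. -/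
def genSet : Set (Equiv.Perm (Fin 28)) :=
  {σ | (∃ u < 27, ∀ p, (σ p : ℕ) = lp u p) ∨ (∃ k < 8, ∀ p, (σ p : ℕ) = hp true k p) ∨
    ∀ p, (σ p : ℕ) = get5 wtab p}

variable {G : Type u} [Group G] [Finite G] [IsSimpleGroup G] [Fintype G]

namespace Hyp

variable (H : Hyp G)
include H

theorem exists_embedding :
    ∃ ρ : G →* Equiv.Perm (Fin 28), Function.Injective ρ ∧ ρ.range = Subgroup.closure genSet := by
  haveI : Fact (Nat.Prime 3) := ⟨Nat.prime_three⟩
  obtain ⟨P⟩ := (inferInstance : Nonempty (Sylow 3 G))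
  haveI : Nontrivial (Sylow 3 G) := Finite.one_lt_card_iff_nontrivial.mp (by rw [H.count_sylow]; norm_num)
  obtain ⟨R, hRP⟩ := exists_ne P
  have hP := H.card_sylow_three P
  obtain ⟨M⟩ := H.exists_model hRP
  obtain ⟨e₁, e₂, ψ, F, c, η, hηmem, hηsurj, hηact⟩ := M
  -- the elements fixing P and R
  have hη1 : ∀ k < 8, η k * e₁ * (η k)⁻¹ = ψ (k + 1) := fun k hk => by
    rw [← F.one, hηact k hk 1 (by norm_num), hp_one c k hk]
  have he₁z : e₁ ∉ zSub (P : Subgroup G) := by
    intro hz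
    have h0 := hη1 2 (by norm_num)
    have h1 : η 2 * e₁ * (η 2)⁻¹ ∈ zSub (P : Subgroup G) := H.conj_zSub hRP (hηmem 2 (by norm_num)) hz
    rw [h0, show ψ (2 + 1) = e₂ from F.three] at h1
    -- then P would be abelian
    refine H.not_abelian hP fun a ha b hb => ?_
    obtain ⟨u, hu, rfl⟩ := F.surj a ha
    have hcen : ∀ w < 27, ψ w ∈ zSub (P : Subgroup G) := by
      intro w hw
      rw [← mul_one (ψ w), ← mul_inv_cancel (1 : G)]
      have hc := F.conj 1 1 (by norm_num) 3 (by norm_num) (by rw [F.one]; group) (by rw [F.three]; group) w hw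
      rw [mul_inv_cancel, mul_one]
      rw [one_mul, inv_one, mul_one] at hc
      rw [hc]
      have hpw : ∀ i n, i < 27 → ψ i ∈ zSub (P : Subgroup G) → ψ (pw i n) ∈ zSub (P : Subgroup G) := by
        intro i n hi hmem
        have : ∀ m : ℕ, (lp i)^[m] 0 < 27 ∧ ψ ((lp i)^[m] 0) ∈ zSub (P : Subgroup G) := by
          intro m
          induction m with
          | zero => exact ⟨by simp, by rw [Function.iterate_zero_apply, F.zero]; exact one_mem _⟩
          | succ m ih =>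
            rw [Function.iterate_succ_apply']
            exact ⟨lp_lt hi ih.1, by rw [← F.mul i hi _ ih.1]; exact mul_mem hmem ih.2⟩
        exact (this _).2
      have l1 : lp 3 1 < 27 := lp_lt (by norm_num) (by norm_num)
      have l3 : lp 1 3 < 27 := lp_lt (by norm_num) (by norm_num)
      have hz9 : lp (ng (lp 3 1)) (lp 1 3) < 27 := lp_lt (lp_zero _ l1).2.1 l3
      have hm9 : ψ (lp (ng (lp 3 1)) (lp 1 3)) ∈ zSub (P : Subgroup G) := by
        rw [← F.mul _ (lp_zero _ l1).2.1 _ l3, F.inv _ l1, ← F.mul 3 (by norm_num) 1 (by norm_num),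
          ← F.mul 1 (by norm_num) 3 (by norm_num), F.one, F.three]
        exact mul_mem (inv_mem (mul_mem h1 hz)) (mul_mem hz h1)
      rw [imgOf, ← F.mul _ (pw_lt (by norm_num) _) _ (lp_lt (pw_lt (by norm_num) _) (pw_lt hz9 _)),
        ← F.mul _ (pw_lt (by norm_num) _) _ (pw_lt hz9 _)]
      exact mul_mem (hpw 1 _ (by norm_num) (by rw [F.one]; exact hz))
        (mul_mem (hpw 3 _ (by norm_num) (by rw [F.three]; exact h1)) (hpw _ _ hz9 hm9))
    exact (mem_zSub.mp (hcen u hu)).2 b hb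
  have he₁P : e₁ ∈ (P : Subgroup G) := F.one ▸ F.mem 1 (by norm_num)
  have hdet : ∀ g ∈ stabTwo P R, ∀ k < 8, g * e₁ * g⁻¹ = ψ (k + 1) → g = η k := by
    intro g hg k hk e
    have hc : Commute ((η k)⁻¹ * g) e₁ := mul_inv_eq_iff_eq_mul.mp (by
      rw [mul_inv_rev, show (η k)⁻¹ * g * e₁ * (g⁻¹ * (η k)⁻¹⁻¹) = (η k)⁻¹ * (g * e₁ * g⁻¹) * η k by group,
        e, ← hη1 k hk]
      group)
    exact (inv_mul_eq_one.mp
      (H.eq_one_of_commute hRP (mul_mem (inv_mem (hηmem k hk)) hg) he₁P he₁z hc)).symm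
  have hη0 : η 0 = 1 := (hdet 1 (one_mem _) 0 (by norm_num) (by
    rw [one_mul, inv_one, mul_one, zero_add, F.one])).symm
  have hηinj : ∀ i < 8, ∀ j < 8, η i = η j → i = j := fun i hi j hj e => by
    have h := hη1 i hi
    rw [e, hη1 j hj] at h
    have := F.inj _ (by omega) _ (by omega) h
    omega
  have hηmul : ∀ i < 8, ∀ j < 8, η i * η j = η (mu c i j) := fun i hi j hj => by
    refine hdet _ (mul_mem (hηmem i hi) (hηmem j hj)) _ (mu_spec c i hi j hj).1 ?_
    rw [show η i * η j * e₁ * (η i * η j)⁻¹ = η i * (η j * e₁ * (η j)⁻¹) * (η i)⁻¹ by group, hη1 j hj,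
      hηact i hi _ (by omega), (mu_spec c i hi j hj).2]
  obtain ⟨t, ht, ht2⟩ := H.exists_invol hRP
  have hηt : η 1 = t := by
    refine H.invol_unique hRP (hηmem 1 (by norm_num)) ?_ ht ht2
    haveI : Fact (Nat.Prime 2) := ⟨Nat.prime_two⟩
    refine orderOf_eq_prime ?_ fun e => ?_
    · rw [pow_two, hηmul 1 (by norm_num) 1 (by norm_num), show mu c 1 1 = 0 by cases c <;> decide +kernel, hη0]
    · have := hηinj 1 (by norm_num) 0 (by norm_num) (e.trans hη0.symm)
      omega
  -- the points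
  let pt : ℕ → Sylow 3 G := fun p => if p < 27 then ψ p • R else P
  have hpt27 : pt 27 = P := if_neg (by norm_num)
  have hpt0 : pt 0 = R := by
    show (if (0 : ℕ) < 27 then ψ 0 • R else P) = R
    rw [if_pos (by norm_num), F.zero, one_smul]
  have hptu : ∀ u < 27, pt u = ψ u • R := fun u hu => if_pos hu
  have hptne : ∀ u < 27, pt u ≠ P := fun u hu e => hRP (by
    rw [hptu u hu] at e
    rw [← inv_smul_smul (ψ u) R, e, smul_self_sylow (inv_mem (F.mem u hu))])
  have hbij : Function.Bijective fun p : Fin 28 => pt p := by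
    rw [Nat.bijective_iff_injective_and_card]
    refine ⟨fun p q e => Fin.ext ?_, by rw [Nat.card_fin, H.count_sylow]⟩
    simp only at e
    rcases Nat.lt_or_ge (p : ℕ) 27 with hp | hp <;> rcases Nat.lt_or_ge (q : ℕ) 27 with hq | hq
    · rw [hptu _ hp, hptu _ hq] at e
      exact F.inj _ hp _ hq (H.smul_inj hRP (F.mem _ hp) (F.mem _ hq) e)
    · rw [show (q : ℕ) = 27 by omega, hpt27] at e
      exact absurd e (hptne _ hp)
    · rw [show (p : ℕ) = 27 by omega, hpt27] at e
      exact absurd e.symm (hptne _ hq)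
    · omega
  have hptinj : ∀ p < 28, ∀ q < 28, pt p = pt q → p = q := fun p hp q hq e =>
    congrArg Fin.val (hbij.1 (a₁ := ⟨p, hp⟩) (a₂ := ⟨q, hq⟩) e)
  have htr : ∀ u < 27, ∀ p < 28, ψ u • pt p = pt (lp u p) := by
    intro u hu p hp
    rcases Nat.lt_or_ge p 27 with h | h
    · rw [hptu p h, hptu _ (lp_lt hu h), smul_smul, F.mul u hu p h]
    · rw [show p = 27 by omega, lp_twenty_seven u hu, hpt27, smul_self_sylow (F.mem u hu)]
  have hhp : ∀ k < 8, ∀ p < 28, η k • pt p = pt (hp c k p) := by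
    intro k hk p hp'
    rcases Nat.lt_or_ge p 27 with h | h
    · have hlt : hp c k p < 27 := by
        have h1 := hp_range c k hk p hp'
        rcases eq_or_ne (hp c k p) 27 with e | e
        · have := h1.2.1.mp e; omega
        · omega
      rw [hptu p h, hptu _ hlt, ← hηact k hk p h, mul_smul, mul_smul, inv_smul_eq_iff.mpr
        (mem_stabTwo.mp (hηmem k hk)).2.symm]
    · have e27 : hp c k 27 = 27 := (hp_range c k hk 27 (by norm_num)).2.1.mpr rfl
      rw [show p = 27 by omega, e27, hpt27, (mem_stabTwo.mp (hηmem k hk)).1]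
  -- an element interchanging P and R
  obtain ⟨w₀, hw₀P, hw₀R⟩ : ∃ w : G, w • P = R ∧ w • R = P := by
    obtain ⟨g, hg⟩ := MulAction.exists_smul_eq G P R
    have hne : g • R ≠ R := fun e => hRP (MulAction.injective g (e.trans hg.symm))
    obtain ⟨r, hr, hre⟩ := H.exists_smul (P := R) hne hRP.symm
    exact ⟨r * g, by rw [mul_smul, hg, smul_self_sylow hr], by rw [mul_smul, hre]⟩
  have hswapN : ∀ w : G, w • P = R → w • R = P → ∀ h ∈ stabTwo P R, w * h * w⁻¹ ∈ stabTwo P R := by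
    intro w hwP hwR h hh
    obtain ⟨hhP, hhR⟩ := mem_stabTwo.mp hh
    refine mem_stabTwo.mpr ⟨?_, ?_⟩
    · rw [mul_smul, mul_smul, inv_smul_eq_iff.mpr hwR.symm, hhR, hwR]
    · rw [mul_smul, mul_smul, inv_smul_eq_iff.mpr hwP.symm, hhP, hwP]
  have hswapt : ∀ w : G, w • P = R → w • R = P → w * t * w⁻¹ = t := fun w hwP hwR =>
    H.invol_unique hRP (hswapN w hwP hwR t ht) (by
      rw [show w * t * w⁻¹ = MulAut.conj w t from rfl, MulEquiv.orderOf_eq, ht2]) ht ht2
  have hex : ∀ (w : G) (p : Fin 28), ∃ q : Fin 28, w • pt p = pt q := fun w p => by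
    obtain ⟨q, hq⟩ := hbij.2 (w • pt p)
    exact ⟨q, hq.symm⟩
  -- non-central points go to non-central points
  have hspecial : ∀ w : G, w • P = R → w • R = P → ∀ p < 28, ∀ q < 28, w • pt p = pt q → p % 9 ≠ 0 → p ≠ 27 →
      q % 9 ≠ 0 := by
    intro w hwP hwR p hp' q hq e hp9 hp27
    have hq0 : q ≠ 0 := fun h => by
      rw [h, hpt0, ← hwP] at e
      exact hp27 (hptinj p hp' 27 (by norm_num) ((MulAction.injective w e).trans hpt27.symm))
    have hq27 : q ≠ 27 := fun h => by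
      rw [h, hpt27, ← hwR] at e
      exact hp9 (by rw [hptinj p hp' 0 (by norm_num) ((MulAction.injective w e).trans hpt0.symm)])
    have hnfix : hp c 1 q ≠ q := fun h => by
      have h1 : w • (η 1 • pt p) = w • pt p := by
        rw [smul_smul, show w * η 1 = η 1 * w by
          rw [hηt]
          conv_rhs => rw [← hswapt w hwP hwR]
          group, ← smul_smul, e, hhp 1 (by norm_num) q hq, h]
      have h2 := MulAction.injective w h1
      rw [hhp 1 (by norm_num) p hp'] at h2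
      rcases fixed_pts c p hp' (hptinj _ (hp_range c 1 (by norm_num) p hp').1 _ hp' h2) with h3 | h3 | h3 | h3 <;>
        omega
    refine special_mod q hq hq0 (fun h => hnfix ?_) (fun h => hnfix ?_) hq27
    · rw [h]; exact (fixed_pts' c).1
    · rw [h]; exact (fixed_pts' c).2
  -- normalise the image of the first point
  obtain ⟨w, hwP, hwR, hw1⟩ : ∃ w : G, w • P = R ∧ w • R = P ∧
      ∃ p₁ ∈ ([1, 10, 19] : List ℕ), w • pt 1 = pt p₁ := by
    obtain ⟨q, hq⟩ := hex w₀ ⟨1, by norm_num⟩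
    have hq9 := hspecial w₀ hw₀P hw₀R 1 (by norm_num) q q.2 hq (by norm_num) (by norm_num)
    have hq27 : (q : ℕ) < 27 := by
      by_contra h
      exact hq9 (by rw [show (q : ℕ) = 27 by omega])
    obtain ⟨hk, hcl, -⟩ := decomp c q hq27 hq9
    have hiv := (iv_spec c _ hk).1
    obtain ⟨hiP, hiR⟩ := mem_stabTwo.mp (hηmem _ hiv)
    refine ⟨η (iv c (kidx q)) * w₀, by rw [mul_smul, hw₀P, hiR], by rw [mul_smul, hw₀R, hiP],
      pick 1 10 19 (cls c q), ?_, ?_⟩
    · rcases (show cls c q = 0 ∨ cls c q = 1 ∨ cls c q = 2 by omega) with e | e | e <;> rw [e] <;> simp [pick]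
    · rw [mul_smul]
      show η (iv c (kidx q)) • (w₀ • pt ((⟨1, by norm_num⟩ : Fin 28) : ℕ)) = _
      rw [hq, hhp _ hiv q q.2, normal_first c q hq27 hq9]
  obtain ⟨p₁, hp₁, hw1⟩ := hw1
  choose wf hwf using hex w
  let wn : ℕ → ℕ := fun p => if h : p < 28 then (wf ⟨p, h⟩ : ℕ) else 0
  have hwn : ∀ p < 28, wn p < 28 ∧ w • pt p = pt (wn p) := fun p hp' => by
    simp only [wn, dif_pos hp']
    exact ⟨(wf ⟨p, hp'⟩).2, hwf ⟨p, hp'⟩⟩
  have hwn_of : ∀ p < 28, ∀ q < 28, w • pt p = pt q → wn p = q := fun p hp' q hq e =>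
    hptinj _ (hwn p hp').1 _ hq ((hwn p hp').2.symm.trans e)
  have hwninj : ∀ p < 28, ∀ q < 28, wn p = wn q → p = q := fun p hp' q hq e =>
    hptinj p hp' q hq (MulAction.injective w (by
      show w • pt p = w • pt q
      rw [(hwn p hp').2, (hwn q hq).2, e]))
  have hwn0 : wn 0 = 27 := hwn_of 0 (by norm_num) 27 (by norm_num) (by rw [hpt0, hwR, hpt27])
  have hwn27 : wn 27 = 0 := hwn_of 27 (by norm_num) 0 (by norm_num) (by rw [hpt27, hwP, hpt0])
  have hwn1 : wn 1 = p₁ := hwn_of 1 (by norm_num) p₁ (by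
    simp only [List.mem_cons, List.not_mem_nil, or_false] at hp₁; omega) hw1
  -- the automorphism
  have hτex : ∀ k : Fin 8, ∃ j : Fin 8, w * η k * w⁻¹ = η j := fun k => by
    obtain ⟨j, hj, e⟩ := hηsurj _ (hswapN w hwP hwR _ (hηmem k k.2))
    exact ⟨⟨j, hj⟩, e.symm⟩
  choose τf hτf using hτex
  let τ : ℕ → ℕ := fun k => if h : k < 8 then (τf ⟨k, h⟩ : ℕ) else 0
  have hτ : ∀ k < 8, τ k < 8 ∧ w * η k * w⁻¹ = η (τ k) := fun k hk => by
    simp only [τ, dif_pos hk]
    exact ⟨(τf ⟨k, hk⟩).2, hτf ⟨k, hk⟩⟩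
  have hτof : ∀ k < 8, ∀ j < 8, w * η k * w⁻¹ = η j → τ k = j := fun k hk j hj e =>
    hηinj _ (hτ k hk).1 _ hj ((hτ k hk).2.symm.trans e)
  have hτmul : ∀ i < 8, ∀ j < 8, τ (mu c i j) = mu c (τ i) (τ j) := fun i hi j hj => by
    refine hτof _ (mu_spec c i hi j hj).1 _ (mu_spec c _ (hτ i hi).1 _ (hτ j hj).1).1 ?_
    rw [← hηmul i hi j hj, ← hηmul _ (hτ i hi).1 _ (hτ j hj).1, ← (hτ i hi).2, ← (hτ j hj).2]
    group
  have hτ0 : τ 0 = 0 := hτof 0 (by norm_num) 0 (by norm_num) (by rw [hη0]; group)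
  have hτ1 : τ 1 = 1 := hτof 1 (by norm_num) 1 (by norm_num) (by rw [hηt]; exact hswapt w hwP hwR)
  have hτinj : ∀ i < 8, ∀ j < 8, τ i = τ j → i = j := fun i hi j hj e => by
    have h1 := (hτ i hi).2
    rw [e, ← (hτ j hj).2] at h1
    exact hηinj i hi j hj (mul_left_cancel (mul_right_cancel h1))
  have hτpow : ∀ i < 8, ∀ n : ℕ, mpow c i n < 8 ∧ τ (mpow c i n) = mpow c (τ i) n := by
    intro i hi n
    induction n with
    | zero => exact ⟨by simp [mpow], hτ0⟩
    | succ n ih => exact ⟨(mu_spec c i hi _ ih.1).1, by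
        show τ (mu c i (mpow c i n)) = _
        rw [hτmul i hi _ ih.1, ih.2]; rfl⟩
  obtain ⟨N, hN, hNτ⟩ : ∃ N ∈ auts c, ∀ k < 8, get5 N k = τ k := by
    obtain ⟨g1, g2, g3, g4⟩ := mu_gens
    cases c with
    | true =>
      have h4 := (hτpow 2 (by norm_num) 4).2
      rw [g1, hτ1] at h4
      obtain ⟨N, hN, hN'⟩ := auts_cyc (τ 2) (hτ 2 (by norm_num)).1 (by rw [← h4]; norm_num)
      refine ⟨N, hN, fun k hk => ?_⟩
      obtain ⟨i, hi, rfl⟩ := cyc_gen k hk
      rw [hN' i hi, (hτpow 2 (by norm_num) i).2]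
    | false =>
      have h22 := hτmul 2 (by norm_num) 2 (by norm_num)
      have h33 := hτmul 3 (by norm_num) 3 (by norm_num)
      have h21 := hτmul 2 (by norm_num) 1 (by norm_num)
      rw [g2, hτ1] at h22
      rw [g3, hτ1] at h33
      rw [g4, hτ1] at h21
      obtain ⟨N, hN, hN'⟩ := auts_quat (τ 2) (hτ 2 (by norm_num)).1 (τ 3) (hτ 3 (by norm_num)).1 h22.symm h33.symm
        (fun e => by have := hτinj 3 (by norm_num) 2 (by norm_num) e; omega)
        (fun e => by have := hτinj 3 (by norm_num) 5 (by norm_num) (e.trans h21.symm); omega)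
      refine ⟨N, hN, fun k hk => ?_⟩
      obtain ⟨i, hi, j, hj, rfl⟩ := quat_gen k hk
      rw [hN' i hi j hj, hτmul _ (hτpow 2 (by norm_num) i).1 _ (hτpow 3 (by norm_num) j).1,
        (hτpow 2 (by norm_num) i).2, (hτpow 3 (by norm_num) j).2]
  have hequi : ∀ k < 8, ∀ p < 28, wn (hp c k p) = hp c (τ k) (wn p) := by
    intro k hk p hp'
    refine hwn_of _ (hp_range c k hk p hp').1 _ (hp_range c _ (hτ k hk).1 _ (hwn p hp').1).1 ?_
    rw [← hhp k hk p hp', ← hhp _ (hτ k hk).1 _ (hwn p hp').1, ← (hτ k hk).2, ← (hwn p hp').2, smul_smul,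
      smul_smul]
    congr 1
    group
  have hns : ∀ p < 27, p % 9 ≠ 0 → wn p < 27 ∧ wn p % 9 ≠ 0 := fun p hp' h9 => by
    have h1 := hspecial w hwP hwR p (by omega) _ (hwn p (by omega)).1 (hwn p (by omega)).2 h9 (by omega)
    refine ⟨?_, h1⟩
    have := (hwn p (show p < 28 by omega)).1
    by_contra h
    exact h1 (by rw [show wn p = 27 by omega])
  have hcls_sep : ∀ p < 27, p % 9 ≠ 0 → ∀ q < 27, q % 9 ≠ 0 → cls c (wn p) = cls c (wn q) →
      cls c p = cls c q := by
    intro p hp' hp9 q hq hq9 e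
    obtain ⟨hpl, hp9'⟩ := hns p hp' hp9
    obtain ⟨hql, hq9'⟩ := hns q hq hq9
    obtain ⟨hk, -, he⟩ := decomp c _ hpl hp9'
    obtain ⟨hl, -, he'⟩ := decomp c _ hql hq9'
    rw [e] at he
    set r := pick 1 10 19 (cls c (wn q))
    have hr : r < 28 := by
      simp only [r, pick]; split_ifs <;> norm_num
    -- both are images of one representative
    obtain ⟨kk, hkk, hkke⟩ : ∃ kk < 8, τ kk = mu c (kidx (wn q)) (iv c (kidx (wn p))) := by
      obtain ⟨kk, hkk, e2⟩ := hηsurj (w⁻¹ * η (mu c (kidx (wn q)) (iv c (kidx (wn p)))) * w⁻¹⁻¹)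
        (hswapN w⁻¹ (inv_smul_eq_iff.mpr hwR.symm) (inv_smul_eq_iff.mpr hwP.symm) _
          (hηmem _ (mu_spec c _ hl _ (iv_spec c _ hk).1).1))
      refine ⟨kk, hkk, hτof kk hkk _ (mu_spec c _ hl _ (iv_spec c _ hk).1).1 ?_⟩
      rw [e2]; group
    have key : wn (hp c kk p) = wn q := by
      rw [hequi kk hkk p (by omega), hkke]
      refine hptinj _ (hp_range c _ (mu_spec c _ hl _ (iv_spec c _ hk).1).1 _ (hwn p (by omega)).1).1 _
        (hwn q (by omega)).1 ?_
      have e3 := iv_hp c _ hk r hr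
      rw [he] at e3
      rw [← hhp _ (mu_spec c _ hl _ (iv_spec c _ hk).1).1 _ (hwn p (by omega)).1,
        ← hηmul _ hl _ (iv_spec c _ hk).1, mul_smul, hhp _ (iv_spec c _ hk).1 _ (hwn p (by omega)).1,
        e3, hhp _ hl r hr, he']
    have := hwninj _ (hp_range c kk hkk p (by omega)).1 q (by omega) key
    rw [← this, (cls_hp c kk hkk p hp' hp9).1]
  obtain ⟨hc1, hc10, hc19⟩ := decomp_cls c
  obtain ⟨h10l, h10n⟩ := hns 10 (by norm_num) (by norm_num)
  obtain ⟨h19l, h19n⟩ := hns 19 (by norm_num) (by norm_num)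
  have hwn9 : wn 9 = 9 ∨ wn 9 = 18 := by
    have hfix : hp c 1 (wn 9) = wn 9 := by
      have h := hequi 1 (by norm_num) 9 (by norm_num)
      rw [(fixed_pts' c).1, hτ1] at h
      exact h.symm
    rcases fixed_pts c _ (hwn 9 (by norm_num)).1 hfix with e | e | e | e
    · have := hwninj 9 (by norm_num) 27 (by norm_num) (e.trans hwn27.symm); omega
    · exact Or.inl e
    · exact Or.inr e
    · have := hwninj 9 (by norm_num) 0 (by norm_num) (e.trans hwn0.symm); omega
  have hwn18 : wn 18 = 27 - wn 9 := by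
    have hfix : hp c 1 (wn 18) = wn 18 := by
      have h := hequi 1 (by norm_num) 18 (by norm_num)
      rw [(fixed_pts' c).2, hτ1] at h
      exact h.symm
    have hne : wn 18 ≠ wn 9 := fun e => by have := hwninj 18 (by norm_num) 9 (by norm_num) e; omega
    rcases fixed_pts c _ (hwn 18 (by norm_num)).1 hfix with e | e | e | e
    · have := hwninj 18 (by norm_num) 27 (by norm_num) (e.trans hwn27.symm); omega
    · omega
    · omega
    · have := hwninj 18 (by norm_num) 0 (by norm_num) (e.trans hwn0.symm); omega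
  set W := wfun c N p₁ (wn 10) (wn 19) (wn 9) with hW
  have hWeq : ∀ p < 28, W p = wn p := by
    intro p hp'
    simp only [hW, wfun]
    split_ifs with h0 h27 h9 h18
    · rw [h0, hwn0]
    · rw [h27, hwn27]
    · rw [h9]
    · rw [h18, hwn18]
    · have h9' := special_mod p hp' h0 h9 h18 h27
      obtain ⟨hk, hcl, he⟩ := decomp c p (by omega) h9'
      rw [hNτ _ hk]
      conv_rhs => rw [← he]
      rw [hequi _ hk _ (by unfold pick; split_ifs <;> norm_num)]
      rcases (show cls c p = 0 ∨ cls c p = 1 ∨ cls c p = 2 by omega) with e | e | e <;> rw [e] <;>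
        simp [pick, hwn1]
  -- the square of w
  obtain ⟨m, hm, hme⟩ := hηsurj (w * w)
    (mem_stabTwo.mpr ⟨by rw [mul_smul, hwP, hwR], by rw [mul_smul, hwR, hwP]⟩)
  have hsq : ∀ p < 28, wn (wn p) = hp c m p := fun p hp' =>
    hwn_of _ (hwn p hp').1 _ (hp_range c m hm p hp').1 (by
      rw [← (hwn p hp').2, smul_smul, ← hme, hhp m hm p hp'])
  have hgood : good c W = true := by
    have hmk : kidx (W (W 1)) = m := by
      rw [hWeq 1 (by norm_num), hWeq _ (hwn 1 (by norm_num)).1, hsq 1 (by norm_num), kidx_hp c m hm]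
    simp only [good, hmk, Bool.and_eq_true, decide_eq_true_eq, List.all_eq_true, List.mem_range]
    have hWW : ∀ p < 28, W (W p) = hp c m p := fun p hp' => by
      rw [hWeq p hp', hWeq _ (hwn p hp').1, hsq p hp']
    refine ⟨⟨⟨hm, hWW 10 (by norm_num)⟩, hWW⟩, fun u₀ hu₀ => ?_⟩
    have hu : u₀ + 1 < 27 := by omega
    have hwu : wn (u₀ + 1) < 27 := by
      have := (hwn (u₀ + 1) (by omega)).1
      by_contra h
      have := hwninj (u₀ + 1) (by omega) 0 (by norm_num) ((show wn (u₀ + 1) = 27 by omega).trans hwn0.symm)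
      omega
    set g := (ψ (wn (u₀ + 1)))⁻¹ * w * ψ (u₀ + 1) * w with hg
    have hgP : g • P = R := by
      rw [hg, mul_smul, mul_smul, mul_smul, hwP, ← hptu _ hu, (hwn _ (by omega)).2, hptu _ hwu, inv_smul_smul]
    obtain ⟨a, ha, h, hh, hah⟩ := H.decompose hRP (g := w⁻¹ * g)
      (by rw [mul_smul, hgP]; exact inv_smul_eq_iff.mpr hwP.symm)
    obtain ⟨x, hx, rfl⟩ := F.surj a ha
    obtain ⟨k, hk, rfl⟩ := hηsurj h hh
    have hng := (lp_zero _ hwu).2.1
    have hy : ∀ p < 28, lp (ng (wn (u₀ + 1))) (wn (lp (u₀ + 1) (wn p))) < 28 ∧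
        wn (lp x (hp c k p)) = lp (ng (wn (u₀ + 1))) (wn (lp (u₀ + 1) (wn p))) := by
      intro p hp'
      have b1 := (hwn p hp').1
      have b2 := (lp_range _ hu _ b1).1
      have b3 := (hwn _ b2).1
      have b4 := (lp_range _ hng _ b3).1
      have c1 := (hp_range c k hk p hp').1
      have c2 := (lp_range x hx _ c1).1
      refine ⟨b4, hwn_of _ c2 _ b4 ?_⟩
      rw [← htr x hx _ c1, ← hhp k hk p hp', ← htr _ hng _ b3, ← (hwn _ b2).2, ← htr _ hu _ b1,
        ← (hwn p hp').2, F.inv _ hwu, smul_smul, smul_smul, smul_smul, smul_smul, smul_smul]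
      congr 1
      rw [mul_assoc w, ← hah, mul_inv_cancel_left, hg]
    have hyW : ∀ p < 28, lp (ng (W (u₀ + 1))) (W (lp (u₀ + 1) (W p))) =
        lp (ng (wn (u₀ + 1))) (wn (lp (u₀ + 1) (wn p))) := fun p hp' => by
      rw [hWeq _ (show u₀ + 1 < 28 by omega), hWeq p hp', hWeq _ (lp_range _ hu _ (hwn p hp').1).1]
    have hinvm : ∀ p < 28, hp c (iv c m) (wn (wn p)) = p := fun p hp' => by
      rw [hsq p hp', iv_hp c m hm p hp']
    have hx0 : lp x 0 = x := (lp_zero x hx).1
    have hX : hp c (iv c m) (W (lp (ng (W (u₀ + 1))) (W (lp (u₀ + 1) (W 0))))) = x := by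
      obtain ⟨b, e⟩ := hy 0 (by norm_num)
      rw [(hp_range c k hk 0 (by norm_num)).2.2, hx0] at e
      rw [hyW 0 (by norm_num), hWeq _ b, ← e, hinvm x (by omega)]
    have hk1 : k + 1 < 28 := by omega
    have hK : kidx (lp (ng x) (hp c (iv c m) (W (lp (ng (W (u₀ + 1))) (W (lp (u₀ + 1) (W 1))))))) = k := by
      obtain ⟨b, e⟩ := hy 1 (by norm_num)
      rw [hp_one c k hk] at e
      rw [hyW 1 (by norm_num), hWeq _ b, ← e, hinvm _ (lp_range x hx _ hk1).1, lp_ng_cancel x hx _ hk1,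
        kidx_shift k hk]
    simp only [step, hX, hK, Bool.and_eq_true, decide_eq_true_eq, List.all_eq_true, List.mem_range]
    refine ⟨hx, hk, fun p hp' => ?_⟩
    rw [hyW p hp', hWeq _ (lp_range x hx _ (hp_range c k hk p hp').1).1]
    exact (hy p hp').2
  -- only one solution
  have hwin : c = true ∧ ∀ p < 28, wn p = get5 wtab p := by
    have hs : searchOK c = true := by cases c; exacts [searchQ, searchC]
    simp only [searchOK, List.all_eq_true, List.mem_range, Bool.or_eq_true, Bool.and_eq_true,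
      decide_eq_true_eq, Bool.not_eq_true'] at hs
    have hp1c : cls c p₁ = cls c (wn 1) := by rw [hwn1]
    have n12 : cls c (wn 10) ≠ cls c p₁ := fun e => by
      have := hcls_sep 10 (by norm_num) (by norm_num) 1 (by norm_num) (by norm_num) (e.trans hp1c)
      omega
    have n13 : cls c (wn 19) ≠ cls c p₁ := fun e => by
      have := hcls_sep 19 (by norm_num) (by norm_num) 1 (by norm_num) (by norm_num) (e.trans hp1c)
      omega
    have n23 : cls c (wn 19) ≠ cls c (wn 10) := fun e => by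
      have := hcls_sep 19 (by norm_num) (by norm_num) 10 (by norm_num) (by norm_num) e
      omega
    rcases hs N hN p₁ hp₁ (wn 10) h10l with (h' | h') | h'
    · exact absurd h' h10n
    · exact absurd h' n12
    rcases h' (wn 19) h19l with ((h' | h') | h') | h'
    · exact absurd h' h19n
    · exact absurd h' n13
    · exact absurd h' n23
    rcases h' (wn 9) (by rcases hwn9 with e | e <;> simp [e]) with h'' | ⟨hc, h''⟩
    · rw [← hW, hgood] at h''
      exact Bool.noConfusion h''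
    · exact ⟨hc, fun p hp' => (hWeq p hp').symm.trans (by rw [hW]; exact h'' p hp')⟩
  obtain ⟨hc, hwtab⟩ := hwin
  -- the permutation representation
  let E : Fin 28 ≃ Sylow 3 G := Equiv.ofBijective _ hbij
  let ρ : G →* Equiv.Perm (Fin 28) :=
    (E.symm.permCongrHom.toMonoidHom).comp (MulAction.toPermHom G (Sylow 3 G))
  have hρ : ∀ (g : G) (p : Fin 28), ρ g p = E.symm (g • pt p) := fun g p => rfl
  have hρeq : ∀ (g : G) (p : Fin 28) (q : ℕ), q < 28 → g • pt p = pt q → (ρ g p : ℕ) = q := by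
    intro g p q hq e
    rw [hρ, e]
    exact congrArg Fin.val (E.symm_apply_apply ⟨q, hq⟩)
  have hρu : ∀ u < 27, ∀ p : Fin 28, (ρ (ψ u) p : ℕ) = lp u p := fun u hu p =>
    hρeq _ _ _ (lp_range u hu p p.2).1 (htr u hu p p.2)
  have hρk : ∀ k < 8, ∀ p : Fin 28, (ρ (η k) p : ℕ) = hp true k p := fun k hk p =>
    hρeq _ _ _ (hp_range true k hk p p.2).1 (by rw [hhp k hk p p.2, hc])
  have hρw : ∀ p : Fin 28, (ρ w p : ℕ) = get5 wtab p := fun p => by
    rw [← hwtab p p.2]
    exact hρeq _ _ _ (hwn p p.2).1 (hwn p p.2).2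
  refine ⟨ρ, ?_, le_antisymm ?_ ((Subgroup.closure_le _).mpr ?_)⟩
  · rw [← MonoidHom.ker_eq_bot_iff]
    refine (IsSimpleGroup.eq_bot_or_eq_top_of_normal ρ.ker (MonoidHom.normal_ker ρ)).resolve_right fun h => hRP ?_
    have hw' : w ∈ ρ.ker := h ▸ Subgroup.mem_top w
    have h0 := hρeq w ⟨27, by norm_num⟩ 0 (by norm_num)
      (by show w • pt 27 = pt 0; rw [hpt27, hwP, hpt0])
    rw [show ρ w = 1 from hw'] at h0
    simp at h0
  · have hPmem : ∀ a ∈ (P : Subgroup G), ρ a ∈ Subgroup.closure genSet := fun a ha => by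
      obtain ⟨u, hu, rfl⟩ := F.surj a ha
      exact Subgroup.subset_closure (Or.inl ⟨u, hu, hρu u hu⟩)
    have hNmem : ∀ g : G, g • P = P → ρ g ∈ Subgroup.closure genSet := fun g hg => by
      obtain ⟨a, ha, h, hh, rfl⟩ := H.decompose hRP hg
      obtain ⟨k, hk, rfl⟩ := hηsurj h hh
      rw [map_mul]
      exact mul_mem (hPmem a ha) (Subgroup.subset_closure (Or.inr (Or.inl ⟨k, hk, hρk k hk⟩)))
    rintro _ ⟨g, rfl⟩
    rcases eq_or_ne (g • P) P with h | h
    · exact hNmem g h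
    · obtain ⟨a, ha, e⟩ := H.exists_smul hRP h
      have hfix : ((a * w)⁻¹ * g) • P = P := by
        rw [mul_smul]
        refine inv_smul_eq_iff.mpr ?_
        rw [mul_smul, hwP, e]
      rw [show g = a * w * ((a * w)⁻¹ * g) by group, map_mul, map_mul]
      exact mul_mem (mul_mem (hPmem a ha) (Subgroup.subset_closure (Or.inr (Or.inr hρw)))) (hNmem _ hfix)
  · rintro σ (⟨u, hu, hσ⟩ | ⟨k, hk, hσ⟩ | hσ)
    · exact ⟨ψ u, Equiv.ext fun p => Fin.ext ((hρu u hu p).trans (hσ p).symm)⟩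
    · exact ⟨η k, Equiv.ext fun p => Fin.ext ((hρk k hk p).trans (hσ p).symm)⟩
    · exact ⟨w, Equiv.ext fun p => Fin.ext ((hρw p).trans (hσ p).symm)⟩

end Hyp

/-- A simple group of order 6048 without elements of order 9 is determined up to isomorphism. -/
theorem nonempty_equiv {A : Type u} [Group A] [Finite A] [IsSimpleGroup A] {B : Type v} [Group B]
    [Finite B] [IsSimpleGroup B] (hA : Nat.card A = 6048) (hA9 : ∀ g : A, orderOf g ≠ 9)
    (hB : Nat.card B = 6048) (hB9 : ∀ g : B, orderOf g ≠ 9) : Nonempty (A ≃* B) := by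
  letI : Fintype A := Fintype.ofFinite A
  letI : Fintype B := Fintype.ofFinite B
  obtain ⟨S⟩ := exists_six hA
  obtain ⟨S'⟩ := exists_six hB
  obtain ⟨ρ, hρ, hr⟩ := Hyp.exists_embedding ⟨S, hA, hA9⟩
  obtain ⟨ρ', hρ', hr'⟩ := Hyp.exists_embedding ⟨S', hB, hB9⟩
  exact ⟨(MonoidHom.ofInjective hρ).trans ((MulEquiv.subgroupCongr (hr.trans hr'.symm)).trans
    (MonoidHom.ofInjective hρ').symm)⟩

end CfsgLib.UThreeUnique
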