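import Cfsg.Agent.Lib.UThreeUnique.Block

/-!
# No simple group of order 12096 has a Sylow 7-normalizer of order 42

The principal 7-block has six non-trivial rational characters; their values at an involution
inverting a Sylow 7-subgroup and at a central involution are contradictory.
-/

set_option autoImplicit false
set_option linter.unusedSectionVars false
set_option linter.style.haveILetI false

namespace CfsgLib.UThreeUnique

open CfsgLib CfsgLib.BrauerTuan

theorem key12_degX : ∀ d < 110, degOK 12096 7 1 1728 [7] d = true →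
    (d % 7 = 1 → d = 8 ∨ d = 36 ∨ d = 64) ∧ (d % 7 = 6 → d = 6 ∨ d = 27 ∨ d = 48) := by decide +kernel

theorem key12_five : ∀ a ∈ ([-5, -1, 3] : List ℤ), ∀ b ∈ ([-5, -1, 3] : List ℤ),
    ∀ c ∈ ([-5, -1, 3] : List ℤ), ¬ (a + b + c = 1 ∧ a * a + b * b + c * c = 27) := by decide +kernel

theorem key12_six : ∀ a ∈ ([-21, -17, -13, -9, -5, -1, 3, 7, 11, 15, 19, 23] : List ℤ),
    ∀ b ∈ ([-21, -17, -13, -9, -5, -1, 3, 7, 11, 15, 19, 23] : List ℤ),
    ∀ d ∈ ([-20, -16, -12, -8, -4, 0, 4, 8, 12, 16, 20] : List ℤ),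
    ∀ e ∈ ([-20, -16, -12, -8, -4, 0, 4, 8, 12, 16, 20] : List ℤ),
      108 - 4 * (a * a + b * b + (1 + d + e - a - b) * (1 + d + e - a - b)) + 3 * (d * d + e * e) ≠ 0 ∨
        576 ≤ a * a + b * b + (1 + d + e - a - b) * (1 + d + e - a - b) + (d * d + e * e) := by
  decide +kernel

theorem key12_shapeB : ((List.range 7).all fun a => (List.range 7).all fun b => (List.range 7).all fun c =>
    (List.range 7).all fun d => (List.range 7).all fun e =>
      decide (a + (b + (c + (d + e))) ≠ 6) || decide (8 * a + 36 * c + 64 * e + 1 ≠ 27 * b + 48 * d) ||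
        decide (12095 < 64 * a + 729 * b + 1296 * c + 2304 * d + 4096 * e) ||
        decide ((a, b, c, d, e) = (2, 3, 0, 0, 1)) || decide ((a, b, c, d, e) = (1, 3, 2, 0, 0))) = true := by
  decide +kernel

theorem key12_shape (a : ℕ) (ha : a < 7) (b : ℕ) (hb : b < 7) (c : ℕ) (hc : c < 7) (d : ℕ) (hd : d < 7)
    (e : ℕ) (he : e < 7) (h1 : a + (b + (c + (d + e))) = 6)
    (h2 : 8 * a + 36 * c + 64 * e + 1 = 27 * b + 48 * d)
    (h3 : 64 * a + 729 * b + 1296 * c + 2304 * d + 4096 * e ≤ 12095) :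
    (a = 2 ∧ b = 3 ∧ c = 0 ∧ d = 0 ∧ e = 1) ∨ (a = 1 ∧ b = 3 ∧ c = 2 ∧ d = 0 ∧ e = 0) := by
  have h := key12_shapeB
  simp only [List.all_eq_true, List.mem_range, Bool.or_eq_true, decide_eq_true_eq, Prod.mk.injEq] at h
  rcases h a ha b hb c hc d hd e he with (((h | h) | h) | h) | h
  · exact absurd h1 h
  · exact absurd h2 h
  · omega
  · exact Or.inl h
  · exact Or.inr h

open Cfsg
open scoped ComplexConjugate CfsgLib.Char
open scoped _root_.Classical

universe u

variable {G : Type u} [Group G] [Fintype G] [IsSimpleGroup G]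

set_option maxHeartbeats 800000 in
theorem false_12096 (hn : Nat.card G = 12096) : False := by
  haveI : Fact (Nat.Prime 7) := ⟨by norm_num⟩
  haveI : Fact (Nat.Prime 2) := ⟨Nat.prime_two⟩
  obtain ⟨k, T, h7⟩ := exists_ctx_of_orderBad hn 7 [7] 109 [(288, 6, 1)] (by norm_num) (by norm_num)
    (by norm_num) (by norm_num) (by norm_num) (by simp <;> norm_num) (by decide +kernel)
  simp only [List.mem_singleton, Prod.mk.injEq] at h7
  obtain ⟨hc, he, rfl⟩ := h7
  have hcomm := T.noncomm
  have hC := cent_eq T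
  have ht : T.D.t = 1 := by have := T.D.het; rw [he] at this; omega
  obtain ⟨ψ, hψ⟩ := Finset.card_eq_one.mp (T.D.card_Y.trans ht)
  have hψY : ψ ∈ T.D.Y := hψ ▸ Finset.mem_singleton_self _
  obtain ⟨v, hv, hv1⟩ : ∃ v, v ∈ (T.P : Subgroup G) ∧ v ≠ 1 := by
    rcases (T.P : Subgroup G).bot_or_exists_ne_one with h | h
    · have := T.card_P
      rw [h, Subgroup.card_bot] at this
      norm_num at this
    · exact h
  have hone : ¬ 7 ∣ orderOf (1 : G) := by rw [orderOf_one]; norm_num
  set σ : IrrCharacter G → ℤ := fun χ => if χ ∈ T.D.X then T.D.δ χ else -T.D.ε with hσ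
  have hσY : σ ψ = -T.D.ε := if_neg fun h => Finset.disjoint_left.mp T.D.disj h hψY
  have hσ1 : ∀ χ ∈ T.D.X ∪ T.D.Y, σ χ = 1 ∨ σ χ = -1 := fun χ _ => by
    simp only [hσ]
    split_ifs with h
    · exact T.D.hδ χ h
    · rcases T.D.hε with h | h <;> simp [h]
  have hval : ∀ χ ∈ T.D.X ∪ T.D.Y, ∀ u ∈ (T.P : Subgroup G), u ≠ 1 → (χ : G → ℂ) u = σ χ := by
    intro χ hχ u hu hu1
    rcases Finset.mem_union.mp hχ with h | h
    · simp only [hσ, if_pos h]
      have h' := T.D.valX χ h u hu hu1 1 (one_mem _) hone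
      rwa [mul_one] at h'
    · rw [hψ, Finset.mem_singleton] at h
      subst h
      rw [hσY]
      have := T.D.sumY u hu hu1
      rw [hψ, Finset.sum_singleton] at this
      rw [this]; push_cast; rfl
  have hσT : σ (Blocks.trivIrr G) = 1 := by
    have h := hval _ T.D.triv v hv hv1
    have h' : ((1 : ℤ) : ℂ) = (σ (Blocks.trivIrr G) : ℂ) := by rw [← h]; simp [Blocks.trivIrr]
    exact (Int.cast_injective h').symm
  set S := (T.D.X ∪ T.D.Y).erase (Blocks.trivIrr G) with hS
  have hScard : S.card = 6 := by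
    rw [hS, Finset.card_erase_of_mem T.D.triv, Finset.card_union_of_disjoint T.D.disj, T.D.card_X,
      T.D.card_Y, he, ht]
  have hmemS : ∀ χ ∈ S, χ ≠ Blocks.trivIrr G ∧ χ ∈ T.D.X ∪ T.D.Y := fun χ h => Finset.mem_erase.mp h
  have hrel : ∀ g, ¬ 7 ∣ orderOf g → 1 + ∑ χ ∈ S, (σ χ : ℂ) * (χ : G → ℂ) g = 0 := by
    intro g hg
    have h := T.D.rel ψ hψY g hg
    have e1 : ∑ χ ∈ T.D.X ∪ T.D.Y, (σ χ : ℂ) * (χ : G → ℂ) g = 0 := by
      rw [Finset.sum_union T.D.disj, hψ, Finset.sum_singleton, hσY,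
        Finset.sum_congr rfl (g := fun χ => (T.D.δ χ : ℂ) * (χ : G → ℂ) g) fun χ hχ => by
          simp only [hσ, if_pos hχ], ← h]
      push_cast
      ring
    rw [← Finset.add_sum_erase _ _ T.D.triv, hσT] at e1
    simpa [Blocks.trivIrr, hS] using e1
  -- the signed degrees
  have hec : T.D.e * (1 + T.D.n * 7) = 1728 := by rw [hc, he]
  have hdeg : ∀ χ ∈ S, σ χ * (charDegree (χ : G → ℂ) : ℤ) ∈ ([-6, 8, -27, 36, -48, 64] : List ℤ) := by
    intro χ hχ
    obtain ⟨hne, hχ'⟩ := hmemS χ hχ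
    obtain ⟨hok, hle⟩ := T.degOK_of hne
      (by rcases Finset.mem_union.mp hχ' with h | h
          · exact T.D.dvdX χ h
          · exact T.D.dvdY χ h)
      (fun w hw hw1 c hc' hcr => by
        rcases Finset.mem_union.mp hχ' with h | h
        · rw [T.D.valX χ h w hw hw1 c hc' hcr, hval χ hχ' w hw hw1]
          simp only [hσ, if_pos h]
        · exact T.D.valY χ h w hw hw1 c hc' hcr)
    rw [hec] at hok
    obtain ⟨k1, k6⟩ := key12_degX _ (Nat.lt_succ_of_le hle) hok
    have hmod : (7 : ℤ) ∣ (charDegree (χ : G → ℂ) : ℤ) - σ χ := by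
      rcases Finset.mem_union.mp hχ' with h | h
      · simp only [hσ, if_pos h]
        exact Int.modEq_iff_dvd.mp (T.D.degX χ h).symm
      · have hd := Int.modEq_iff_dvd.mp (T.D.degY χ h).symm
        rw [hψ, Finset.mem_singleton] at h
        subst h
        rw [he] at hd
        rw [hσY]
        obtain ⟨j, hj⟩ := hd
        exact ⟨j + T.D.ε, by push_cast at hj ⊢; linear_combination hj⟩
    simp only [List.mem_cons, List.not_mem_nil, or_false]
    rcases hσ1 χ hχ' with e | e <;> rw [e] at hmod ⊢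
    · rcases k1 (by omega) with e' | e' | e' <;> rw [e'] <;> norm_num
    · rcases k6 (by omega) with e' | e' | e' <;> rw [e'] <;> norm_num
  have hm4 : ∀ (χ : IrrCharacter G) (g : G) (a : ℤ), g * g = 1 → (χ : G → ℂ) g = a →
      (4 : ℤ) ∣ (charDegree (χ : G → ℂ) : ℤ) - a := by
    intro χ g a hg ha
    obtain ⟨j, hj⟩ := involution_value_mod_four hcomm (Char.isCharacter_of_isIrr χ.2) hg
      (BrauerReynolds.value_one χ)
    rw [ha] at hj
    have := Int.cast_injective (α := ℂ) hj
    exact ⟨j, by omega⟩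
  have hsumP : ∀ χ ∈ S, ∀ K : ℕ, (charDegree (χ : G → ℂ) : ℤ) + 6 * σ χ = 7 * (K : ℤ) →
      ∑ w : (T.P : Subgroup G), (χ : G → ℂ) (w : G) = (7 : ℕ) * (K : ℂ) := by
    intro χ hχ K hK
    rw [← Finset.add_sum_erase _ _ (Finset.mem_univ (1 : (T.P : Subgroup G))),
      Finset.sum_congr rfl (g := fun _ => (σ χ : ℂ)) (fun (w : (T.P : Subgroup G)) hw =>
        hval χ (hmemS χ hχ).2 w w.2 fun e => Finset.ne_of_mem_erase hw (Subtype.ext e)),
      Finset.sum_const, Finset.card_erase_of_mem (Finset.mem_univ _), Finset.card_univ,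
      ← Nat.card_eq_fintype_card, T.card_P, Subgroup.coe_one, BrauerReynolds.value_one]
    have hK' : ((charDegree (χ : G → ℂ) : ℂ)) + 6 * (σ χ : ℂ) = 7 * (K : ℂ) := by exact_mod_cast hK
    simp only [nsmul_eq_mul]
    push_cast
    linear_combination hK'
  -- no character of degree 6
  have hno6 : ∀ χ ∈ S, σ χ * (charDegree (χ : G → ℂ) : ℤ) ≠ -6 := by
    intro χ hχ h6
    set N := Subgroup.normalizer ((T.P : Subgroup G) : Set G) with hN
    have hNc : Nat.card N = 42 := by
      have h := N.card_mul_index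
      rw [show N.index = 288 from (Sylow.card_eq_index_normalizer T.P).symm.trans (T.D.card_sylow.trans hc),
        hn] at h
      omega
    obtain ⟨u, hu⟩ := exists_prime_orderOf_dvd_card' (G := N) 2 (by rw [hNc]; norm_num)
    have hu' : orderOf (u : G) = 2 := by rw [Subgroup.orderOf_coe, hu]
    have hu2 : (u : G) * u = 1 := by rw [← pow_two, ← hu', pow_orderOf_eq_one]
    have hinv : ∀ w ∈ (T.P : Subgroup G), (u : G) * w * (u : G)⁻¹ = w⁻¹ := by
      intro w hw
      have hw' := (Subgroup.mem_normalizer_iff.mp u.2 w).mp hw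
      have hPc : ∀ a ∈ (T.P : Subgroup G), ∀ b ∈ (T.P : Subgroup G), a * b = b * a := fun a ha b hb =>
        (Subgroup.mem_centralizer_iff.mp (hC.symm ▸ hb) a ha)
      set x := w * ((u : G) * w * (u : G)⁻¹) with hx
      have hxP : x ∈ (T.P : Subgroup G) := mul_mem hw hw'
      have hxu : (u : G) * x = x * u := by
        calc (u : G) * x = ((u : G) * w * (u : G)⁻¹) * (((u : G) * u) * w * ((u : G) * u)⁻¹) * u := by
              rw [hx]; group
          _ = ((u : G) * w * (u : G)⁻¹) * w * u := by rw [hu2]; group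
          _ = x * u := by rw [hPc _ hw' w hw]
      by_contra hne
      have hx1 : x ≠ 1 := fun e => hne (eq_inv_of_mul_eq_one_right e)
      have hzp : Subgroup.zpowers x = (T.P : Subgroup G) := by
        refine Subgroup.eq_of_le_of_card_ge (Subgroup.zpowers_le.mpr hxP) ?_
        have hd := Subgroup.orderOf_dvd_natCard _ hxP
        rw [T.card_P] at hd
        rw [Nat.card_zpowers, T.card_P, ((Nat.dvd_prime (by norm_num : Nat.Prime 7)).mp hd).resolve_left
          fun h => hx1 (orderOf_eq_one_iff.mp h)]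
      have huC : (u : G) ∈ Subgroup.centralizer ((T.P : Subgroup G) : Set G) := by
        refine Subgroup.mem_centralizer_iff.mpr fun q hq => ?_
        rw [← hzp] at hq
        obtain ⟨i, rfl⟩ := Subgroup.mem_zpowers_iff.mp hq
        exact ((show Commute (u : G) x from hxu).zpow_right i).symm.eq
      rw [hC] at huC
      have hd := Subgroup.orderOf_dvd_natCard _ huC
      rw [T.card_P, hu'] at hd
      norm_num at hd
    have hconst : ∀ w : (T.P : Subgroup G), (χ : G → ℂ) ((w : G) * u) = (χ : G → ℂ) u := by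
      intro w
      have h4 : ((w : G) ^ 4) ∈ (T.P : Subgroup G) := pow_mem w.2 4
      have h7w : (w : G) ^ 7 = 1 := by
        have := pow_card_eq_one' (G := (T.P : Subgroup G)) (x := w)
        rw [T.card_P] at this
        exact congrArg Subtype.val this
      have e : (w : G) ^ 4 * u * ((w : G) ^ 4)⁻¹ = w * u := by
        calc (w : G) ^ 4 * u * ((w : G) ^ 4)⁻¹ = (w : G) ^ 4 * ((u : G) * (w : G) ^ 4 * (u : G)⁻¹)⁻¹ * u := by
              group
          _ = (w : G) ^ 4 * (w : G) ^ 4 * u := by rw [hinv _ h4, inv_inv]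
          _ = w * u := by rw [← pow_add, show 4 + 4 = 7 + 1 by rfl, pow_add, h7w, one_mul, pow_one]
      rw [← e, Char.isClassFunction_of_isCharacter (Char.isCharacter_of_isIrr χ.2)]
    have hd6 : charDegree (χ : G → ℂ) = 6 ∧ σ χ = -1 := by
      rcases hσ1 χ (hmemS χ hχ).2 with e | e <;> rw [e] at h6 ⊢ <;> omega
    obtain ⟨a, ha, hab⟩ := exists_fixed_trace (Char.isCharacter_of_isIrr χ.2) (T.P : Subgroup G) T.card_P hu2
      u.2 hconst (K := 0) (hsumP χ hχ 0 (by rw [hd6.1, hd6.2]; norm_num))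
    have := hm4 χ u a hu2 ha
    rw [hd6.1] at this
    have : a = 0 := abs_nonpos_iff.mp (by exact_mod_cast hab)
    omega
  -- the multiset of degrees
  set f : IrrCharacter G → ℤ := fun χ => σ χ * (charDegree (χ : G → ℂ) : ℤ) with hf
  set S8 := S.filter fun χ => f χ = 8 with hS8
  set S27 := S.filter fun χ => f χ = -27 with hS27
  set S36 := S.filter fun χ => f χ = 36 with hS36
  set S48 := S.filter fun χ => f χ = -48 with hS48
  set S64 := S.filter fun χ => f χ = 64 with hS64
  have hsplit : ∀ {M : Type} [AddCommMonoid M] (F : IrrCharacter G → M), ∑ χ ∈ S, F χ =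
      ∑ χ ∈ S8, F χ + (∑ χ ∈ S27, F χ + (∑ χ ∈ S36, F χ + (∑ χ ∈ S48, F χ + ∑ χ ∈ S64, F χ))) := by
    intro M _ F
    rw [← Finset.sum_fiberwise_of_maps_to (s := S) (t := ({8, -27, 36, -48, 64} : Finset ℤ)) (g := f)
      (fun χ hχ => by
        have h := hdeg χ hχ
        have h6 := hno6 χ hχ
        simp only [List.mem_cons, List.not_mem_nil, or_false] at h
        simp only [Finset.mem_insert, Finset.mem_singleton, hf]
        tauto) F,
      Finset.sum_insert (by decide), Finset.sum_insert (by decide), Finset.sum_insert (by decide),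
      Finset.sum_insert (by decide), Finset.sum_singleton]
  have hfval : ∀ (c : ℤ) (χ : IrrCharacter G), χ ∈ S.filter (fun χ => f χ = c) →
      χ ∈ S ∧ f χ = c := fun c χ h => Finset.mem_filter.mp h
  have hcount : S8.card + (S27.card + (S36.card + (S48.card + S64.card))) = 6 := by
    have := hsplit (fun _ => (1 : ℕ))
    simp only [Finset.sum_const, smul_eq_mul, mul_one] at this
    rw [← hScard, this]
  have hsum : ∑ χ ∈ S, f χ = -1 := by
    have h := hrel 1 hone
    simp only [BrauerReynolds.value_one] at h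
    have h' : ((∑ χ ∈ S, f χ : ℤ) : ℂ) = ((-1 : ℤ) : ℂ) := by
      simp only [hf]
      push_cast
      linear_combination h
    exact Int.cast_injective h'
  have hsq : ∑ χ ∈ S, f χ * f χ ≤ 12095 := by
    have h := Char.sum_sq_degree (G := G)
    simp only [BrauerReynolds.value_one, ← Nat.cast_pow, ← Nat.cast_sum, Nat.cast_inj] at h
    rw [hn] at h
    have hle : ∑ χ ∈ insert (Blocks.trivIrr G) S, charDegree (χ : G → ℂ) ^ 2 ≤ 12096 :=
      h ▸ Finset.sum_le_sum_of_subset (Finset.subset_univ _)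
    rw [Finset.sum_insert (Finset.notMem_erase _ _), BrauerReynolds.degree_triv] at hle
    have e : ∑ χ ∈ S, f χ * f χ = ((∑ χ ∈ S, charDegree (χ : G → ℂ) ^ 2 : ℕ) : ℤ) := by
      push_cast
      refine Finset.sum_congr rfl fun χ hχ => ?_
      rcases hσ1 χ (hmemS χ hχ).2 with e | e <;> simp only [hf, e] <;> ring
    rw [e]
    rw [one_pow, ← hS] at hle
    have : ((∑ χ ∈ S, charDegree (χ : G → ℂ) ^ 2 : ℕ) : ℤ) ≤ ((12095 : ℕ) : ℤ) := by
      exact_mod_cast (by omega : ∑ χ ∈ S, charDegree (χ : G → ℂ) ^ 2 ≤ 12095)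
    exact_mod_cast this
  have hconstSum : ∀ (c : ℤ) (F : ℤ → ℤ), ∑ χ ∈ S.filter (fun χ => f χ = c), F (f χ) =
      ((S.filter (fun χ => f χ = c)).card : ℤ) * F c := by
    intro c F
    rw [Finset.sum_congr rfl (g := fun _ => F c) (fun χ hχ => by rw [(hfval c χ hχ).2]), Finset.sum_const,
      nsmul_eq_mul]
  have hshape : (S8.card = 2 ∧ S27.card = 3 ∧ S36.card = 0 ∧ S48.card = 0 ∧ S64.card = 1) ∨
      (S8.card = 1 ∧ S27.card = 3 ∧ S36.card = 2 ∧ S48.card = 0 ∧ S64.card = 0) := by
    have e1 := hsplit f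
    rw [hsum, hconstSum 8 (fun x => x), hconstSum (-27) (fun x => x), hconstSum 36 (fun x => x),
      hconstSum (-48) (fun x => x), hconstSum 64 (fun x => x)] at e1
    have e2 := hsplit (fun χ => f χ * f χ)
    rw [hconstSum 8 (fun x => x * x), hconstSum (-27) (fun x => x * x), hconstSum 36 (fun x => x * x),
      hconstSum (-48) (fun x => x * x), hconstSum 64 (fun x => x * x)] at e2
    rw [← hS8, ← hS27, ← hS36, ← hS48, ← hS64] at e1 e2
    exact key12_shape S8.card (by omega) S27.card (by omega) S36.card (by omega) S48.card (by omega)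
      S64.card (by omega) hcount (by omega) (by omega)
  have hdat : ∀ (c : ℤ) (d : ℕ) (s : ℤ), (s = 1 ∨ s = -1) → c = s * d → 0 < d →
      ∀ χ ∈ S.filter (fun χ => f χ = c), χ ∈ S ∧ charDegree (χ : G → ℂ) = d ∧ σ χ = s := by
    intro c d s hs hc hd χ hχ
    obtain ⟨h1, h2⟩ := hfval c χ hχ
    refine ⟨h1, ?_⟩
    simp only [hf] at h2
    rcases hσ1 χ (hmemS χ h1).2 with e | e <;> rw [e] at h2 ⊢ <;> rcases hs with rfl | rfl <;> omega
  -- a central involution
  obtain ⟨g, hg2, hg1, h64, hodd⟩ := exists_central_involution (G := G) (b := 6) (by norm_num)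
    (hn ▸ by norm_num)
  have hreg : ¬ 7 ∣ orderOf g := fun h => by
    have h2 : orderOf g ∣ 2 := orderOf_dvd_of_pow_eq_one (by rw [pow_two, hg2])
    have := Nat.le_of_dvd (by norm_num) (h.trans h2)
    omega
  choose A hA using fun χ : IrrCharacter G => exists_int_of_involution (Char.isCharacter_of_isIrr χ.2) hg2
  set C := Nat.card (Subgroup.centralizer ({g} : Set G)) with hCdef
  have hCle : C ≤ 576 := by
    have h7' := not_dvd_centralizer T.P T.card_P (by rw [T.card_C, mul_one]) hg1 hreg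
    have hd : C ∣ 1728 * 7 := by
      rw [show 1728 * 7 = Nat.card G by rw [hn]]
      exact Subgroup.card_subgroup_dvd_card _
    have hd' : C ∣ 1728 := ((Nat.Prime.coprime_iff_not_dvd (by norm_num)).mpr h7').symm.dvd_of_dvd_mul_right hd
    obtain ⟨a, ha⟩ := h64
    have ha' : a ∣ 27 := by
      rw [ha, show 1728 = 2 ^ 6 * 27 by norm_num] at hd'
      exact Nat.dvd_of_mul_dvd_mul_left (by norm_num) hd'
    have hne : C ≠ 1728 := fun e => by
      have hH : Subgroup.centralizer ({g} : Set G) ≠ ⊤ := fun htop => by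
        have : C = 12096 := by rw [hCdef, htop, Subgroup.card_top, hn]
        omega
      have h1 := SmallOrder.badIndex_eq_false hcomm hH
      have h2 := (Subgroup.centralizer ({g} : Set G)).card_mul_index
      rw [← hCdef, e, hn] at h2
      rw [hn, show (Subgroup.centralizer ({g} : Set G)).index = 7 by omega] at h1
      exact absurd h1 (by decide +kernel)
    have h27 : ∀ a : ℕ, a ∣ 27 → a = 1 ∨ a = 3 ∨ a = 9 ∨ a = 27 := fun a h => by
      have := Nat.le_of_dvd (by norm_num) h
      interval_cases a <;> first | omega | norm_num at h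
    rcases h27 a ha' with e | e | e | e <;> rw [e] at ha <;> omega
  have hzero : ∀ χ ∈ S, (charDegree (χ : G → ℂ) = 8 ∨ charDegree (χ : G → ℂ) = 64) → A χ = 0 := by
    intro χ hχ hd
    have h0 := eq_zero_of_coprime hcomm (hmemS χ hχ).1 hg1 (by
      have hcop : Nat.Coprime 2 (Subgroup.centralizer ({g} : Set G)).index :=
        Nat.prime_two.coprime_iff_not_dvd.mpr hodd
      rcases hd with e | e <;> rw [e]
      · exact hcop.pow_left 3
      · exact hcop.pow_left 6)
    rw [hA] at h0
    exact_mod_cast h0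
  have hz8 : ∀ χ ∈ S8, A χ = 0 := fun χ hχ => by
    obtain ⟨h1, h2, -⟩ := hdat 8 8 1 (Or.inl rfl) (by norm_num) (by norm_num) χ hχ
    exact hzero χ h1 (Or.inl h2)
  have hz64 : ∀ χ ∈ S64, A χ = 0 := fun χ hχ => by
    obtain ⟨h1, h2, -⟩ := hdat 64 64 1 (Or.inl rfl) (by norm_num) (by norm_num) χ hχ
    exact hzero χ h1 (Or.inr h2)
  have h27d := hdat (-27) 27 (-1) (Or.inr rfl) (by norm_num) (by norm_num)
  have h36d := hdat 36 36 1 (Or.inl rfl) (by norm_num) (by norm_num)
  have hS48e : S48 = ∅ := Finset.card_eq_zero.mp (by omega)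
  have hlin : (1 : ℤ) - ∑ χ ∈ S27, A χ + ∑ χ ∈ S36, A χ = 0 := by
    have h := hrel g hreg
    rw [hsplit, hS48e, Finset.sum_empty,
      Finset.sum_eq_zero (s := S8) (fun χ hχ => by rw [hA, hz8 χ hχ]; simp),
      Finset.sum_eq_zero (s := S64) (fun χ hχ => by rw [hA, hz64 χ hχ]; simp),
      Finset.sum_congr (s₁ := S27) rfl (g := fun χ => -(A χ : ℂ)) (fun χ hχ => by
        rw [hA, (h27d χ hχ).2.2]; push_cast; ring),
      Finset.sum_congr (s₁ := S36) rfl (g := fun χ => (A χ : ℂ)) (fun χ hχ => by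
        rw [hA, (h36d χ hχ).2.2]; push_cast; ring)] at h
    have h' : ((1 - ∑ χ ∈ S27, A χ + ∑ χ ∈ S36, A χ : ℤ) : ℂ) = ((0 : ℤ) : ℂ) := by
      push_cast
      rw [Finset.sum_neg_distrib] at h
      linear_combination h
    exact Int.cast_injective h'
  set Q27 := ∑ χ ∈ S27, A χ * A χ with hQ27
  set Q36 := ∑ χ ∈ S36, A χ * A χ with hQ36
  have hcol : 1 + Q27 + Q36 ≤ (C : ℤ) := by
    have h := Char.column_orthogonality g g
    rw [if_pos (IsConj.refl g)] at h
    simp only [hA, map_intCast] at h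
    have h' : (∑ χ, A χ * A χ : ℤ) = (C : ℤ) := by
      have : ((∑ χ, A χ * A χ : ℤ) : ℂ) = ((C : ℤ) : ℂ) := by push_cast; exact h
      exact Int.cast_injective this
    have hT : A (Blocks.trivIrr G) = 1 := by
      have := hA (Blocks.trivIrr G)
      simp [Blocks.trivIrr] at this
      exact_mod_cast this.symm
    have hdisj : Disjoint S27 S36 := Finset.disjoint_filter.mpr fun χ _ h1 h2 => by omega
    have hnot : Blocks.trivIrr G ∉ S27 ∪ S36 := fun h => by
      rcases Finset.mem_union.mp h with h | h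
      · exact (hmemS _ (h27d _ h).1).1 rfl
      · exact (hmemS _ (h36d _ h).1).1 rfl
    rw [← h']
    refine le_trans (le_of_eq ?_) (Finset.sum_le_sum_of_subset_of_nonneg
      (Finset.subset_univ (insert (Blocks.trivIrr G) (S27 ∪ S36))) (fun χ _ _ => mul_self_nonneg _))
    rw [Finset.sum_insert hnot, Finset.sum_union hdisj, hT, hQ27, hQ36]
    ring
  -- the class product
  have hsumS : ∑ χ : IrrCharacter G,
      (χ : G → ℂ) g * (χ : G → ℂ) g * conj ((χ : G → ℂ) v) / (χ : G → ℂ) 1 =
        1 - (Q27 : ℂ) / 27 + (Q36 : ℂ) / 36 := by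
    rw [← Finset.sum_subset (Finset.subset_univ (T.D.X ∪ T.D.Y)) (fun ξ _ hξ => by
      rw [T.D.out hC ξ (fun h => hξ (Finset.mem_union_left _ h)) (fun h => hξ (Finset.mem_union_right _ h)) v hv hv1,
        map_zero, mul_zero, zero_div]),
      ← Finset.add_sum_erase _ _ T.D.triv, ← hS,
      Finset.sum_congr (s₁ := S) rfl (g := fun χ => (A χ : ℂ) * A χ * (σ χ : ℂ) / (charDegree (χ : G → ℂ) : ℂ))
        (fun χ hχ => by
          rw [hA, hval χ (hmemS χ hχ).2 v hv hv1, map_intCast, BrauerReynolds.value_one]),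
      hsplit, hS48e, Finset.sum_empty,
      Finset.sum_eq_zero (s := S8) (fun χ hχ => by rw [hz8 χ hχ]; simp),
      Finset.sum_eq_zero (s := S64) (fun χ hχ => by rw [hz64 χ hχ]; simp),
      Finset.sum_congr (s₁ := S27) rfl (g := fun χ => -((A χ * A χ : ℤ) : ℂ) / 27) (fun χ hχ => by
        rw [(h27d χ hχ).2.1, (h27d χ hχ).2.2]; push_cast; ring),
      Finset.sum_congr (s₁ := S36) rfl (g := fun χ => ((A χ * A χ : ℤ) : ℂ) / 36) (fun χ hχ => by
        rw [(h36d χ hχ).2.1, (h36d χ hχ).2.2]; push_cast; ring),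
      ← Finset.sum_div, ← Finset.sum_div, Finset.sum_neg_distrib, hQ27, hQ36]
    simp only [Blocks.trivIrr]
    push_cast
    simp only [map_one, mul_one, div_one]
    ring
  have hnum := Char.class_mult g g v
  rw [hsumS] at hnum
  have hmul : (C : ℂ) * (Subgroup.centralizer ({g} : Set G)).index = (Nat.card G : ℂ) := by
    exact_mod_cast (Subgroup.centralizer ({g} : Set G)).card_mul_index
  by_cases hne : Nonempty {pr : G × G // IsConj g pr.1 ∧ IsConj g pr.2 ∧ pr.1 * pr.2 = v}
  · obtain ⟨hcnt, u, hu2, huN, hcl⟩ := pairs_of_nonempty T.card_P hC (by norm_num) hg2 hv hv1 hne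
    have hb : ∀ χ ∈ S36, A χ * A χ ≤ 16 := by
      intro χ hχ
      obtain ⟨h1, h2, h3⟩ := h36d χ hχ
      obtain ⟨a, ha, hab⟩ := exists_fixed_trace (Char.isCharacter_of_isIrr χ.2) (T.P : Subgroup G) T.card_P hu2
        huN (hcl _ (Char.isCharacter_of_isIrr χ.2)).2 (K := 6) (hsumP χ h1 6 (by rw [h2, h3]; norm_num))
      have hd4 := hm4 χ u a hu2 ha
      rw [← (hcl _ (Char.isCharacter_of_isIrr χ.2)).1, hA] at ha
      have e : A χ = a := by exact_mod_cast ha
      rw [h2] at hd4
      obtain ⟨l1, l2⟩ := abs_le.mp hab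
      push_cast at l1 l2
      have : a = -4 ∨ a = 0 ∨ a = 4 := by omega
      rcases this with e' | e' | e' <;> rw [e, e'] <;> norm_num
    have hQle : Q36 ≤ 32 := by
      have h := Finset.sum_le_card_nsmul S36 (fun χ => A χ * A χ) 16 hb
      rw [← hQ36, nsmul_eq_mul] at h
      have : (S36.card : ℤ) ≤ 2 := by
        rcases hshape with ⟨-, -, e, -, -⟩ | ⟨-, -, e, -, -⟩ <;> omega
      nlinarith
    have hQ0 : 0 ≤ Q27 := Finset.sum_nonneg fun χ _ => mul_self_nonneg _
    rw [hcnt] at hnum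
    have hG0 : (Nat.card G : ℂ) ≠ 0 := Nat.cast_ne_zero.mpr Nat.card_pos.ne'
    have h1 : ((C : ℂ)) ^ 2 * (7 : ℕ) = (Nat.card G : ℂ) * (1 - (Q27 : ℂ) / 27 + (Q36 : ℂ) / 36) := by
      calc ((C : ℂ)) ^ 2 * (7 : ℕ) = ((C : ℂ) * (Subgroup.centralizer ({g} : Set G)).index) *
            ((C : ℂ) * (Subgroup.centralizer ({g} : Set G)).index) / (Nat.card G : ℂ) *
              (1 - (Q27 : ℂ) / 27 + (Q36 : ℂ) / 36) := by rw [hnum]; ring
        _ = _ := by rw [hmul, mul_div_assoc, div_self hG0, mul_one]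
    rw [hn] at h1
    have h2 : (((C : ℤ) * C : ℤ) : ℂ) = ((1728 - 64 * Q27 + 48 * Q36 : ℤ) : ℂ) := by
      push_cast at h1 ⊢
      linear_combination (1 / 7 : ℂ) * h1
    have h2' := Int.cast_injective h2
    have h64' : (64 : ℤ) ≤ C := by exact_mod_cast Nat.le_of_dvd Nat.card_pos (show 64 ∣ C from h64)
    nlinarith
  · rw [not_nonempty_iff] at hne
    rw [Nat.card_of_isEmpty, Nat.cast_zero, eq_comm] at hnum
    have hidx : ((Subgroup.centralizer ({g} : Set G)).index : ℂ) ≠ 0 :=
      Nat.cast_ne_zero.mpr Subgroup.index_ne_zero_of_finite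
    have h0 := (mul_eq_zero.mp hnum).resolve_left (div_ne_zero (mul_ne_zero hidx hidx)
      (Nat.cast_ne_zero.mpr Nat.card_pos.ne'))
    have h0' : ((108 - 4 * Q27 + 3 * Q36 : ℤ) : ℂ) = ((0 : ℤ) : ℂ) := by
      push_cast
      linear_combination 108 * h0
    have hZ := Int.cast_injective h0'
    have hbnd : ∀ x : ℤ, x * x ≤ 575 → -23 ≤ x ∧ x ≤ 23 := fun x hx => by
      constructor <;> nlinarith [sq_nonneg (x - 24), sq_nonneg (x + 24)]
    have hm27 : ∀ χ ∈ S27, (4 : ℤ) ∣ 27 - A χ := fun χ hχ => by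
      have := hm4 χ g (A χ) hg2 (hA χ)
      rwa [(h27d χ hχ).2.1] at this
    have hm36 : ∀ χ ∈ S36, (4 : ℤ) ∣ 36 - A χ := fun χ hχ => by
      have := hm4 χ g (A χ) hg2 (hA χ)
      rwa [(h36d χ hχ).2.1] at this
    rcases hshape with ⟨-, e27, e36, -, -⟩ | ⟨-, e27, e36, -, -⟩
    · obtain ⟨a, b, c, hab, hac, hbc, habc⟩ := Finset.card_eq_three.mp e27
      have h36e := Finset.card_eq_zero.mp e36
      rw [habc, h36e, Finset.sum_empty, Finset.sum_insert (by simp [hab, hac]), Finset.sum_pair hbc] at hlin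
      rw [hQ27, hQ36, habc, h36e, Finset.sum_empty, Finset.sum_insert (by simp [hab, hac]),
        Finset.sum_pair hbc] at hZ
      have ma := hm27 a (by rw [habc]; simp)
      have mb := hm27 b (by rw [habc]; simp)
      have mc := hm27 c (by rw [habc]; simp)
      have h5 : ∀ x : ℤ, (4 : ℤ) ∣ 27 - x → x * x ≤ 27 → x ∈ ([-5, -1, 3] : List ℤ) := fun x h1 h2 => by
        have : -5 ≤ x ∧ x ≤ 5 := by constructor <;> nlinarith
        simp only [List.mem_cons, List.not_mem_nil, or_false]; omega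
      have := mul_self_nonneg (A a); have := mul_self_nonneg (A b); have := mul_self_nonneg (A c)
      exact key12_five _ (h5 _ ma (by linarith)) _ (h5 _ mb (by linarith)) _ (h5 _ mc (by linarith))
        ⟨by linarith, by linarith⟩
    · obtain ⟨a, b, c, hab, hac, hbc, habc⟩ := Finset.card_eq_three.mp e27
      obtain ⟨d, e, hde, hde'⟩ := Finset.card_eq_two.mp e36
      rw [habc, hde', Finset.sum_pair hde, Finset.sum_insert (by simp [hab, hac]), Finset.sum_pair hbc] at hlin
      rw [hQ27, hQ36, habc, hde', Finset.sum_pair hde, Finset.sum_insert (by simp [hab, hac]),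
        Finset.sum_pair hbc] at hZ hcol
      have hCle' : (C : ℤ) ≤ 576 := by exact_mod_cast hCle
      have := mul_self_nonneg (A a); have := mul_self_nonneg (A b); have := mul_self_nonneg (A c)
      have := mul_self_nonneg (A d); have := mul_self_nonneg (A e)
      obtain ⟨a1, a2⟩ := hbnd (A a) (by linarith)
      obtain ⟨b1, b2⟩ := hbnd (A b) (by linarith)
      obtain ⟨d1, d2⟩ := hbnd (A d) (by linarith)
      obtain ⟨e1, e2⟩ := hbnd (A e) (by linarith)
      have ma := hm27 a (by rw [habc]; simp)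
      have mb := hm27 b (by rw [habc]; simp)
      have md := hm36 d (by rw [hde']; simp)
      have me := hm36 e (by rw [hde']; simp)
      have hc' : A c = 1 + A d + A e - A a - A b := by linarith
      rw [hc'] at hZ hcol
      rcases key12_six (A a) (by simp only [List.mem_cons, List.not_mem_nil, or_false]; omega)
        (A b) (by simp only [List.mem_cons, List.not_mem_nil, or_false]; omega)
        (A d) (by simp only [List.mem_cons, List.not_mem_nil, or_false]; omega)
        (A e) (by simp only [List.mem_cons, List.not_mem_nil, or_false]; omega) with h | h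
      · exact h (by linarith)
      · linarith

end CfsgLib.UThreeUnique
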