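import Cfsg.Agent.Lib.UThreeUnique.Recognize
import Cfsg.Agent.Lib.UThreeUnique.Twelve
import Cfsg.Agent.Lib.GTwoTwo.Main
import Cfsg.Agent.Lib.GTwoSpec.Main
import Cfsg.Agent.Lib.MinNormal.SimpleConjugates
import Cfsg.Agent.Lib.Classical.UnitarySimple
import Cfsg.Agent.Lib.FourOrbit.Basic
import Cfsg.Agent.S0815
import Cfsg.Agent.S0976
import Cfsg.Agent.S1017
import Cfsg.Agent.S1059

/-!
# Groups of order 12096 without elements of order 9, 14 and 21
-/

set_option autoImplicit false
set_option linter.unusedSectionVars false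
set_option linter.style.haveILetI false
set_option maxHeartbeats 400000

namespace CfsgLib.UThreeUnique

open Cfsg
open Cfsg.Lie

universe u

section order

theorem key_small : ∀ d < 1729, 1728 % d = 0 → d % 7 = 1 → d = 1 ∨ d = 8 ∨ d = 36 ∨ d = 64 ∨ d = 288 := by
  decide +kernel

variable {G : Type u} [Group G] [Finite G]
  (hn : Nat.card G = 12096) (h14 : ∀ g : G, orderOf g ≠ 14) (h21 : ∀ g : G, orderOf g ≠ 21)
include hn h14 h21

theorem card_sylow_seven (P : Sylow 7 G) : Nat.card (P : Subgroup G) = 7 := by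
  haveI : Fact (Nat.Prime 7) := ⟨by norm_num⟩
  rw [P.card_eq_multiplicity, hn, show (12096 : ℕ) = 7 ^ 1 * 1728 by norm_num,
    Nat.factorization_mul (by norm_num) (by norm_num), Finsupp.add_apply,
    Nat.Prime.factorization_pow (by norm_num), Finsupp.single_eq_same,
    Nat.factorization_eq_zero_of_not_dvd (by norm_num : ¬ 7 ∣ 1728)]
  norm_num

theorem cent_seven (P : Sylow 7 G) :
    Subgroup.centralizer ((P : Subgroup G) : Set G) = (P : Subgroup G) := by
  haveI : Fact (Nat.Prime 7) := ⟨by norm_num⟩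
  have hP := card_sylow_seven hn h14 h21 P
  haveI : IsCyclic (P : Subgroup G) := isCyclic_of_prime_card hP
  set C := Subgroup.centralizer ((P : Subgroup G) : Set G) with hC
  have hle : (P : Subgroup G) ≤ C := fun a ha => Subgroup.mem_centralizer_iff.mpr fun c hc =>
    congrArg Subtype.val ((IsCyclic.commGroup (α := (P : Subgroup G))).mul_comm ⟨c, hc⟩ ⟨a, ha⟩)
  obtain ⟨v, hv⟩ := exists_prime_orderOf_dvd_card' (G := (P : Subgroup G)) 7 (by rw [hP])
  have hv7 : orderOf (v : G) = 7 := by rw [Subgroup.orderOf_coe, hv]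
  have key : ∀ q : ℕ, q.Prime → q ∣ Nat.card C → q = 7 := by
    intro q hq hqC
    haveI := Fact.mk hq
    obtain ⟨c, hc⟩ := exists_prime_orderOf_dvd_card' q hqC
    by_contra hne
    have hc' : orderOf (c : G) = q := by rw [Subgroup.orderOf_coe, hc]
    have hcomm : Commute (v : G) c := Subgroup.mem_centralizer_iff.mp c.2 v v.2
    have hco : (orderOf (v : G)).Coprime (orderOf (c : G)) := by
      rw [hv7, hc']
      exact (Nat.coprime_primes (by norm_num) hq).mpr fun e => hne e.symm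
    have ho := hcomm.orderOf_mul_eq_mul_orderOf_of_coprime hco
    rw [hv7, hc'] at ho
    have hq23 : q = 2 ∨ q = 3 := by
      have hd : q ∣ 12096 := hn ▸ hc' ▸ orderOf_dvd_natCard (c : G)
      rw [show (12096 : ℕ) = 2 ^ 6 * (3 ^ 3 * 7) by norm_num] at hd
      rcases (Nat.Prime.dvd_mul hq).mp hd with h | h
      · exact Or.inl ((Nat.prime_dvd_prime_iff_eq hq Nat.prime_two).mp (hq.dvd_of_dvd_pow h))
      · rcases (Nat.Prime.dvd_mul hq).mp h with h | h
        · exact Or.inr ((Nat.prime_dvd_prime_iff_eq hq Nat.prime_three).mp (hq.dvd_of_dvd_pow h))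
        · exact absurd ((Nat.prime_dvd_prime_iff_eq hq (by norm_num)).mp h) hne
    rcases hq23 with rfl | rfl
    · exact h14 _ ho
    · exact h21 _ ho
  have hd : Nat.card C ∣ 2 ^ 6 * 3 ^ 3 * 7 := by
    rw [show 2 ^ 6 * 3 ^ 3 * 7 = Nat.card G by rw [hn]; norm_num]
    exact Subgroup.card_subgroup_dvd_card C
  have h23 : (2 ^ 6 * 3 ^ 3).Coprime (Nat.card C) :=
    Nat.Coprime.mul_left
      ((Nat.prime_two.coprime_iff_not_dvd.mpr fun h => absurd (key 2 Nat.prime_two h) (by norm_num)).pow_left 6)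
      ((Nat.prime_three.coprime_iff_not_dvd.mpr fun h => absurd (key 3 Nat.prime_three h) (by norm_num)).pow_left 3)
  refine (Subgroup.eq_of_le_of_card_ge hle ?_).symm
  rw [hP]
  exact Nat.le_of_dvd (by norm_num) (h23.symm.dvd_of_dvd_mul_left hd)

theorem card_normalizer_seven (P : Sylow 7 G) :
    Nat.card (Subgroup.normalizer ((P : Subgroup G) : Set G)) = 42 := by
  haveI : Fact (Nat.Prime 7) := ⟨by norm_num⟩
  have hP := card_sylow_seven hn h14 h21 P
  set N := Subgroup.normalizer ((P : Subgroup G) : Set G) with hN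
  haveI : IsCyclic (P : Subgroup G) := isCyclic_of_prime_card hP
  have hd : Nat.card N ∣ 42 := by
    have key := Subgroup.card_dvd_of_injective _
      (QuotientGroup.kerLift_injective (P : Subgroup G).normalizerMonoidHom)
    rw [IsCyclic.card_mulAut, hP, show Nat.totient 7 = 6 from Nat.totient_prime (by norm_num : Nat.Prime 7)] at key
    have hk : Nat.card (P : Subgroup G).normalizerMonoidHom.ker = 7 := by
      rw [Subgroup.normalizerMonoidHom_ker, cent_seven hn h14 h21 P,
        Nat.card_congr (Subgroup.subgroupOfEquivOfLe (Subgroup.le_normalizer (H := (P : Subgroup G)))).toEquiv, hP]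
    have h1 := Subgroup.card_eq_card_quotient_mul_card_subgroup (P : Subgroup G).normalizerMonoidHom.ker
    rw [hk] at h1
    rw [hN, h1, show 42 = 6 * 7 from rfl]
    exact Nat.mul_dvd_mul_right key 7
  have hmod := card_sylow_modEq_one 7 G
  rw [show Nat.card (Sylow 7 G) = N.index from Sylow.card_eq_index_normalizer P, Nat.ModEq] at hmod
  have h := N.card_mul_index
  rw [hn] at h
  have h7 : 7 ∣ Nat.card N := hP ▸ Subgroup.card_dvd_of_le Subgroup.le_normalizer
  obtain ⟨j, hj⟩ := h7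
  rw [hj] at hd
  have hle : j ≤ 6 := by
    have := Nat.le_of_dvd (by norm_num) hd
    omega
  rw [hj] at h ⊢
  interval_cases j <;> omega

theorem exists_sylow_eq {x : G} (hx : orderOf x = 7) :
    ∃ P : Sylow 7 G, (P : Subgroup G) = Subgroup.zpowers x := by
  haveI : Fact (Nat.Prime 7) := ⟨by norm_num⟩
  have hc : Nat.card (Subgroup.zpowers x) = 7 := by rw [Nat.card_zpowers, hx]
  obtain ⟨P, hP⟩ := (IsPGroup.of_card (n := 1) (by rw [hc, pow_one]) :
    IsPGroup 7 (Subgroup.zpowers x)).exists_le_sylow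
  exact ⟨P, (Subgroup.eq_of_le_of_card_ge hP (by rw [hc, card_sylow_seven hn h14 h21 P])).symm⟩

theorem dvd_of_seven_dvd (K : Subgroup G) [K.Normal] (h7 : 7 ∣ Nat.card K) :
    288 ∣ Nat.card K := by
  haveI : Fact (Nat.Prime 7) := ⟨by norm_num⟩
  obtain ⟨x, hx⟩ := exists_prime_orderOf_dvd_card' (G := K) 7 h7
  rw [← Subgroup.orderOf_coe] at hx
  obtain ⟨P, hP⟩ := exists_sylow_eq hn h14 h21 hx
  have hsup := Sylow.normalizer_sup_eq_top' (N := K) P (by rw [hP]; exact Subgroup.zpowers_le.mpr x.2)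
  have hsur : Function.Surjective ((QuotientGroup.mk' K).comp
      (Subgroup.normalizer ((P : Subgroup G) : Set G)).subtype) := by
    rw [← MonoidHom.range_eq_top, MonoidHom.range_comp, Subgroup.range_subtype]
    have h := congrArg (Subgroup.map (QuotientGroup.mk' K)) hsup
    rwa [Subgroup.map_sup, (Subgroup.map_eq_bot_iff _).mpr (QuotientGroup.ker_mk' K).ge, sup_bot_eq,
      Subgroup.map_top_of_surjective _ (QuotientGroup.mk'_surjective K)] at h
  have h := Subgroup.card_dvd_of_surjective _ hsur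
  rw [card_normalizer_seven hn h14 h21 P] at h
  obtain ⟨j, hj⟩ := h
  have h1 := Subgroup.card_eq_card_quotient_mul_card_subgroup K
  rw [hn] at h1
  exact ⟨j, by nlinarith⟩

theorem modEq_of_not_seven_dvd (K : Subgroup G) [K.Normal] (h7 : ¬ 7 ∣ Nat.card K) :
    Nat.card K % 7 = 1 := by
  haveI : Fact (Nat.Prime 7) := ⟨by norm_num⟩
  obtain ⟨P⟩ : Nonempty (Sylow 7 G) := inferInstance
  letI : MulAction (P : Subgroup G) K :=
    MulAction.compHom K ((MulAut.conjNormal (H := K)).comp (P : Subgroup G).subtype)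
  have hPp : IsPGroup 7 (P : Subgroup G) := P.isPGroup'
  have h := hPp.card_modEq_card_fixedPoints K
  have hfix : MulAction.fixedPoints (P : Subgroup G) K = {1} := by
    ext k
    refine ⟨fun hk => ?_, fun hk a => ?_⟩
    · have hkC : (k : G) ∈ Subgroup.centralizer ((P : Subgroup G) : Set G) :=
        Subgroup.mem_centralizer_iff.mpr fun a ha => by
          have e := congrArg Subtype.val (hk ⟨a, ha⟩)
          change a * (k : G) * a⁻¹ = (k : G) at e
          exact mul_inv_eq_iff_eq_mul.mp e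
      rw [cent_seven hn h14 h21 P] at hkC
      rw [Set.mem_singleton_iff, Subtype.ext_iff, OneMemClass.coe_one, ← orderOf_eq_one_iff]
      have h1 := Subgroup.orderOf_dvd_natCard (s := (P : Subgroup G)) hkC
      rw [card_sylow_seven hn h14 h21 P] at h1
      rcases (Nat.dvd_prime (by norm_num : Nat.Prime 7)).mp h1 with e | e
      · exact e
      · exact absurd (e ▸ Subgroup.orderOf_dvd_natCard (s := K) k.2) h7
    · rw [Set.mem_singleton_iff] at hk
      subst hk
      exact map_one ((MulAut.conjNormal (H := K)).comp (P : Subgroup G).subtype a)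
  rw [hfix, Nat.card_coe_set_eq, Set.ncard_singleton] at h
  exact h

theorem not_card_eight (M : Subgroup G) [M.Normal] (hM : Nat.card M = 8)
    (hexp : ∀ m ∈ M, m ^ 2 = 1) : False := by
  haveI : Fact (Nat.Prime 7) := ⟨by norm_num⟩
  haveI : Fact (Nat.Prime 2) := ⟨Nat.prime_two⟩
  obtain ⟨P⟩ : Nonempty (Sylow 7 G) := inferInstance
  have hP := card_sylow_seven hn h14 h21 P
  obtain ⟨u, hu⟩ := exists_prime_orderOf_dvd_card'
    (G := Subgroup.normalizer ((P : Subgroup G) : Set G)) 2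
    (by rw [card_normalizer_seven hn h14 h21 P]; norm_num)
  rw [← Subgroup.orderOf_coe] at hu
  obtain ⟨v, hv⟩ := exists_prime_orderOf_dvd_card' (G := (P : Subgroup G)) 7 (by rw [hP])
  have hgen : ∀ {w : G}, w ∈ (P : Subgroup G) → w ≠ 1 →
      (P : Subgroup G) = Subgroup.zpowers w := by
    intro w hw hw1
    refine (Subgroup.eq_of_le_of_card_ge (Subgroup.zpowers_le.mpr hw) ?_).symm
    have h := Subgroup.orderOf_dvd_natCard (s := (P : Subgroup G)) hw
    rw [hP] at h
    rcases (Nat.dvd_prime (by norm_num : Nat.Prime 7)).mp h with e | e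
    · exact absurd (orderOf_eq_one_iff.mp e) hw1
    · rw [Nat.card_zpowers, e, hP]
  have hcent : ∀ {w g : G}, w ∈ (P : Subgroup G) → w ≠ 1 → Commute g w →
      g ∈ (P : Subgroup G) := by
    intro w g hw hw1 hc
    rw [← cent_seven hn h14 h21 P, hgen hw hw1, Subgroup.mem_centralizer_iff]
    intro z hz
    obtain ⟨i, rfl⟩ := Subgroup.mem_zpowers_iff.mp hz
    exact (hc.zpow_right i).symm
  set uu : G := (u : G) with huu
  set vv : G := (v : G) with hvv
  have hv7 : orderOf vv = 7 := by rw [hvv, Subgroup.orderOf_coe, hv]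
  have hu2 : uu * uu = 1 := by rw [← pow_two, ← hu, pow_orderOf_eq_one]
  have hui : uu⁻¹ = uu := inv_eq_of_mul_eq_one_right hu2
  have huP : uu ∉ (P : Subgroup G) := fun h => by
    have := Subgroup.orderOf_dvd_natCard (s := (P : Subgroup G)) h
    rw [hP, hu] at this
    norm_num at this
  set a := uu * vv * uu⁻¹ with ha
  have haP : a ∈ (P : Subgroup G) := (Subgroup.mem_normalizer_iff.mp u.2 vv).mp v.2
  have hinv : a = vv⁻¹ := by
    have hc : vv * a = a * vv := congrArg Subtype.val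
      ((@IsCyclic.commGroup (P : Subgroup G) _ (isCyclic_of_prime_card hP)).mul_comm ⟨vv, v.2⟩ ⟨a, haP⟩)
    by_contra hne
    have hne' : vv * a ≠ 1 := fun e => hne (eq_inv_of_mul_eq_one_right e)
    refine huP (hcent (mul_mem v.2 haP) hne' ?_)
    have e1 : uu * (vv * a) = a * vv * uu := by
      rw [ha]; simp only [hui, mul_assoc, hu2, mul_one]
    exact e1.trans (by rw [← hc])
  -- a fixed point of the involution
  obtain ⟨m, hm, hm1, hmu⟩ : ∃ m ∈ M, m ≠ 1 ∧ uu * m * uu⁻¹ = m := by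
    obtain ⟨⟨m, hm⟩, hm1⟩ := @exists_ne M (Finite.one_lt_card_iff_nontrivial.mp
      (by rw [hM]; norm_num : 1 < Nat.card M)) 1
    have hm1' : m ≠ 1 := fun e => hm1 (Subtype.ext e)
    by_cases hf : uu * m * uu⁻¹ = m
    · exact ⟨m, hm, hm1', hf⟩
    have hm' : uu * m * uu⁻¹ ∈ M := ‹M.Normal›.conj_mem m hm uu
    have hcM : m * (uu * m * uu⁻¹) = uu * m * uu⁻¹ * m := by
      have h := hexp _ (mul_mem hm hm')
      have h1 := hexp _ hm
      have h2 := hexp _ hm'
      rw [pow_two] at h h1 h2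
      calc m * (uu * m * uu⁻¹) = (m * (uu * m * uu⁻¹))⁻¹ := (inv_eq_of_mul_eq_one_right h).symm
        _ = uu * m * uu⁻¹ * m := by
          rw [mul_inv_rev, inv_eq_of_mul_eq_one_right h1, inv_eq_of_mul_eq_one_right h2]
    refine ⟨m * (uu * m * uu⁻¹), mul_mem hm hm', fun e => hf ?_, ?_⟩
    · rw [← inv_eq_of_mul_eq_one_right e]
      exact inv_eq_of_mul_eq_one_right (by rw [← pow_two, hexp _ hm])
    · conv_rhs => rw [hcM]
      simp only [hui, mul_assoc, hu2, mul_one]
  obtain ⟨f, hf⟩ : ∃ f : ℤ → G, ∀ i, f i = vv ^ i * m * (vv ^ i)⁻¹ := ⟨_, fun i => rfl⟩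
  have hfM : ∀ i, f i ∈ M := fun i => hf i ▸ ‹M.Normal›.conj_mem m hm _
  have hinj : ∀ i j, f i = f j → (7 : ℤ) ∣ i - j := by
    intro i j hij
    by_contra hd
    have hne : vv ^ (i - j) ≠ 1 := fun e => hd (by
      have := orderOf_dvd_iff_zpow_eq_one.mpr e; rwa [hv7] at this)
    have hc : Commute m (vv ^ (i - j)) := by
      have e : vv ^ (i - j) * m = m * vv ^ (i - j) := by
        have h := congrArg (fun x => (vv ^ j)⁻¹ * x * vv ^ i) hij
        simp only [hf] at h
        rw [show (vv ^ j)⁻¹ * (vv ^ i * m * (vv ^ i)⁻¹) * vv ^ i = (vv ^ j)⁻¹ * vv ^ i * m by group,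
          show (vv ^ j)⁻¹ * (vv ^ j * m * (vv ^ j)⁻¹) * vv ^ i = m * ((vv ^ j)⁻¹ * vv ^ i) by group] at h
        rw [zpow_sub, ((Commute.refl vv).zpow_zpow j i).inv_left.eq.symm]
        exact h
      exact e.symm
    have hmP := hcent (zpow_mem v.2 (i - j)) hne hc
    have h1 := Subgroup.orderOf_dvd_natCard (s := (P : Subgroup G)) hmP
    rw [hP] at h1
    have h2 := orderOf_dvd_of_pow_eq_one (hexp _ hm)
    exact hm1 (orderOf_eq_one_iff.mp (Nat.dvd_one.mp (by
      have h3 := Nat.dvd_gcd h2 h1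
      norm_num at h3 ⊢
      exact h3)))
  have hshift : ∀ k i, vv ^ k * f i * (vv ^ k)⁻¹ = f (k + i) := fun k i => by
    simp only [hf]; rw [zpow_add]; group
  have hflip : ∀ i, uu * f i * uu⁻¹ = f (-i) := by
    intro i
    have e : uu * vv ^ i * uu⁻¹ = vv ^ (-i) := by
      rw [← conj_zpow, ← ha, hinv, inv_zpow, zpow_neg]
    simp only [hf]
    calc uu * (vv ^ i * m * (vv ^ i)⁻¹) * uu⁻¹
        = (uu * vv ^ i * uu⁻¹) * (uu * m * uu⁻¹) * (uu * vv ^ i * uu⁻¹)⁻¹ := by group
      _ = vv ^ (-i) * m * (vv ^ (-i))⁻¹ := by rw [e, hmu]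
  have hper : ∀ i, f (i % 7) = f i := fun i => by
    have e : vv ^ (i % 7) = vv ^ i := by
      rw [show (7 : ℤ) = (orderOf vv : ℤ) by rw [hv7]; rfl, zpow_mod_orderOf]
    simp only [hf, e]
  have hne1 : ∀ i, f i ≠ 1 := fun i e => hm1 (by simp only [hf, conj_eq_one_iff] at e; exact e)
  -- every non-trivial element is a conjugate of `m`
  have hcov : ∀ x ∈ M, x ≠ 1 → ∃ k : ℤ, x = f k := by
    let φ : Option (Fin 7) → M := fun o => o.elim 1 fun i => ⟨f (i : ℕ), hfM _⟩
    have hφ : Function.Injective φ := by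
      rintro (_ | i) (_ | j) h <;> simp only [φ, Option.elim, Subtype.ext_iff, OneMemClass.coe_one] at h
      · rfl
      · exact absurd h.symm (hne1 _)
      · exact absurd h (hne1 _)
      · obtain ⟨c, hc⟩ := hinj _ _ h
        exact congrArg some (Fin.ext (by omega))
    have hsur := (hφ.bijective_of_nat_card_le (by rw [hM, Nat.card_eq_fintype_card]; rfl)).surjective
    intro x hx hx1
    obtain ⟨_ | i, hi⟩ := hsur ⟨x, hx⟩
    · exact absurd (congrArg Subtype.val hi).symm hx1
    · exact ⟨(i : ℕ), (congrArg Subtype.val hi).symm⟩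
  have hcomm : ∀ i j, f i * f j = f j * f i := fun i j => by
    have h := hexp _ (mul_mem (hfM i) (hfM j))
    have h1 := hexp _ (hfM i)
    have h2 := hexp _ (hfM j)
    rw [pow_two] at h h1 h2
    rw [← inv_eq_of_mul_eq_one_right h, mul_inv_rev, inv_eq_of_mul_eq_one_right h1,
      inv_eq_of_mul_eq_one_right h2]
  have hsq : ∀ i, f i * f i = 1 := fun i => by rw [← pow_two, hexp _ (hfM i)]
  obtain ⟨k, hk⟩ := hcov (f 1 * f 0) (mul_mem (hfM _) (hfM _)) fun e => by
    have h := hinj 1 0 (mul_right_cancel (e.trans (hsq 0).symm))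
    norm_num at h
  have hs : ∀ j, f (j + 1) * f j = f (j + k) := fun j => by
    have h := congrArg (fun x => vv ^ j * x * (vv ^ j)⁻¹) hk
    try simp only at h
    rw [show vv ^ j * (f 1 * f 0) * (vv ^ j)⁻¹ =
      vv ^ j * f 1 * (vv ^ j)⁻¹ * (vv ^ j * f 0 * (vv ^ j)⁻¹) by group] at h
    simpa only [hshift, add_zero] using h
  have hk' : f (1 - k) = f k := by
    have h := congrArg (fun x => uu * x * uu⁻¹) hk
    try simp only at h
    rw [show uu * (f 1 * f 0) * uu⁻¹ = uu * f 1 * uu⁻¹ * (uu * f 0 * uu⁻¹) by group, hflip, hflip,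
      hflip, neg_zero] at h
    have h1 := congrArg (fun x => vv ^ (1 : ℤ) * x * (vv ^ (1 : ℤ))⁻¹) h
    try simp only at h1
    rw [show vv ^ (1 : ℤ) * (f (-1) * f 0) * (vv ^ (1 : ℤ))⁻¹ =
      vv ^ (1 : ℤ) * f (-1) * (vv ^ (1 : ℤ))⁻¹ * (vv ^ (1 : ℤ) * f 0 * (vv ^ (1 : ℤ))⁻¹) by group,
      hshift, hshift, hshift] at h1
    norm_num at h1
    rw [sub_eq_add_neg, ← h1, hcomm, hk]
  obtain ⟨c, hc⟩ := hinj _ _ hk'
  have e1 : f 1 * f 0 = f 4 := by
    rw [hk, ← hper k, show k % 7 = 4 by omega]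
  have e2 : f 5 * f 4 = f 1 := by
    have h := hs 4
    rw [← hper (4 + k), show (4 + k) % 7 = 1 by omega] at h
    norm_num at h
    exact h
  have e3 : f 5 * f 0 = 1 := by
    have h : f 5 * (f 1 * f 0) = f 1 := by rw [e1, e2]
    calc f 5 * f 0 = f 1 * (f 5 * (f 1 * f 0)) := by
          rw [← mul_assoc, hcomm 1 5, mul_assoc (f 5), ← mul_assoc (f 1), hsq, one_mul]
      _ = 1 := by rw [h, hsq]
  have h := hinj 5 0 (mul_right_cancel (e3.trans (hsq 0).symm))
  norm_num at h

theorem not_abelian_minimal (M : Subgroup G) [M.Normal] (hne : M ≠ ⊥)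
    (hmin : ∀ N : Subgroup G, N.Normal → N ≠ ⊥ → N ≤ M → N = M) : ¬ IsMulCommutative M := by
  intro hab
  haveI : Fact (Nat.Prime 7) := ⟨by norm_num⟩
  have hlt : 1 < Nat.card M := M.one_lt_card_iff_ne_bot.mpr hne
  set q := (Nat.card M).minFac with hqdef
  have hq : q.Prime := Nat.minFac_prime hlt.ne'
  haveI := Fact.mk hq
  let Ω : Subgroup G :=
    { carrier := {g | g ∈ M ∧ g ^ q = 1}
      one_mem' := ⟨one_mem M, one_pow q⟩
      mul_mem' := fun {a b} ha hb => ⟨mul_mem ha.1 hb.1, by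
        rw [Commute.mul_pow (congrArg Subtype.val (hab.is_comm.comm ⟨a, ha.1⟩ ⟨b, hb.1⟩) : Commute a b),
          ha.2, hb.2, one_mul]⟩
      inv_mem' := fun {a} ha => ⟨inv_mem ha.1, by rw [inv_pow, ha.2, inv_one]⟩ }
  haveI hΩ : Ω.Normal := ⟨fun a ha g =>
    ⟨‹M.Normal›.conj_mem a ha.1 g, by rw [conj_pow, ha.2, mul_one, mul_inv_cancel]⟩⟩
  obtain ⟨x, hx⟩ := exists_prime_orderOf_dvd_card' (G := M) q (Nat.minFac_dvd _)
  have hΩM : Ω = M := hmin Ω hΩ (fun h => by
    have hx' : (x : G) ∈ Ω := ⟨x.2, by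
      rw [← SubmonoidClass.coe_pow, ← hx, pow_orderOf_eq_one, OneMemClass.coe_one]⟩
    rw [h, Subgroup.mem_bot] at hx'
    rw [← Subgroup.orderOf_coe, hx', orderOf_one] at hx
    exact hq.ne_one hx.symm) fun a ha => ha.1
  have hexp : ∀ m ∈ M, m ^ q = 1 := fun m hm => (hΩM.ge hm).2
  have hprimes : ∀ r : ℕ, r.Prime → r ∣ Nat.card M → r = q := by
    intro r hr hrd
    haveI := Fact.mk hr
    obtain ⟨y, hy⟩ := exists_prime_orderOf_dvd_card' (G := M) r hrd
    rw [← Subgroup.orderOf_coe] at hy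
    exact (Nat.prime_dvd_prime_iff_eq hr hq).mp (hy ▸ orderOf_dvd_of_pow_eq_one (hexp _ y.2))
  have h7 : ¬ 7 ∣ Nat.card M := by
    intro h7
    have h2 := hprimes 2 Nat.prime_two ((by norm_num : 2 ∣ 288).trans (dvd_of_seven_dvd hn h14 h21 M h7))
    have := hprimes 7 (by norm_num) h7
    omega
  have hmod := modEq_of_not_seven_dvd hn h14 h21 M h7
  have hd : Nat.card M ∣ 7 * 1728 := by
    rw [show 7 * 1728 = Nat.card G by rw [hn]]
    exact M.card_subgroup_dvd_card
  have hd' := (((by norm_num : Nat.Prime 7).coprime_iff_not_dvd.mpr h7).symm).dvd_of_dvd_mul_left hd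
  rcases key_small _ (Nat.lt_succ_of_le (Nat.le_of_dvd (by norm_num) hd'))
    (Nat.dvd_iff_mod_eq_zero.mp hd') hmod with h | h | h | h | h
  · omega
  · have h2 := hprimes 2 Nat.prime_two (by rw [h]; norm_num)
    exact not_card_eight hn h14 h21 M h (fun m hm => h2 ▸ hexp m hm)
  · have h2 := hprimes 2 Nat.prime_two (by rw [h]; norm_num)
    have h3 := hprimes 3 Nat.prime_three (by rw [h]; norm_num)
    omega
  · have h1 := Subgroup.card_eq_card_quotient_mul_card_subgroup M
    rw [hn, h] at h1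
    obtain ⟨Q⟩ : Nonempty (Sylow 7 (G ⧸ M)) := inferInstance
    have hQ : Nat.card (Q : Subgroup (G ⧸ M)) = 7 := by
      rw [Q.card_eq_multiplicity, show Nat.card (G ⧸ M) = 7 ^ 1 * 27 by omega,
        Nat.factorization_mul (by norm_num) (by norm_num), Finsupp.add_apply,
        Nat.Prime.factorization_pow (by norm_num), Finsupp.single_eq_same,
        Nat.factorization_eq_zero_of_not_dvd (by norm_num : ¬ 7 ∣ 27)]
      norm_num
    have hidx : (Q : Subgroup (G ⧸ M)).index = 27 := by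
      have := (Q : Subgroup (G ⧸ M)).card_mul_index
      rw [hQ] at this
      omega
    have hn1 : Nat.card (Sylow 7 (G ⧸ M)) = 1 := by
      have hm := card_sylow_modEq_one 7 (G ⧸ M)
      have hdv := Sylow.card_dvd_index Q
      rw [hidx] at hdv
      have hle := Nat.le_of_dvd (by norm_num) hdv
      rw [Nat.ModEq] at hm
      generalize Nat.card (Sylow 7 (G ⧸ M)) = s at *
      interval_cases s <;> omega
    haveI : Subsingleton (Sylow 7 (G ⧸ M)) := (Nat.card_eq_one_iff_unique.mp hn1).1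
    haveI : (Q : Subgroup (G ⧸ M)).Normal := Sylow.normal_of_subsingleton Q
    set K := (Q : Subgroup (G ⧸ M)).comap (QuotientGroup.mk' M) with hK
    have hKi : K.index = 27 := by
      rw [hK, Subgroup.index_comap_of_surjective _ (QuotientGroup.mk'_surjective M), hidx]
    have hKc : Nat.card K = 448 := by
      have := K.card_mul_index
      rw [hKi, hn] at this
      omega
    have := dvd_of_seven_dvd hn h14 h21 K (by rw [hKc]; norm_num)
    rw [hKc] at this
    norm_num at this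
  · have h2 := hprimes 2 Nat.prime_two (by rw [h]; norm_num)
    have h3 := hprimes 3 Nat.prime_three (by rw [h]; norm_num)
    omega

theorem exists_simple_normal :
    ∃ M : Subgroup G, M.Normal ∧ IsSimpleGroup M ∧ Nat.card M = 6048 ∧
      Subgroup.centralizer (M : Set G) = ⊥ := by
  haveI : Fact (Nat.Prime 7) := ⟨by norm_num⟩
  haveI : Finite (Subgroup G) := Finite.of_injective (fun K => (K : Set G)) SetLike.coe_injective
  haveI : Nontrivial G := Finite.one_lt_card_iff_nontrivial.mp (by rw [hn]; norm_num)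
  obtain ⟨M, -, ⟨hMn, hne⟩, hMmin⟩ :=
    (Set.toFinite {R : Subgroup G | R.Normal ∧ R ≠ ⊥}).exists_le_minimal
      (show (⊤ : Subgroup G) ∈ _ from ⟨inferInstance, top_ne_bot⟩)
  have hmin : ∀ N : Subgroup G, N.Normal → N ≠ ⊥ → N ≤ M → N = M := fun N hN hN0 hle =>
    le_antisymm hle (hMmin ⟨hN, hN0⟩ hle)
  obtain ⟨L, d⟩ := CfsgLib.MinNormal.exists_simpleConjugates hmin
    (not_abelian_minimal hn h14 h21 M hne hmin)
  haveI := d.simple
  have h7L : 7 ∣ Nat.card L := by
    by_contra h7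
    refine d.nab ⟨⟨IsSimpleGroup.comm_iff_isSolvable.mpr
      (CfsgLib.FourOrbit.isSolvable_of_two_primes Nat.prime_two Nat.prime_three (by norm_num) ?_)⟩⟩
    intro s hs hd
    have hd' : s ∣ 2 ^ 6 * (3 ^ 3 * 7) := by
      rw [show 2 ^ 6 * (3 ^ 3 * 7) = Nat.card G by rw [hn]; norm_num]
      exact hd.trans L.card_subgroup_dvd_card
    rcases (Nat.Prime.dvd_mul hs).mp hd' with h | h
    · exact Or.inl ((Nat.prime_dvd_prime_iff_eq hs Nat.prime_two).mp (hs.dvd_of_dvd_pow h))
    · rcases (Nat.Prime.dvd_mul hs).mp h with h | h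
      · exact Or.inr ((Nat.prime_dvd_prime_iff_eq hs Nat.prime_three).mp (hs.dvd_of_dvd_pow h))
      · exact absurd ((Nat.prime_dvd_prime_iff_eq hs (by norm_num)).mp h ▸ hd) h7
  obtain ⟨x, hx⟩ := exists_prime_orderOf_dvd_card' (G := L) 7 h7L
  rw [← Subgroup.orderOf_coe] at hx
  obtain ⟨P, hP⟩ := exists_sylow_eq hn h14 h21 hx
  have hcent : ∀ y : G, Commute y x → y ∈ Subgroup.zpowers (x : G) := by
    intro y hy
    rw [← hP, ← cent_seven hn h14 h21 P, hP, Subgroup.mem_centralizer_iff]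
    intro z hz
    obtain ⟨i, rfl⟩ := Subgroup.mem_zpowers_iff.mp hz
    exact (hy.zpow_right i).symm
  have hcj : ∀ g, CfsgLib.MinNormal.cj L g = L := by
    intro g
    by_contra hne'
    have h1 : CfsgLib.MinNormal.cj L g ≠ CfsgLib.MinNormal.cj L 1 := by
      rwa [CfsgLib.MinNormal.cj_one]
    obtain ⟨y, hy⟩ := exists_prime_orderOf_dvd_card' (G := CfsgLib.MinNormal.cj L g) 7
      (by rw [CfsgLib.MinNormal.card_cj]; exact h7L)
    rw [← Subgroup.orderOf_coe] at hy
    have hc : Commute (y : G) x :=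
      d.comm g 1 h1 y y.2 x ((CfsgLib.MinNormal.cj_one L).symm ▸ x.2)
    have hmem : (y : G) ∈ L := Subgroup.zpowers_le.mpr x.2 (hcent _ hc)
    have hb : (y : G) ∈ CfsgLib.MinNormal.cj L g ⊓ CfsgLib.MinNormal.cj L 1 :=
      ⟨y.2, by rw [CfsgLib.MinNormal.cj_one]; exact hmem⟩
    rw [d.inf g 1 h1, Subgroup.mem_bot] at hb
    rw [hb, orderOf_one] at hy
    norm_num at hy
  have hML : M = L := by
    rw [← d.sup]
    simp only [hcj, iSup_const]
  subst hML
  have h288 := dvd_of_seven_dvd hn h14 h21 M h7L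
  have hd : Nat.card M ∣ 12096 := hn ▸ M.card_subgroup_dvd_card
  obtain ⟨j, hj⟩ : 2016 ∣ Nat.card M :=
    Nat.Coprime.mul_dvd_of_dvd_of_dvd (by norm_num : Nat.Coprime 288 7) h288 h7L
  have hj6 : j ∣ 6 := by
    rw [hj, show 12096 = 2016 * 6 from rfl] at hd
    exact Nat.dvd_of_mul_dvd_mul_left (by norm_num) hd
  have hcard : Nat.card M = 6048 := by
    have hle := Nat.le_of_dvd (by norm_num) hj6
    have h1 : Nat.card M ≠ 2016 := Cfsg.Agent.S1017.result
    have h2 : Nat.card M ≠ 4032 := Cfsg.Agent.S0976.result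
    have h3 : Nat.card M ≠ 12096 := fun h => by
      letI : Fintype M := Fintype.ofFinite M
      exact false_12096 h
    have h0 : j ≠ 0 := fun h => by
      have := Nat.card_pos (α := M)
      omega
    interval_cases j <;> omega
  refine ⟨M, hMn, d.simple, hcard, ?_⟩
  rw [Subgroup.eq_bot_iff_forall]
  intro c hc
  by_contra hc1
  have hcP : c ∈ Subgroup.zpowers (x : G) :=
    hcent c (Subgroup.mem_centralizer_iff.mp hc x x.2).symm
  have hce : Subgroup.zpowers c = Subgroup.zpowers (x : G) :=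
    Subgroup.eq_of_le_of_card_ge (Subgroup.zpowers_le.mpr hcP) (by
      have h := Subgroup.orderOf_dvd_natCard (s := Subgroup.zpowers (x : G)) hcP
      rw [Nat.card_zpowers, hx] at h
      rw [Nat.card_zpowers, Nat.card_zpowers, hx]
      rcases (Nat.dvd_prime (by norm_num : Nat.Prime 7)).mp h with e | e
      · exact absurd (orderOf_eq_one_iff.mp e) hc1
      · exact e.ge)
  have hle : M ≤ Subgroup.zpowers (x : G) := by
    intro y hy
    refine hcent y ?_
    have hcy : Commute y c := Subgroup.mem_centralizer_iff.mp hc y hy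
    obtain ⟨i, hi⟩ := Subgroup.mem_zpowers_iff.mp (hce.ge (Subgroup.mem_zpowers (x : G)))
    rw [← hi]
    exact hcy.zpow_right i
  have := Nat.le_of_dvd (by rw [Nat.card_zpowers, hx]; norm_num) (Subgroup.card_dvd_of_le hle)
  rw [Nat.card_zpowers, hx, hcard] at this
  norm_num at this

end order

/-! ### The unitary group -/

section unitary

open CfsgLib.UThreeThree (K9)

theorem fact_three : Fact (Nat.Prime 3) := ⟨Nat.prime_three⟩

theorem isSimpleGroup_psu : IsSimpleGroup (Cfsg.PSU 3 K9 3) := by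
  haveI := fact_three
  have hF : Fintype.card K9 = 3 ^ 2 := CfsgLib.J2.UThree.card_K9
  have := CfsgLib.AutPSL.charP_of_card (p := 3) (F := K9) hF
  obtain ⟨K⟩ := CfsgLib.ClassicalAut.Unitary.exists_conj (F := K9) (p := 3) (f := 1) (q := 3)
    (by norm_num) (by rw [Nat.card_eq_fintype_card, hF])
  exact CfsgLib.Classical.Herm.isSimpleGroup K 3 le_rfl (by norm_num)

theorem card_psu : Nat.card (Cfsg.PSU 3 K9 3) = 6048 := by
  obtain ⟨e⟩ := CfsgLib.J2.UThree.nonempty_equiv_PSU
  rw [← Nat.card_congr e.toEquiv, CfsgLib.J2.UThree.card_H]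

/-- A group of order 12096 without elements of order 9, 14 and 21 is the automorphism group
of the unitary group. -/
theorem recognize {G : Type u} [Group G] [Finite G] (hn : Nat.card G = 12096)
    (h9 : ∀ g : G, orderOf g ≠ 9) (h14 : ∀ g : G, orderOf g ≠ 14) (h21 : ∀ g : G, orderOf g ≠ 21)
    (hT9 : ∀ g : Cfsg.PSU 3 K9 3, orderOf g ≠ 9) : Nonempty (G ≃* MulAut (Cfsg.PSU 3 K9 3)) := by
  haveI := fact_three
  haveI := isSimpleGroup_psu
  obtain ⟨M, hMn, hMs, hM, hC⟩ := exists_simple_normal hn h14 h21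
  obtain ⟨e⟩ := nonempty_equiv hM (fun g h => h9 g (by rw [Subgroup.orderOf_coe, h])) card_psu hT9
  have hinj : Function.Injective (MulAut.conjNormal (H := M)) := by
    rw [injective_iff_map_eq_one]
    intro g hg
    have hgC : g ∈ Subgroup.centralizer (M : Set G) := Subgroup.mem_centralizer_iff.mpr fun m hm => by
      have h := congrArg Subtype.val (DFunLike.congr_fun hg ⟨m, hm⟩)
      rw [MulAut.conjNormal_apply, MulAut.one_apply] at h
      exact (mul_inv_eq_iff_eq_mul.mp h).symm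
    rwa [hC, Subgroup.mem_bot] at hgC
  let φ : G →* MulAut (Cfsg.PSU 3 K9 3) :=
    (MulAut.congr e).toMonoidHom.comp (MulAut.conjNormal (H := M))
  have hφ : Function.Injective φ := (MulAut.congr e).injective.comp hinj
  have haut := Cfsg.Agent.S0815.result (F := K9) 3 1 le_rfl (q := 3) (by norm_num)
    CfsgLib.J2.UThree.card_K9 3 le_rfl (by norm_num)
  rw [card_psu] at haut
  norm_num at haut
  exact ⟨MulEquiv.ofBijective φ (hφ.bijective_of_nat_card_le (by rw [hn, haut]))⟩

end unitary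

theorem not_twentyone {T : Type u} [Group T] [Finite T] [IsSimpleGroup T] (hT : Nat.card T = 6048)
    (y : T) : orderOf y ≠ 21 := fun hy => by
  letI : Fintype T := Fintype.ofFinite _
  obtain ⟨S⟩ := exists_six hT
  have ho : orderOf (y ^ 7) = 3 := by
    rw [orderOf_pow, hy]
    norm_num
  have h3 : orderOf (y ^ 3) = 7 := by
    rw [orderOf_pow, hy]
    norm_num
  refine S.not_seven (y ^ 7) (fun e => by rw [e, orderOf_one] at ho; norm_num at ho)
    (by rw [ho]; norm_num) ?_
  have hm : y ^ 3 ∈ Subgroup.centralizer ({y ^ 7} : Set T) :=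
    Subgroup.mem_centralizer_singleton_iff.mpr ((Commute.refl y).pow_pow 3 7).eq
  have hd := Subgroup.orderOf_dvd_natCard (s := Subgroup.centralizer ({y ^ 7} : Set T)) hm
  rw [h3] at hd
  exact hd

/-! ### The group of type G2 over two elements -/

section chev

open Cfsg.Lie

variable {F : Type*} [Field F] [Fintype F] (hF : Fintype.card F = 2)
include hF

theorem card_chev : Nat.card ↥(chevG2.group F) = 12096 := by
  rw [Cfsg.Agent.S1059.result hF]
  norm_num

theorem orders_le (g : ↥(chevG2.group F)) :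
    ∃ T ∈ CfsgLib.GTwoSpec.targets 2 4, orderOf g ∣ T := by
  haveI : Fact (Nat.Prime 2) := ⟨Nat.prime_two⟩
  haveI : CharP F 2 := charP_of_card_eq_prime (by rw [hF])
  letI : Fintype (GaloisField 2 2) := Fintype.ofFinite _
  have hc4 : Fintype.card (GaloisField 2 2) = 2 ^ 2 := by
    rw [← Nat.card_eq_fintype_card, GaloisField.card 2 2 (by norm_num)]
  let e₀ : ZMod 2 ≃+* F := RingEquiv.ofBijective (ZMod.castHom dvd_rfl F)
    ((Fintype.bijective_iff_injective_and_card _).mpr
      ⟨(ZMod.castHom dvd_rfl F).injective, by rw [ZMod.card, hF]⟩)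
  let ι : F →+* GaloisField 2 2 := (ZMod.castHom dvd_rfl (GaloisField 2 2)).comp e₀.symm.toRingHom
  let Φ : GL chevG2.Idx F →* GL chevG2.Idx (GaloisField 2 2) := Matrix.GeneralLinearGroup.map ι
  have hle : (chevG2.group F).map Φ ≤ chevG2.group (GaloisField 2 2) := by
    rw [Subgroup.map_le_iff_le_comap, ChevalleyDatum.group, Subgroup.closure_le]
    rintro x ⟨r, t, hx⟩
    refine Subgroup.subset_closure ⟨r, ι t, ?_⟩
    rw [CfsgLib.GTwoTwo.xMat_map, ← hx]
    rfl
  have hΦ : Function.Injective Φ := fun a b h => Units.ext (Matrix.map_injective ι.injective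
    (congrArg Units.val h))
  obtain ⟨T, hT, hd⟩ := CfsgLib.GTwoSpec.exists_target_dvd (F := GaloisField 2 2) 2 2 (by norm_num)
    hc4 (by rw [hc4]; norm_num)
    (n := orderOf g) ⟨⟨Φ g, hle (Subgroup.mem_map_of_mem Φ g.2)⟩, by
      rw [← Subgroup.orderOf_coe, orderOf_injective Φ hΦ, Subgroup.orderOf_coe]⟩
  exact ⟨T, hT, hd⟩

theorem targets_cases {T : ℕ} (hT : T ∈ CfsgLib.GTwoSpec.targets 2 4) :
    T = 10 ∨ T = 6 ∨ T = 15 ∨ T = 21 ∨ T = 13 ∨ T = 8 ∨ T = 12 := by
  simp only [CfsgLib.GTwoSpec.targets, Set.mem_union, Set.mem_insert_iff, Set.mem_singleton_iff] at hT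
  norm_num at hT
  omega

theorem no_nine (g : ↥(chevG2.group F)) : orderOf g ≠ 9 := fun h => by
  obtain ⟨T, hT, hd⟩ := orders_le hF g
  rw [h] at hd
  rcases targets_cases hF hT with rfl | rfl | rfl | rfl | rfl | rfl | rfl <;> norm_num at hd

theorem no_fourteen (g : ↥(chevG2.group F)) : orderOf g ≠ 14 := fun h => by
  obtain ⟨T, hT, hd⟩ := orders_le hF g
  rw [h] at hd
  rcases targets_cases hF hT with rfl | rfl | rfl | rfl | rfl | rfl | rfl <;> norm_num at hd

open CfsgLib.UThreeThree (K9)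

theorem psu_no_nine (g : Cfsg.PSU 3 K9 3) : orderOf g ≠ 9 := fun h => by
  obtain ⟨e⟩ := CfsgLib.GTwoTwo.derived_equiv_PSU hF CfsgLib.J2.UThree.card_K9
  refine no_nine hF (e.symm g : ↥(chevG2.group F)) ?_
  rw [Subgroup.orderOf_coe, MulEquiv.orderOf_eq, h]

theorem no_twentyone (g : ↥(chevG2.group F)) : orderOf g ≠ 21 := fun h => by
  obtain ⟨e⟩ := CfsgLib.GTwoTwo.derived_equiv_PSU hF CfsgLib.J2.UThree.card_K9
  have hD : Nat.card (commutator ↥(chevG2.group F)) = 6048 := by
    rw [Nat.card_congr e.toEquiv, card_psu]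
  have hidx : (commutator ↥(chevG2.group F)).index = 2 := by
    have h1 := (commutator ↥(chevG2.group F)).card_mul_index
    rw [hD, card_chev hF] at h1
    omega
  have hmem : g ∈ commutator ↥(chevG2.group F) := by
    have h2 := Subgroup.sq_mem_of_index_two hidx g
    have e1 : g = (g ^ 2) ^ 11 := by
      rw [← pow_mul, show 2 * 11 = 21 + 1 by norm_num, pow_succ, ← h, pow_orderOf_eq_one, one_mul]
    rw [e1]
    exact pow_mem h2 11
  haveI := isSimpleGroup_psu
  refine not_twentyone card_psu (e ⟨g, hmem⟩) ?_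
  rw [MulEquiv.orderOf_eq, ← Subgroup.orderOf_coe]
  exact h

/-- Recognition of the group of type G2 over two elements by order and absent element orders. -/
theorem nonempty_equiv_chev {G : Type u} [Group G] [Finite G] (hn : Nat.card G = 12096)
    (h9 : ∀ g : G, orderOf g ≠ 9) (h14 : ∀ g : G, orderOf g ≠ 14) (h21 : ∀ g : G, orderOf g ≠ 21) :
    Nonempty (G ≃* ↥(chevG2.group F)) := by
  obtain ⟨a⟩ := recognize hn h9 h14 h21 (psu_no_nine hF)
  obtain ⟨b⟩ := recognize (card_chev hF) (no_nine hF) (no_fourteen hF) (no_twentyone hF) (psu_no_nine hF)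
  exact ⟨a.trans b.symm⟩

end chev

end CfsgLib.UThreeUnique
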